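import Groth.Agent.FibDescLib.Space

/-!
# Squares of open maps of diagrams of spaces
-/

universe u

open CategoryTheory CategoryTheory.Limits Opposite TopologicalSpace

namespace Groth.Agent.FibDescLib

variable {Sc Sd Sc' Sd' : Type} [Category.{0} Sc] [Category.{0} Sd] [Category.{0} Sc']
  [Category.{0} Sd']
  {Yc : Sc ⥤ TopCat.{u}} {Yd : Sd ⥤ TopCat.{u}} {Yc' : Sc' ⥤ TopCat.{u}} {Yd' : Sd' ⥤ TopCat.{u}}
  (a : Mor Yc Yd) (a' : Mor Yc' Yd') (P : Mor Yc' Yc) (Q : Mor Yd' Yd)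
  (σ : P.ψ ⋙ a.ψ ≅ a'.ψ ⋙ Q.ψ)
  (he : ∀ (i : Sc') (x : Yc'.obj i),
    Yd.map (σ.hom.app i) (a.e.app (P.ψ.obj i) (P.e.app i x)) =
      Q.e.app (a'.ψ.obj i) (a'.e.app i x))

include he in
lemma he_symm (i : Sc') (x : Yc'.obj i) :
    Yd.map (σ.inv.app i) (Q.e.app (a'.ψ.obj i) (a'.e.app i x)) =
      a.e.app (P.ψ.obj i) (P.e.app i x) := by
  rw [← he]
  refine (ConcreteCategory.congr_hom (Yd.map_comp (σ.hom.app i) (σ.inv.app i)) _).symm.trans ?_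
  rw [σ.hom_inv_id_app]
  exact map_id_apply _ _

/-- The square of total categories. -/
noncomputable def sqW : P.functor ⋙ a.functor ≅ a'.functor ⋙ Q.functor :=
  NatIso.ofComponents (fun A =>
    { hom := mkHom (σ.hom.app A.base) fun y hy => by
        obtain ⟨_, ⟨x, hx, rfl⟩, rfl⟩ := hy
        exact ⟨_, ⟨x, hx, rfl⟩, (he A.base x).symm⟩
      inv := mkHom (σ.inv.app A.base) fun y hy => by
        obtain ⟨_, ⟨x, hx, rfl⟩, rfl⟩ := hy
        exact ⟨_, ⟨x, hx, rfl⟩, (he_symm a a' P Q σ he A.base x).symm⟩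
      hom_inv_id := hom_ext _ _ (σ.hom_inv_id_app A.base)
      inv_hom_id := hom_ext _ _ (σ.inv_hom_id_app A.base) })
    (fun φ => hom_ext _ _ (σ.hom.naturality φ.base))

/-- Factorisations of maps on indices, with a distinguished one up to zigzags. -/
def SqInit (k : Sd') : Prop :=
  ∀ (n : Sc) (f : a.ψ.obj n ⟶ Q.ψ.obj k),
    ∃ (n₀ : Sc') (h₀ : n ⟶ P.ψ.obj n₀) (g₀ : a'.ψ.obj n₀ ⟶ k),
      a.ψ.map h₀ ≫ σ.hom.app n₀ ≫ Q.ψ.map g₀ = f ∧
      ∀ (n₁ : Sc') (h₁ : n ⟶ P.ψ.obj n₁) (g₁ : a'.ψ.obj n₁ ⟶ k),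
        a.ψ.map h₁ ≫ σ.hom.app n₁ ≫ Q.ψ.map g₁ = f →
          (∃ m : n₀ ⟶ n₁, h₀ ≫ P.ψ.map m = h₁ ∧ a'.ψ.map m ≫ g₁ = g₀) ∨
          (∃ m : n₁ ⟶ n₀, h₁ ≫ P.ψ.map m = h₀ ∧ a'.ψ.map m ≫ g₀ = g₁)

include he in
/-- The comparison of comma categories is initial. -/
theorem post_initial (hz : ∀ (i : Sc') (y : Yc.obj (P.ψ.obj i)),
      Yd.map (σ.hom.app i) (a.e.app (P.ψ.obj i) y) ∈ Set.range (Q.e.app (a'.ψ.obj i)) →
        y ∈ Set.range (P.e.app i))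
    (d' : Tot Yd') (H : SqInit a a' P Q σ d'.base) :
    (post (sqW a a' P Q σ he) d').Initial := by
  refine initial_of_zigzag _ fun X => ?_
  let c := X.right.unop
  let f : a.functor.obj c ⟶ Q.functor.obj d' := X.hom.unop
  obtain ⟨n₀, h₀, g₀, e₀, hu⟩ := H c.base f.base
  let top : ∀ {n₁ : Sc'} (_ : a'.ψ.obj n₁ ⟶ d'.base), Opens (Yc'.obj n₁) := fun {n₁} g₁ =>
    (Opens.map (a'.e.app n₁)).obj ((Opens.map (Yd'.map g₁)).obj (opn d'))
  let Z : ∀ {n₁ : Sc'} (g₁ : a'.ψ.obj n₁ ⟶ d'.base), StructuredArrow (op d') a'.functor.op :=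
    fun {n₁} g₁ => StructuredArrow.mk (Y := op (pt n₁ (top g₁)))
      (mkHom (A := a'.functor.obj (pt n₁ (top g₁))) (B := d') g₁ fun y hy => by
        obtain ⟨x, hx, rfl⟩ := hy
        exact hx).op
  have hh₀ : ∀ x ∈ opn c, Yc.map h₀ x ∈ opn (P.functor.obj (pt n₀ (top g₀))) := by
    intro x hx
    obtain ⟨u, hu', hue⟩ := hom_mem f (a.e.app c.base x) ⟨x, hx, rfl⟩
    let y := Yd.map (σ.hom.app n₀) (a.e.app (P.ψ.obj n₀) (Yc.map h₀ x))
    have hy : Yd.map (Q.ψ.map g₀) y = Q.e.app d'.base u := by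
      rw [hue]
      show _ = Yd.map f.base (a.e.app c.base x)
      refine Eq.trans ?_ (congrArg (fun (φ : a.ψ.obj c.base ⟶ Q.ψ.obj d'.base) =>
        Yd.map φ (a.e.app c.base x)) e₀)
      refine Eq.trans ?_ (map_comp_apply (Y := Yd) _ _ _).symm
      refine Eq.trans ?_ (map_comp_apply (Y := Yd) _ _ _).symm
      exact congrArg (fun w => Yd.map (Q.ψ.map g₀) (Yd.map (σ.hom.app n₀) w))
        (a.nat_apply h₀ x).symm
    obtain ⟨z', hz'⟩ := hz n₀ (Yc.map h₀ x) (Q.cart g₀ y ⟨u, hy.symm⟩)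
    refine ⟨z', ?_, hz'⟩
    show Yd'.map g₀ (a'.e.app n₀ z') ∈ opn d'
    have hy' : y = Q.e.app (a'.ψ.obj n₀) (a'.e.app n₀ z') := by
      rw [← he n₀ z', hz']
    rw [hy', Q.nat_apply] at hy
    rw [(Q.isOpenEmbedding _).injective hy]
    exact hu'
  refine ⟨CostructuredArrow.mk (Y := Z g₀) (StructuredArrow.homMk
    (mkHom (A := c) (B := P.functor.obj (pt n₀ (top g₀))) h₀ hh₀).op
    (Quiver.Hom.unop_inj (hom_ext _ _ e₀))), fun W => ?_⟩
  let c₁ := W.left.right.unop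
  let g₁ : a'.functor.obj c₁ ⟶ d' := W.left.hom.unop
  let h₁ : c ⟶ P.functor.obj c₁ := W.hom.right.unop
  have e₁ : a.ψ.map h₁.base ≫ σ.hom.app c₁.base ≫ Q.ψ.map g₁.base = f.base :=
    congrArg (fun φ => φ.base) (congrArg Quiver.Hom.unop (StructuredArrow.w W.hom))
  have htop : ∀ x ∈ opn c₁, Yc'.map (𝟙 c₁.base) x ∈ top g₁.base := fun x hx => by
    show Yd'.map g₁.base (a'.e.app c₁.base (Yc'.map (𝟙 c₁.base) x)) ∈ opn d'
    rw [map_id_apply]
    exact hom_mem g₁ _ ⟨x, hx, rfl⟩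
  let W' : CostructuredArrow (post (sqW a a' P Q σ he) d') X :=
    CostructuredArrow.mk (Y := Z g₁.base) (StructuredArrow.homMk
      (mkHom (A := c) (B := P.functor.obj (pt c₁.base (top g₁.base))) h₁.base fun x hx => by
        obtain ⟨z, hz, hze⟩ := hom_mem h₁ x hx
        refine ⟨z, ?_, hze⟩
        have := htop z hz
        rwa [map_id_apply] at this).op
      (Quiver.Hom.unop_inj (hom_ext _ _ e₁)))
  have z₁ : Zigzag W W' := Zigzag.of_inv (CostructuredArrow.homMk (StructuredArrow.homMk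
    (mkHom (A := c₁) (B := pt c₁.base (top g₁.base)) (𝟙 c₁.base) htop).op
    (Quiver.Hom.unop_inj (hom_ext _ _ (by
      show a'.ψ.map (𝟙 c₁.base) ≫ g₁.base = g₁.base
      rw [CategoryTheory.Functor.map_id, Category.id_comp]))))
    (StructuredArrow.hom_ext _ _ (Quiver.Hom.unop_inj (hom_ext _ _ (by
      show h₁.base ≫ P.ψ.map (𝟙 c₁.base) = h₁.base
      rw [CategoryTheory.Functor.map_id]; exact Category.comp_id _)))))
  refine z₁.trans ?_
  rcases hu c₁.base h₁.base g₁.base e₁ with ⟨m, hm, hm'⟩ | ⟨m, hm, hm'⟩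
  · refine Zigzag.of_hom (CostructuredArrow.homMk (StructuredArrow.homMk
      (mkHom (A := pt n₀ (top g₀)) (B := pt c₁.base (top g₁.base)) m fun x hx => ?_).op
      (Quiver.Hom.unop_inj (hom_ext _ _ hm')))
      (StructuredArrow.hom_ext _ _ (Quiver.Hom.unop_inj (hom_ext _ _ hm))))
    show Yd'.map g₁.base (a'.e.app c₁.base (Yc'.map m x)) ∈ opn d'
    rw [← a'.nat_apply]
    exact (map_comp_apply (Y := Yd') (a'.ψ.map m) g₁.base _) ▸ (hm'.symm ▸ hx :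
      Yd'.map (a'.ψ.map m ≫ g₁.base) (a'.e.app n₀ x) ∈ opn d')
  · refine Zigzag.of_inv (CostructuredArrow.homMk (StructuredArrow.homMk
      (mkHom (A := pt c₁.base (top g₁.base)) (B := pt n₀ (top g₀)) m fun x hx => ?_).op
      (Quiver.Hom.unop_inj (hom_ext _ _ hm')))
      (StructuredArrow.hom_ext _ _ (Quiver.Hom.unop_inj (hom_ext _ _ hm))))
    show Yd'.map g₀ (a'.e.app n₀ (Yc'.map m x)) ∈ opn d'
    rw [← a'.nat_apply]
    exact (map_comp_apply (Y := Yd') (a'.ψ.map m) g₀ _) ▸ (hm'.symm ▸ hx :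
      Yd'.map (a'.ψ.map m ≫ g₀) (a'.e.app c₁.base x) ∈ opn d')

/-- The cartesian condition holds when the first leg of the second row is surjective. -/
lemma cart_of_surjective
    (he : ∀ (i : Sc') (x : Yc'.obj i),
      Yd.map (σ.hom.app i) (a.e.app (P.ψ.obj i) (P.e.app i x)) =
        Q.e.app (a'.ψ.obj i) (a'.e.app i x))
    (hsurj : ∀ i, Function.Surjective (a'.e.app i)) (i : Sc') (y : Yc.obj (P.ψ.obj i))
    (h : Yd.map (σ.hom.app i) (a.e.app (P.ψ.obj i) y) ∈ Set.range (Q.e.app (a'.ψ.obj i))) :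
    y ∈ Set.range (P.e.app i) := by
  obtain ⟨u, hu⟩ := h
  obtain ⟨z, rfl⟩ := hsurj i u
  refine ⟨z, (a.isOpenEmbedding _).injective ?_⟩
  rw [← he_symm a a' P Q σ he i z, hu]
  refine (ConcreteCategory.congr_hom (Yd.map_comp (σ.hom.app i) (σ.inv.app i)) _).symm.trans ?_
  rw [σ.hom_inv_id_app]
  exact map_id_apply _ _

end Groth.Agent.FibDescLib
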