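import Groth.Agent.FibDescLib.SiteDesc
import Groth.Agent.FibDescLib.SpaceSq

/-!
# Augmented diagrams of spaces: the internal and the prelude form of cohomological descent
-/

universe u

open CategoryTheory CategoryTheory.Limits Opposite TopologicalSpace Pseudofunctor.CoGrothendieck

namespace Groth.Agent.FibDescLib

open Groth.Agent.CohDerLib.Acyclic

/-- Base change along a functor of indices. -/
noncomputable def bcMor {S S' : Type} [Category.{0} S] [Category.{0} S'] (φ : S' ⥤ S)
    (Y : S ⥤ TopCat.{u}) : Mor (φ ⋙ Y) Y where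
  ψ := φ
  e := 𝟙 _
  isOpenEmbedding i := by
    rw [NatTrans.id_app]
    exact Topology.IsOpenEmbedding.id
  cart b y _ := ⟨y, rfl⟩

@[simp] lemma bcMor_ψ {S S' : Type} [Category.{0} S] [Category.{0} S'] (φ : S' ⥤ S)
    (Y : S ⥤ TopCat.{u}) : (bcMor φ Y).ψ = φ := rfl

lemma bcMor_surjective {S S' : Type} [Category.{0} S] [Category.{0} S'] (φ : S' ⥤ S)
    (Y : S ⥤ TopCat.{u}) (i : S') : Function.Surjective ((bcMor φ Y).e.app i) :=
  fun y => ⟨y, rfl⟩

/-- The inclusion of a point of the index category. -/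
noncomputable abbrev ptF {S : Type} [Category.{0} S] (k : S) : Discrete PUnit.{1} ⥤ S :=
  Functor.fromPUnit k

/-- Comma categories of the inclusion of a point. -/
def multiInitPt {S : Type} [Category.{0} S] (k : S) : Mor.MultiInit (ptF k) where
  κ j := j ⟶ k
  obj _ := ⟨⟨⟩⟩
  hom a := a
  exists_fac {j i} b := ⟨b, eqToHom (Subsingleton.elim _ _), Category.comp_id b⟩
  eq_of_fac g g' h := (Category.comp_id _).symm.trans (h.trans (Category.comp_id _))
  hom_ext g g' _ := Subsingleton.elim g g'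

variable {S S₀ : Type} [Category.{0} S] [Category.{0} S₀] (φ : S₀ ⥤ S) (k : S)
  (Y : S ⥤ TopCat.{u})

/-- Descent for the part `φ` of a diagram towards the point `k`. -/
abbrev Desc : Prop :=
  DescS (bcMor φ Y).functor (bcMor (ptF k) Y).functor (jt _) (jt _) (jt Y)

instance pl_preservesFiniteLimits :
    PreservesFiniteLimits
      (pl (bcMor φ Y).functor (bcMor (ptF k) Y).functor (jt _) (jt _) (jt Y)) := by
  have := (bcMor (ptF k) Y).preservesFiniteLimits_Ls (multiInitPt k)
  exact comp_preservesFiniteLimits _ _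

section Equivalence

variable {C D : Type u} [Category.{u} C] [Category.{u} D] (G : C ⥤ D) [G.Full] [G.Faithful]
  [G.EssSurj] (J : GrothendieckTopology C) (K : GrothendieckTopology D) [G.IsContinuous J K]
  [G.IsCocontinuous J K]

omit [G.Full] [G.Faithful] in
lemma reflectsIso_rs {H H' : Sheaf K AddCommGrpCat.{u}} (f : H ⟶ H')
    (h : IsIso ((rs G J K).map f)) : IsIso f := by
  have : IsIso ((sheafToPresheaf K AddCommGrpCat.{u}).map f) := by
    rw [NatTrans.isIso_iff_isIso_app]
    intro d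
    have e := G.objObjPreimageIso d.unop
    have h' : IsIso (((rs G J K).map f).hom.app (op (G.objPreimage d.unop))) :=
      inferInstanceAs (IsIso (((sheafToPresheaf J AddCommGrpCat.{u}).map ((rs G J K).map f)).app _))
    have he : f.hom.app d = H.obj.map e.hom.op ≫
        ((rs G J K).map f).hom.app (op (G.objPreimage d.unop)) ≫ H'.obj.map e.inv.op := by
      change _ = _ ≫ f.hom.app (op (G.obj (G.objPreimage d.unop))) ≫ _
      rw [← f.hom.naturality e.inv.op, ← Category.assoc, ← H.obj.map_comp, ← op_comp, e.inv_hom_id]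
      simp
    change IsIso (f.hom.app d)
    rw [he]
    exact IsIso.comp_isIso' (H.obj.mapIso e.op).isIso_hom
      (IsIso.comp_isIso' h' (H'.obj.mapIso e.symm.op).isIso_hom)
  exact isIso_of_reflects_iso f (sheafToPresheaf K AddCommGrpCat.{u})

lemma isIso_counit_adjR : IsIso (adjR G J K).counit := by
  rw [NatTrans.isIso_iff_isIso_app]
  intro H
  have : IsIso ((sheafToPresheaf J AddCommGrpCat.{u}).map ((adjR G J K).counit.app H)) := by
    rw [NatTrans.isIso_iff_isIso_app]
    intro c
    exact Functor.RightExtension.IsPointwiseRightKanExtensionAt.isIso_hom_app _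
      (isPointwise G J K H (G.op.obj c))
  exact isIso_of_reflects_iso _ (sheafToPresheaf J AddCommGrpCat.{u})

lemma isIso_unit_adjR : IsIso (adjR G J K).unit := by
  have := isIso_counit_adjR G J K
  rw [NatTrans.isIso_iff_isIso_app]
  intro H
  refine reflectsIso_rs G J K _ ?_
  have h := (adjR G J K).left_triangle_components H
  have : IsIso ((rs G J K).map ((adjR G J K).unit.app H) ≫
      (adjR G J K).counit.app ((rs G J K).obj H)) := by
    rw [h]; exact inferInstanceAs (IsIso (𝟙 _))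
  exact IsIso.of_isIso_comp_right _ ((adjR G J K).counit.app ((rs G J K).obj H))

lemma isEquivalence_rs : (rs G J K).IsEquivalence := by
  have := isIso_counit_adjR G J K
  have := isIso_unit_adjR G J K
  exact (adjR G J K).toEquivalence.isEquivalence_functor

lemma isEquivalence_Rs : (Rs G J K).IsEquivalence := by
  have := isEquivalence_rs G J K
  exact (adjR G J K).isEquivalence_right_of_isEquivalence_left

lemma isEquivalence_Ls : (Ls G J K).IsEquivalence := by
  have := isEquivalence_rs G J K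
  exact (adjL G J K).isEquivalence_left_of_isEquivalence_right

/-- An equivalence satisfies descent. -/
lemma descAdj_of_isEquivalence {C' D' : Type*} [Category C'] [Abelian C'] [Category D'] [Abelian D']
    [HasInjectiveResolutions D'] {p : C' ⥤ D'} {q : D' ⥤ C'} (adj : p ⊣ q) [p.Additive]
    [q.Additive] [q.IsEquivalence] : DescAdj adj where
  isIso_unit := by
    have := adj.isEquivalence_left_of_isEquivalence_right
    infer_instance
  acy X i hi := by
    obtain ⟨j, rfl⟩ := Nat.exists_eq_add_of_le hi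
    rw [Nat.succ_eq_add_one, Nat.zero_add, Nat.add_comm]
    let I := injectiveResolution (p.obj X)
    refine IsZero.of_iso ?_ (I.isoRightDerivedObj q (j + 1))
    refine HomologicalComplex.ExactAt.isZero_homology ?_
    exact (I.cocomplex_exactAt_succ j).map q

end Equivalence

section Prelude

variable {D : Type} [Category.{0} D] (Z : (WithInitial D)ᵒᵖ ⥤ TopCat.{u})

/-- The comparison of base sites. -/
noncomputable abbrev ιp : Opens (Z.obj (FibDesc.bot D)) ⥤ Tot (ptF (FibDesc.bot D) ⋙ Z) :=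
  ι (tf (ptF (FibDesc.bot D) ⋙ Z)) ⟨⟨⟩⟩

instance : (ιp Z).IsContinuous (Opens.grothendieckTopology (Z.obj (FibDesc.bot D))) (jt _) :=
  Groth.Agent.FibSite.ι_isContinuous (isPre _) _

instance : (ιp Z).IsCocontinuous (Opens.grothendieckTopology (Z.obj (FibDesc.bot D))) (jt _) :=
  Groth.Agent.FibSite.ι_isCocontinuous (tops _) (isPre _) _

instance : (ιp Z).EssSurj := ⟨fun A => ⟨A.fiber, ⟨eqToIso (by
  obtain ⟨⟨⟨⟩⟩, U⟩ := A
  rfl)⟩⟩⟩

instance : (ιp Z).Faithful := ⟨fun {_ _} _ _ _ =>
  @Subsingleton.elim _ (inferInstanceAs (Subsingleton ((_ : Opens (Z.obj (FibDesc.bot D))) ⟶ _))) _ _⟩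

instance : (ιp Z).Full := ⟨fun {U V} f => ⟨homOfLE (fun x hx => by
    have := hom_mem f x hx
    exact (map_id_apply (Y := Z) (FibDesc.bot D) x) ▸ this),
  hom_ext _ _ (Subsingleton.elim _ _)⟩⟩

lemma img_bcMor {S S' : Type} [Category.{0} S] [Category.{0} S'] (φ : S' ⥤ S)
    (Y : S ⥤ TopCat.{u}) (i : S') (U : Opens ((φ ⋙ Y).obj i)) : (bcMor φ Y).img i U = U := by
  ext x
  exact ⟨fun ⟨y, hy, e⟩ => e ▸ hy, fun hx => ⟨x, hx, rfl⟩⟩

lemma mem_id {S : Type} [Category.{0} S] {Y : S ⥤ TopCat.{u}} {i : S} {U : Opens (Y.obj i)}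
    {x : Y.obj i} (h : x ∈ U) : Y.map (𝟙 i) x ∈ U :=
  (map_id_apply i x).symm ▸ h

lemma mem_img_iff {S S' : Type} [Category.{0} S] [Category.{0} S'] (φ : S' ⥤ S)
    (Y : S ⥤ TopCat.{u}) (i : S') (U : Opens ((φ ⋙ Y).obj i)) (x : (φ ⋙ Y).obj i) :
    x ∈ (bcMor φ Y).img i U ↔ x ∈ U :=
  ⟨fun ⟨y, hy, e⟩ => e ▸ hy, fun hx => ⟨x, hx, rfl⟩⟩

/-- Comparison with the inclusion of the part. -/
noncomputable def inclIso :
    (bcMor (FibDesc.toAug D) Z).functor ≅ FibDesc.incl (FibDesc.topAug Z) :=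
  NatIso.ofComponents (fun A =>
    { hom := mkHom (Y := Z) (A := (bcMor (FibDesc.toAug D) Z).functor.obj A)
        (B := (FibDesc.incl (FibDesc.topAug Z)).obj A) (𝟙 _) fun x hx =>
          mem_id (Y := Z) ((mem_img_iff _ Z A.base (opn A) x).1 hx)
      inv := mkHom (Y := Z) (A := (FibDesc.incl (FibDesc.topAug Z)).obj A)
        (B := (bcMor (FibDesc.toAug D) Z).functor.obj A) (𝟙 _) fun x hx =>
          mem_id (Y := Z) ((mem_img_iff _ Z A.base (opn A) x).2 hx)
      hom_inv_id := hom_ext _ _ (Category.comp_id _)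
      inv_hom_id := hom_ext _ _ (Category.comp_id _) })
    (fun φ => hom_ext _ _ ((Category.comp_id _).trans (Category.id_comp _).symm))

/-- Comparison with the inclusion of the base. -/
noncomputable def epsIso :
    ιp Z ⋙ (bcMor (ptF (FibDesc.bot D)) Z).functor ≅ FibDesc.eps (FibDesc.topAug Z) :=
  NatIso.ofComponents (fun U =>
    { hom := mkHom (Y := Z)
        (A := (bcMor (ptF (FibDesc.bot D)) Z).functor.obj ((ιp Z).obj U))
        (B := (FibDesc.eps (FibDesc.topAug Z)).obj U) (𝟙 _) fun x hx =>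
          mem_id (Y := Z) ((mem_img_iff (ptF (FibDesc.bot D)) Z ⟨⟨⟩⟩ U x).1 hx)
      inv := mkHom (Y := Z) (A := (FibDesc.eps (FibDesc.topAug Z)).obj U)
        (B := (bcMor (ptF (FibDesc.bot D)) Z).functor.obj ((ιp Z).obj U)) (𝟙 _) fun x hx =>
          mem_id (Y := Z) ((mem_img_iff (ptF (FibDesc.bot D)) Z ⟨⟨⟩⟩ U x).2 hx)
      hom_inv_id := hom_ext _ _ (Category.comp_id _)
      inv_hom_id := hom_ext _ _ (Category.comp_id _) })
    (fun φ => hom_ext _ _ ((Category.comp_id _).trans (Category.id_comp _).symm))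

lemma isCocontinuous_of_natIso {C D : Type*} [Category C] [Category D] {F G : C ⥤ D} (e : F ≅ G)
    (J : GrothendieckTopology C) (K : GrothendieckTopology D) [F.IsCocontinuous J K] :
    G.IsCocontinuous J K where
  cover_lift {U R} hR := by
    refine J.superset_covering ?_ (F.cover_lift J K (K.pullback_stable (e.hom.app U) hR))
    intro V g hg
    change R (F.map g ≫ e.hom.app U) at hg
    change R (G.map g)
    have := R.downward_closed hg (e.inv.app V)
    rwa [e.hom.naturality g, e.inv_hom_id_app_assoc] at this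

instance : (FibDesc.incl (FibDesc.topAug Z)).IsContinuous
    (FibDesc.totPart (FibDesc.topAug Z) (FibDesc.topAugTop Z))
    (FibDesc.totAug (FibDesc.topAug Z) (FibDesc.topAugTop Z)) :=
  Functor.isContinuous_of_iso (inclIso Z) (jt (FibDesc.toAug D ⋙ Z)) (jt Z)

instance : (FibDesc.incl (FibDesc.topAug Z)).IsCocontinuous
    (FibDesc.totPart (FibDesc.topAug Z) (FibDesc.topAugTop Z))
    (FibDesc.totAug (FibDesc.topAug Z) (FibDesc.topAugTop Z)) :=
  isCocontinuous_of_natIso (inclIso Z) (jt (FibDesc.toAug D ⋙ Z)) (jt Z)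

instance : (FibDesc.eps (FibDesc.topAug Z)).IsContinuous (FibDesc.topAugTop Z (FibDesc.bot D))
    (FibDesc.totAug (FibDesc.topAug Z) (FibDesc.topAugTop Z)) :=
  Groth.Agent.FibSite.ι_isContinuous (isPre Z) _

/-- The inclusion of the part, with our types. -/
noncomputable def inclO : Tot (FibDesc.toAug D ⋙ Z) ⥤ Tot Z := FibDesc.incl (FibDesc.topAug Z)

/-- The inclusion of the base, with our types. -/
noncomputable def epsO : Opens (Z.obj (FibDesc.bot D)) ⥤ Tot Z := FibDesc.eps (FibDesc.topAug Z)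

instance : (inclO Z).IsContinuous (jt (FibDesc.toAug D ⋙ Z)) (jt Z) :=
  Functor.isContinuous_of_iso (inclIso Z) (jt (FibDesc.toAug D ⋙ Z)) (jt Z)

instance : (inclO Z).IsCocontinuous (jt (FibDesc.toAug D ⋙ Z)) (jt Z) :=
  isCocontinuous_of_natIso (inclIso Z) (jt (FibDesc.toAug D ⋙ Z)) (jt Z)

instance : (epsO Z).IsContinuous
    (Opens.grothendieckTopology (Z.obj (FibDesc.bot D))) (jt Z) :=
  Groth.Agent.FibSite.ι_isContinuous (isPre Z) _

/-- Comparison of direct images. -/
noncomputable def pushIso :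
    pr (bcMor (FibDesc.toAug D) Z).functor (bcMor (ptF (FibDesc.bot D)) Z).functor (jt _) (jt _)
        (jt Z) ⋙ rs (ιp Z) (Opens.grothendieckTopology (Z.obj (FibDesc.bot D))) (jt _) ≅
      pr (inclO Z) (epsO Z) (Opens.grothendieckTopology (Z.obj (FibDesc.bot D))) (jt _) (jt Z) :=
  haveI := Functor.isContinuous_comp (ιp Z) (bcMor (ptF (FibDesc.bot D)) Z).functor
    (Opens.grothendieckTopology (Z.obj (FibDesc.bot D))) (jt _) (jt Z)
  Functor.associator _ _ _ ≪≫ Functor.isoWhiskerLeft _
      (Functor.sheafPushforwardContinuousComp' (FG := epsO Z) (epsIso Z) AddCommGrpCat.{u} _ _ _) ≪≫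
    Functor.isoWhiskerRight
      (((adjR (bcMor (FibDesc.toAug D) Z).functor (jt _) (jt Z)).ofNatIsoLeft
        (Functor.sheafPushforwardContinuousIso (F' := inclO Z) (inclIso Z) AddCommGrpCat.{u} (jt _) (jt Z))).rightAdjointUniq
          (adjR (inclO Z) (jt (FibDesc.toAug D ⋙ Z)) (jt Z))) _

attribute [local instance] HasDerivedCategory.standard

instance plO_preservesFiniteLimits :
    PreservesFiniteLimits
      (pl (inclO Z) (epsO Z) (Opens.grothendieckTopology (Z.obj (FibDesc.bot D))) (jt _) (jt Z)) := by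
  let J₀ := Opens.grothendieckTopology (Z.obj (FibDesc.bot D))
  have : (rs (ιp Z) J₀ (jt _)).IsEquivalence := isEquivalence_rs _ _ _
  have : (Ls (ιp Z) J₀ (jt _)).IsEquivalence := isEquivalence_Ls _ _ _
  have hlim : PreservesLimitsOfSize.{0, 0} (Ls (ιp Z) J₀ (jt _)) :=
    (Ls (ιp Z) J₀ (jt _)).asEquivalence.symm.toAdjunction.rightAdjoint_preservesLimits
  have : PreservesFiniteLimits (Ls (ιp Z) J₀ (jt _)) :=
    ⟨fun J _ _ => hlim.preservesLimitsOfShape⟩
  have : PreservesFiniteLimits (pl (bcMor (FibDesc.toAug D) Z).functor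
      (bcMor (ptF (FibDesc.bot D)) Z).functor (jt _) (jt _) (jt Z)) :=
    pl_preservesFiniteLimits (FibDesc.toAug D) (FibDesc.bot D) Z
  have : PreservesFiniteLimits (Ls (ιp Z) J₀ (jt _) ⋙ pl (bcMor (FibDesc.toAug D) Z).functor
      (bcMor (ptF (FibDesc.bot D)) Z).functor (jt _) (jt _) (jt Z)) :=
    comp_preservesFiniteLimits _ _
  exact preservesFiniteLimits_of_natIso
    ((((adjL (ιp Z) J₀ (jt _)).comp (adjS (bcMor (FibDesc.toAug D) Z).functor
      (bcMor (ptF (FibDesc.bot D)) Z).functor (jt _) (jt _) (jt Z))).ofNatIsoRight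
        (pushIso Z)).leftAdjointUniq (adjS (inclO Z) (epsO Z) J₀ (jt _) (jt Z)))

/-- Descent for the adjunction with our types agrees with the internal one. -/
theorem descO_iff :
    DescS (inclO Z) (epsO Z) (Opens.grothendieckTopology (Z.obj (FibDesc.bot D))) (jt _) (jt Z) ↔
      Desc (FibDesc.toAug D) (FibDesc.bot D) Z := by
  let J₀ := Opens.grothendieckTopology (Z.obj (FibDesc.bot D))
  let adjE := adjL (ιp Z) J₀ (jt _)
  let adjE' := adjR (ιp Z) J₀ (jt _)
  have : (rs (ιp Z) J₀ (jt _)).IsEquivalence := isEquivalence_rs _ _ _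
  have : (Rs (ιp Z) J₀ (jt _)).IsEquivalence := isEquivalence_Rs _ _ _
  constructor
  · intro h
    have h₂ := (descAdj_of_isEquivalence adjE').comp h
    refine DescAdj.congrRight ?_ h₂
    exact Functor.isoWhiskerRight (pushIso Z).symm _ ≪≫ Functor.associator _ _ _ ≪≫
      Functor.isoWhiskerLeft _ (haveI := isIso_unit_adjR (ιp Z) J₀ (jt _)
        (asIso adjE'.unit).symm) ≪≫ Functor.rightUnitor _
  · intro h
    exact DescAdj.congrRight (pushIso Z) ((descAdj_of_isEquivalence adjE).comp h)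

/-- The two notions of descent agree. -/
theorem isCohDescentTop_iff
    [HasSheafify (FibDesc.topAugTop Z (FibDesc.bot D)) AddCommGrpCat.{u}]
    [HasSheafify (FibDesc.totPart (FibDesc.topAug Z) (FibDesc.topAugTop Z)) AddCommGrpCat.{u}] :
    FibDesc.IsCohDescentTop Z ↔ Desc (FibDesc.toAug D) (FibDesc.bot D) Z := by
  refine Iff.trans ?_ (descO_iff Z)
  let adjO := adjS (inclO Z) (epsO Z) (Opens.grothendieckTopology (Z.obj (FibDesc.bot D)))
    (jt (FibDesc.toAug D ⋙ Z)) (jt Z)
  have : PreservesFiniteColimits (pl (inclO Z) (epsO Z)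
      (Opens.grothendieckTopology (Z.obj (FibDesc.bot D))) (jt (FibDesc.toAug D ⋙ Z)) (jt Z)) :=
    have h0 : PreservesColimitsOfSize.{0, 0} (pl (inclO Z) (epsO Z)
        (Opens.grothendieckTopology (Z.obj (FibDesc.bot D))) (jt (FibDesc.toAug D ⋙ Z)) (jt Z)) :=
      adjO.leftAdjoint_preservesColimits
    ⟨fun J _ _ => h0.preservesColimitsOfShape⟩
  constructor
  · rintro ⟨_, _, _, _, _, hp, hbij⟩
    exact DescAdj.of_bijective adjO hbij
  · intro h
    exact ⟨Groth.Agent.FibSite.ι_isContinuous (isPre Z) _, (adjL (epsO Z) _ (jt Z)).isRightAdjoint,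
      Functor.isContinuous_of_iso (inclIso Z) (jt (FibDesc.toAug D ⋙ Z)) (jt Z),
      isCocontinuous_of_natIso (inclIso Z) (jt (FibDesc.toAug D ⋙ Z)) (jt Z), inferInstance,
      plO_preservesFiniteLimits Z, DescAdj.bijective adjO h⟩

end Prelude

end Groth.Agent.FibDescLib
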