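import Groth.Agent.SSetLib.Cosk
import Mathlib

/-!
# Morphisms of coskeletal objects which are isomorphisms below the coskeletal degree
-/

universe v u

open CategoryTheory CategoryTheory.Limits Opposite Simplicial

namespace Groth.Agent.FibDescLib

open Groth.Agent.SSetLib (UniqueLift hom_ext_of_le exists_extension natTrans_ext)

/-- Factorisations through dimensions at most `m`. -/
def Fac (m : ℕ) {k p : ℕ} (χ : ⦋k⦌ ⟶ ⦋p⦌) : Prop :=
  ∃ (j : ℕ) (_ : j ≤ m) (f : ⦋k⦌ ⟶ ⦋j⦌) (g : ⦋j⦌ ⟶ ⦋p⦌), f ≫ g = χ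

lemma Fac.of_src_le {m k p : ℕ} (hk : k ≤ m) (χ : ⦋k⦌ ⟶ ⦋p⦌) : Fac m χ :=
  ⟨k, hk, 𝟙 _, χ, Category.id_comp _⟩

lemma Fac.of_tgt_le {m k p : ℕ} (hp : p ≤ m) (χ : ⦋k⦌ ⟶ ⦋p⦌) : Fac m χ :=
  ⟨p, hp, χ, 𝟙 _, Category.comp_id _⟩

lemma eq_of_not_fac {m k p : ℕ} (hk : k ≤ m + 1) {χ : ⦋k⦌ ⟶ ⦋p⦌} (h : ¬Fac m χ) : k = m + 1 := by
  by_contra hne
  exact h (Fac.of_src_le (by omega) χ)

lemma eq_id_of_not_fac {m : ℕ} {ψ : ⦋m + 1⦌ ⟶ ⦋m + 1⦌} (h : ¬Fac m ψ) : ψ = 𝟙 _ := by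
  by_cases hinj : Function.Injective ψ.toOrderHom
  · have : Mono ψ := SimplexCategory.mono_iff_injective.2 hinj
    exact SimplexCategory.eq_id_of_mono ψ
  · obtain ⟨i, θ, rfl⟩ := SimplexCategory.eq_σ_comp_of_not_injective ψ hinj
    exact absurd ⟨m, le_rfl, _, θ, rfl⟩ h

variable {C : Type u} [Category.{v} C] {A B : SimplicialObject C} (π : B ⟶ A) {m : ℕ}
  (hπ : ∀ k, k ≤ m → IsIso (π.app (op ⦋k⦌)))

/-- The inverse below the coskeletal degree. -/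
noncomputable def iπ {k : ℕ} (hk : k ≤ m) : A _⦋k⦌ ⟶ B _⦋k⦌ :=
  have := hπ k hk
  inv (π.app (op ⦋k⦌))

@[reassoc]
lemma iπ_hom {k : ℕ} (hk : k ≤ m) : iπ π hπ hk ≫ π.app (op ⦋k⦌) = 𝟙 _ := by
  have := hπ k hk
  exact IsIso.inv_hom_id _

include hπ in
lemma cancel_π {k : ℕ} (hk : k ≤ m) {T : C} {g g' : T ⟶ B _⦋k⦌}
    (h : g ≫ π.app (op ⦋k⦌) = g' ≫ π.app (op ⦋k⦌)) : g = g' := by
  have := hπ k hk
  exact (cancel_mono _).1 h

lemma iπ_natural {i j : ℕ} (hi : i ≤ m) (hj : j ≤ m) (h : ⦋i⦌ ⟶ ⦋j⦌) :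
    iπ π hπ hj ≫ B.map h.op = A.map h.op ≫ iπ π hπ hi := by
  refine cancel_π π hπ hi ?_
  rw [Category.assoc, π.naturality, iπ_hom_assoc, Category.assoc, iπ_hom, Category.comp_id]

variable {p : ℕ} {T : C} (a : T ⟶ A _⦋p⦌)

/-- The component determined by a factorisation. -/
noncomputable def val {k j : ℕ} (hj : j ≤ m) (f : ⦋k⦌ ⟶ ⦋j⦌) (g : ⦋j⦌ ⟶ ⦋p⦌) : T ⟶ B _⦋k⦌ :=
  a ≫ A.map g.op ≫ iπ π hπ hj ≫ B.map f.op

lemma val_π {k j : ℕ} (hj : j ≤ m) (f : ⦋k⦌ ⟶ ⦋j⦌) (g : ⦋j⦌ ⟶ ⦋p⦌) :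
    val π hπ a hj f g ≫ π.app (op ⦋k⦌) = a ≫ A.map (f ≫ g).op := by
  simp only [val, Category.assoc]
  rw [π.naturality, iπ_hom_assoc, op_comp, Functor.map_comp]

lemma val_comp {k' k j : ℕ} (hj : j ≤ m) (ψ : ⦋k'⦌ ⟶ ⦋k⦌) (f : ⦋k⦌ ⟶ ⦋j⦌) (g : ⦋j⦌ ⟶ ⦋p⦌) :
    val π hπ a hj f g ≫ B.map ψ.op = val π hπ a hj (ψ ≫ f) g := by
  simp only [val, Category.assoc, op_comp, Functor.map_comp]

lemma val_move {k i j : ℕ} (hi : i ≤ m) (hj : j ≤ m) (f : ⦋k⦌ ⟶ ⦋i⦌) (h : ⦋i⦌ ⟶ ⦋j⦌)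
    (g : ⦋j⦌ ⟶ ⦋p⦌) : val π hπ a hj (f ≫ h) g = val π hπ a hi f (h ≫ g) := by
  simp only [val, op_comp, Functor.map_comp, Category.assoc]
  rw [← Category.assoc (iπ π hπ hj), iπ_natural π hπ hi hj h, Category.assoc]

lemma val_eq_of_mono {k j j' : ℕ} (hj : j ≤ m) (hj' : j' ≤ m) (f : ⦋k⦌ ⟶ ⦋j⦌) (g : ⦋j⦌ ⟶ ⦋p⦌)
    (f' : ⦋k⦌ ⟶ ⦋j'⦌) (g' : ⦋j'⦌ ⟶ ⦋p⦌) [Mono g'] (h : f ≫ g = f' ≫ g') :
    val π hπ a hj f g = val π hπ a hj' f' g' := by
  obtain ⟨i, hi⟩ : ∃ i, ⦋i⦌ = image f := ⟨_, (image f).mk_len⟩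
  let fe : ⦋k⦌ ⟶ ⦋i⦌ := factorThruImage f ≫ eqToHom hi.symm
  let fm : ⦋i⦌ ⟶ ⦋j⦌ := eqToHom hi ≫ image.ι f
  have hf : fe ≫ fm = f := by simp [fe, fm]
  have : Mono fm := mono_comp _ _
  have hi' : i ≤ m := (SimplexCategory.len_le_of_mono fm).trans hj
  have : Epi fe := epi_comp _ _
  let se := (isSplitEpi_of_epi fe).exists_splitEpi.some
  have hg : se.section_ ≫ f' ≫ g' = fm ≫ g := by
    rw [← h, ← hf, Category.assoc, SplitEpi.id_assoc]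
  have hf' : fe ≫ se.section_ ≫ f' = f' := by
    rw [← cancel_mono g']
    simp only [Category.assoc]
    rw [hg, ← Category.assoc, hf, h]
  rw [← hf, val_move π hπ a hi' hj, ← hg]
  refine Eq.trans ?_ (congrArg (fun x => val π hπ a hj' x g') hf')
  rw [← Category.assoc se.section_]
  exact (val_move π hπ a hi' hj' fe _ g').symm

lemma val_eq {k j j' : ℕ} (hj : j ≤ m) (hj' : j' ≤ m) (f : ⦋k⦌ ⟶ ⦋j⦌) (g : ⦋j⦌ ⟶ ⦋p⦌)
    (f' : ⦋k⦌ ⟶ ⦋j'⦌) (g' : ⦋j'⦌ ⟶ ⦋p⦌) (h : f ≫ g = f' ≫ g') :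
    val π hπ a hj f g = val π hπ a hj' f' g' := by
  obtain ⟨i, hi⟩ : ∃ i, ⦋i⦌ = image g' := ⟨_, (image g').mk_len⟩
  let ge : ⦋j'⦌ ⟶ ⦋i⦌ := factorThruImage g' ≫ eqToHom hi.symm
  let gm : ⦋i⦌ ⟶ ⦋p⦌ := eqToHom hi ≫ image.ι g'
  have hg : ge ≫ gm = g' := by simp [ge, gm]
  have : Epi ge := epi_comp _ _
  have : Mono gm := mono_comp _ _
  have hi' : i ≤ m := (SimplexCategory.len_le_of_epi ge).trans hj'
  rw [← hg, ← val_move π hπ a hj' hi']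
  exact val_eq_of_mono π hπ a hj hi' f g _ gm (by rw [h, Category.assoc, hg])

open Classical in
/-- The compatible family. -/
noncomputable def fam (leg : ∀ k, k ≤ m + 1 → ∀ φ : ⦋k⦌ ⟶ ⦋p⦌, ¬Fac m φ → (T ⟶ B _⦋k⦌))
    (k : ℕ) (hk : k ≤ m + 1) (φ : ⦋k⦌ ⟶ ⦋p⦌) : T ⟶ B _⦋k⦌ :=
  if h : Fac m φ then
    val π hπ a h.choose_spec.choose h.choose_spec.choose_spec.choose
      h.choose_spec.choose_spec.choose_spec.choose
  else leg k hk φ h

lemma fam_fac (leg : ∀ k, k ≤ m + 1 → ∀ φ : ⦋k⦌ ⟶ ⦋p⦌, ¬Fac m φ → (T ⟶ B _⦋k⦌))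
    {k : ℕ} (hk : k ≤ m + 1) {j : ℕ} (hj : j ≤ m) (f : ⦋k⦌ ⟶ ⦋j⦌) (g : ⦋j⦌ ⟶ ⦋p⦌) :
    fam π hπ a leg k hk (f ≫ g) = val π hπ a hj f g := by
  have h : Fac m (f ≫ g) := ⟨j, hj, f, g, rfl⟩
  rw [fam, dif_pos h]
  exact val_eq π hπ a _ hj _ _ f g h.choose_spec.choose_spec.choose_spec.choose_spec

lemma fam_not (leg : ∀ k, k ≤ m + 1 → ∀ φ : ⦋k⦌ ⟶ ⦋p⦌, ¬Fac m φ → (T ⟶ B _⦋k⦌))
    {k : ℕ} (hk : k ≤ m + 1) (φ : ⦋k⦌ ⟶ ⦋p⦌) (h : ¬Fac m φ) :
    fam π hπ a leg k hk φ = leg k hk φ h := dif_neg h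

variable (hA : UniqueLift A (m + 1)) (hB : UniqueLift B (m + 1))

include hA hB hπ in
/-- Simplices of the source are simplices of the target with lifts of nondegenerate pieces. -/
theorem existsUnique_lift (leg : ∀ k, k ≤ m + 1 → ∀ φ : ⦋k⦌ ⟶ ⦋p⦌, ¬Fac m φ → (T ⟶ B _⦋k⦌))
    (hleg : ∀ k hk φ h, leg k hk φ h ≫ π.app (op ⦋k⦌) = a ≫ A.map φ.op) :
    ∃! g : T ⟶ B _⦋p⦌, g ≫ π.app (op ⦋p⦌) = a ∧
      ∀ k hk (φ : ⦋k⦌ ⟶ ⦋p⦌) (h : ¬Fac m φ), g ≫ B.map φ.op = leg k hk φ h := by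
  let e := fam π hπ a leg
  have he : ∀ k k' (hk : k ≤ m + 1) (hk' : k' ≤ m + 1) (ψ : ⦋k'⦌ ⟶ ⦋k⦌) (φ : ⦋k⦌ ⟶ ⦋p⦌),
      e k' hk' (ψ ≫ φ) = e k hk φ ≫ B.map ψ.op := by
    intro k k' hk hk' ψ φ
    by_cases hφ : Fac m φ
    · obtain ⟨j, hj, f, g, rfl⟩ := hφ
      simp only [e]
      rw [← Category.assoc, fam_fac π hπ a leg hk' hj, fam_fac π hπ a leg hk hj, val_comp]
    · by_cases hψ : Fac m ψ
      · obtain ⟨j, hj, f, g, rfl⟩ := hψ
        simp only [e]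
        rw [Category.assoc, fam_fac π hπ a leg hk' hj, fam_not π hπ a leg hk φ hφ, op_comp,
          B.map_comp, ← Category.assoc (leg k hk φ hφ)]
        have : leg k hk φ hφ ≫ B.map g.op = a ≫ A.map (g ≫ φ).op ≫ iπ π hπ hj := by
          refine cancel_π π hπ hj ?_
          rw [Category.assoc, π.naturality, ← Category.assoc, hleg, Category.assoc, Category.assoc,
            Category.assoc, iπ_hom, Category.comp_id, op_comp, A.map_comp]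
        rw [this]
        simp only [val, Category.assoc]
      · obtain rfl := eq_of_not_fac hk' hψ
        obtain rfl := eq_of_not_fac hk hφ
        rw [eq_id_of_not_fac hψ]
        simp
  have heπ : ∀ k hk φ, e k hk φ ≫ π.app (op ⦋k⦌) = a ≫ A.map φ.op := by
    intro k hk φ
    by_cases hφ : Fac m φ
    · obtain ⟨j, hj, f, g, rfl⟩ := hφ
      simp only [e]
      rw [fam_fac π hπ a leg hk hj, val_π]
    · simp only [e]
      rw [fam_not π hπ a leg hk φ hφ, hleg]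
  obtain ⟨g, hg, huniq⟩ := hB p T e he
  refine ⟨g, ⟨hom_ext_of_le hA fun k hk φ => ?_, fun k hk φ h => ?_⟩, fun g' hg' => ?_⟩
  · rw [Category.assoc, ← π.naturality, ← Category.assoc, hg k hk φ, heπ]
  · rw [hg k hk φ]
    exact fam_not π hπ a leg hk φ h
  · refine huniq g' fun k hk φ => ?_
    by_cases hφ : Fac m φ
    · obtain ⟨j, hj, f, g₀, rfl⟩ := hφ
      have : g' ≫ B.map g₀.op = a ≫ A.map g₀.op ≫ iπ π hπ hj := by
        refine cancel_π π hπ hj ?_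
        rw [Category.assoc, π.naturality, ← Category.assoc, hg'.1, Category.assoc, Category.assoc,
          iπ_hom, Category.comp_id]
      simp only [e]
      rw [fam_fac π hπ a leg hk hj, op_comp, B.map_comp, ← Category.assoc, this]
      simp only [val, Category.assoc]
    · simp only [e]
      rw [fam_not π hπ a leg hk φ hφ]
      exact hg'.2 k hk φ hφ

/-- Iterated fibre products. -/
theorem exists_pullbacks [HasPullbacks C] (P : MorphismProperty C) [P.IsStableUnderBaseChange]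
    [P.IsStableUnderComposition] [P.ContainsIdentities] {ι : Type*} {X : C} (s : Finset ι)
    (Y Z : ι → C) (f : ∀ i, Z i ⟶ Y i) (hf : ∀ i, P (f i)) (g : ∀ i, X ⟶ Y i) :
    ∃ (W : C) (q : W ⟶ X) (l : ∀ i ∈ s, W ⟶ Z i), P q ∧
      (∀ i hi, l i hi ≫ f i = q ≫ g i) ∧
      ∀ (T : C) (a : T ⟶ X) (b : ∀ i ∈ s, T ⟶ Z i), (∀ i hi, b i hi ≫ f i = a ≫ g i) →
        ∃! w : T ⟶ W, w ≫ q = a ∧ ∀ i hi, w ≫ l i hi = b i hi := by
  classical
  induction s using Finset.induction with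
  | empty =>
    exact ⟨X, 𝟙 X, fun i hi => absurd hi (Finset.notMem_empty i), P.id_mem X,
      fun i hi => absurd hi (Finset.notMem_empty i), fun T a b _ =>
        ⟨a, ⟨Category.comp_id a, fun i hi => absurd hi (Finset.notMem_empty i)⟩,
          fun w hw => (Category.comp_id w).symm.trans hw.1⟩⟩
  | insert i₀ s hi₀ ih =>
    obtain ⟨W, q, l, hq, hl, huniv⟩ := ih
    let l' : ∀ i ∈ insert i₀ s, pullback (q ≫ g i₀) (f i₀) ⟶ Z i := fun i hi =>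
      if h : i = i₀ then pullback.snd _ _ ≫ eqToHom (by rw [h])
      else pullback.fst _ _ ≫ l i (Finset.mem_of_mem_insert_of_ne hi h)
    refine ⟨_, pullback.fst (q ≫ g i₀) (f i₀) ≫ q, l', P.comp_mem _ _
      (P.pullback_fst _ _ (hf i₀)) hq, fun i hi => ?_, fun T a b hb => ?_⟩
    · by_cases h : i = i₀
      · subst h
        simp only [l', dif_pos, eqToHom_refl, Category.comp_id, Category.assoc]
        exact pullback.condition.symm
      · simp only [l', dif_neg h, Category.assoc]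
        rw [hl]
    · obtain ⟨w, ⟨hw, hw'⟩, hwu⟩ := huniv T a (fun i hi => b i (Finset.mem_insert_of_mem hi))
        (fun i hi => hb i _)
      refine ⟨pullback.lift w (b i₀ (Finset.mem_insert_self _ _))
        (by rw [← Category.assoc, hw, hb]), ⟨by rw [pullback.lift_fst_assoc, hw], fun i hi => ?_⟩,
        fun v hv => ?_⟩
      · by_cases h : i = i₀
        · subst h
          simp only [l', dif_pos, eqToHom_refl, Category.comp_id]
          exact pullback.lift_snd _ _ _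
        · simp only [l', dif_neg h, pullback.lift_fst_assoc]
          exact hw' i _
      · apply pullback.hom_ext
        · rw [pullback.lift_fst]
          refine hwu _ ⟨(Category.assoc _ _ _).trans hv.1, fun i hi => ?_⟩
          have h : i ≠ i₀ := fun h => hi₀ (h ▸ hi)
          refine (Category.assoc _ _ _).trans ?_
          refine Eq.trans ?_ (hv.2 i (Finset.mem_insert_of_mem hi))
          simp only [l', dif_neg h]
        · rw [pullback.lift_snd]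
          refine Eq.trans ?_ (hv.2 i₀ (Finset.mem_insert_self _ _))
          simp [l']

variable {π}

include hA hB hπ in
/-- Every component is built from the component in the coskeletal degree. -/
theorem property_app [HasPullbacks C] (P : MorphismProperty C) [P.IsStableUnderBaseChange]
    [P.IsStableUnderComposition] [P.ContainsIdentities] [P.RespectsIso]
    (hP : ∀ k, k ≤ m + 1 → P (π.app (op ⦋k⦌))) (p : ℕ) : P (π.app (op ⦋p⦌)) := by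
  let ι := {x : Σ k : Fin (m + 2), (⦋(k : ℕ)⦌ ⟶ ⦋p⦌) // ¬Fac m x.2}
  have : Finite ι := Subtype.finite
  have := Fintype.ofFinite ι
  obtain ⟨W, q, l, hq, hl, huniv⟩ := exists_pullbacks P (Finset.univ : Finset ι)
    (fun i => A _⦋(i.1.1 : ℕ)⦌) (fun i => B _⦋(i.1.1 : ℕ)⦌) (fun i => π.app _)
    (fun i => hP _ (Nat.le_of_lt_succ i.1.1.isLt)) (fun i => A.map i.1.2.op)
  obtain ⟨u, ⟨hu, hu'⟩, -⟩ := huniv (B _⦋p⦌) (π.app _) (fun i _ => B.map i.1.2.op)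
    (fun i _ => π.naturality _)
  obtain ⟨v, ⟨hv, hv'⟩, -⟩ := existsUnique_lift π hπ q hA hB
    (fun k hk φ h => l ⟨⟨⟨k, Nat.lt_succ_of_le hk⟩, φ⟩, h⟩ (Finset.mem_univ _))
    (fun k hk φ h => hl _ _)
  have huv : u ≫ v = 𝟙 _ := by
    refine (existsUnique_lift π hπ (π.app (op ⦋p⦌)) hA hB (fun k hk φ h => B.map φ.op)
      (fun k hk φ h => π.naturality _)).unique ⟨?_, fun k hk φ h => ?_⟩
      ⟨Category.id_comp _, fun k hk φ h => Category.id_comp _⟩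
    · rw [Category.assoc, hv, hu]
    · rw [Category.assoc, hv' k hk φ h]
      exact hu' _ _
  have hvu : v ≫ u = 𝟙 _ := by
    refine (huniv W q l hl).unique ⟨?_, fun i hi => ?_⟩
      ⟨Category.id_comp _, fun i hi => Category.id_comp _⟩
    · rw [Category.assoc, hu, hv]
    · rw [Category.assoc, hu' i hi]
      exact hv' _ (Nat.le_of_lt_succ i.1.1.isLt) i.1.2 i.2
  rw [← hu]
  have : IsIso u := ⟨v, huv, hvu⟩
  exact (P.cancel_left_of_respectsIso u q).2 hq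

variable (π)

include hπ hB in
/-- A simplicial object of sequences of simplices in common fibres maps to the source. -/
theorem exists_first_vertex {W : SimplicialObject C} (x : ∀ k, Fin (k + 1) → (W _⦋k⦌ ⟶ B _⦋k⦌))
    (hx : ∀ k k' (ψ : ⦋k'⦌ ⟶ ⦋k⦌) (i : Fin (k' + 1)),
      W.map ψ.op ≫ x k' i = x k (ψ.toOrderHom i) ≫ B.map ψ.op)
    (hxπ : ∀ k i j, x k i ≫ π.app (op ⦋k⦌) = x k j ≫ π.app (op ⦋k⦌)) :
    ∃ r : W ⟶ B, ∀ k, k ≤ m + 1 → r.app (op ⦋k⦌) = x k 0 := by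
  refine exists_extension hB (fun k _ => x k 0) fun k k' hk hk' ψ => ?_
  rw [hx k k' ψ 0]
  by_cases hψ : Fac m ψ
  · obtain ⟨j, hj, f, g, hfg⟩ := hψ
    have h : ∀ i i', x k i ≫ B.map g.op = x k i' ≫ B.map g.op := fun i i' => by
      refine cancel_π π hπ hj ?_
      rw [Category.assoc, Category.assoc, π.naturality, ← Category.assoc, hxπ k i i', Category.assoc]
    conv_lhs => rw [← hfg]
    conv_rhs => rw [← hfg]
    rw [op_comp, B.map_comp, ← Category.assoc, h _ 0, Category.assoc]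
  · obtain rfl := eq_of_not_fac hk' hψ
    by_cases hk'' : k ≤ m
    · exact absurd (Fac.of_tgt_le hk'' ψ) hψ
    obtain rfl : k = m + 1 := by omega
    rw [eq_id_of_not_fac hψ]
    rfl

end Groth.Agent.FibDescLib
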