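import Groth.Agent.FibDescLib.Aug

/-!
# Inverse images along arbitrary maps of diagrams of spaces
-/

universe u

open CategoryTheory CategoryTheory.Limits Opposite TopologicalSpace Pseudofunctor.CoGrothendieck

namespace Groth.Agent.FibDescLib

variable {S : Type} [Category.{0} S] {Y' Y : S ⥤ TopCat.{u}} (e : Y' ⟶ Y)

lemma nat_map {i j : S} (f : i ⟶ j) (x : Y'.obj i) :
    Y.map f (e.app i x) = e.app j (Y'.map f x) :=
  (ConcreteCategory.congr_hom (e.naturality f) x).symm

/-- Preimages of opens along a map of diagrams. -/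
noncomputable def resF : Tot Y ⥤ Tot Y' where
  obj A := pt A.base ((Opens.map (e.app A.base)).obj (opn A))
  map {A B} φ := mkHom φ.base fun x hx => by
    show e.app B.base (Y'.map φ.base x) ∈ opn B
    rw [← nat_map e φ.base x]
    exact hom_mem φ _ hx
  map_id A := hom_ext _ _ rfl
  map_comp φ ψ := hom_ext _ _ rfl

@[simp] lemma resF_map_base {A B : Tot Y} (φ : A ⟶ B) : ((resF e).map φ).base = φ.base := rfl

instance resF_isContinuous : (resF e).IsContinuous (jt Y) (jt Y') := by
  rw [Groth.Agent.FibSite.isContinuous_iff (isPre Y)]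
  intro i
  haveI : (Opens.map (e.app i)).IsContinuous (tops Y i) (tops Y' i) :=
    inferInstanceAs ((Opens.map (e.app i)).IsContinuous (Opens.grothendieckTopology (Y.obj i))
      (Opens.grothendieckTopology (Y'.obj i)))
  haveI : (Opens.map (e.app i) ⋙ ι (tf Y') i).IsContinuous (tops Y i) (jt Y') :=
    @Functor.isContinuous_comp _ _ _ _ _ _ (Opens.map (e.app i)) (ι (tf Y') i)
      (tops Y i) (tops Y' i) _ _ (Groth.Agent.FibSite.ι_isContinuous (isPre Y') i)
  have w : Opens.map (e.app i) ⋙ ι (tf Y') i ≅ ι (tf Y) i ⋙ resF e :=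
    NatIso.ofComponents (fun U => Iso.refl _) (fun g => (Category.comp_id _).trans
      ((hom_ext _ _ rfl).trans (Category.id_comp _).symm))
  exact Functor.isContinuous_of_iso w _ _

/-- Componentwise flatness. -/
noncomputable def resFlat : CompFlat (resF e) where
  κ _ := PUnit.{u + 1}
  idx _ := ⟨⟩
  idx_comp _ _ := rfl
  bound {d x y} f g _ := by
    let W : Opens (Y.obj d.base) :=
      (Opens.map (Y.map f.base)).obj (opn x) ⊓ (Opens.map (Y.map g.base)).obj (opn y)
    have hW : ∀ v ∈ opn d, Y'.map (𝟙 d.base) v ∈ (Opens.map (e.app d.base)).obj W := by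
      intro v hv
      rw [map_id_apply]
      constructor
      · show Y.map f.base (e.app d.base v) ∈ opn x
        rw [nat_map]
        exact hom_mem f v hv
      · show Y.map g.base (e.app d.base v) ∈ opn y
        rw [nat_map]
        exact hom_mem g v hv
    exact ⟨pt d.base W, mkHom (𝟙 _) hW, mkHom f.base (fun _ h => h.1), mkHom g.base (fun _ h => h.2),
      hom_ext _ _ (Category.id_comp _), hom_ext _ _ (Category.id_comp _)⟩
  equalize {d x y} f g g' h := by
    have hW : ∀ v ∈ opn d,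
        Y'.map (𝟙 d.base) v ∈ (Opens.map (e.app d.base)).obj ((Opens.map (Y.map f.base)).obj (opn x)) := by
      intro v hv
      rw [map_id_apply]
      show Y.map f.base (e.app d.base v) ∈ opn x
      rw [nat_map]
      exact hom_mem f v hv
    exact ⟨pt d.base _, mkHom (𝟙 _) hW, mkHom f.base (fun _ h => h),
      hom_ext _ _ (Category.id_comp _), hom_ext _ _ (congrArg (fun φ => φ.base) h : _)⟩

/-- Inverse image is exact. -/
theorem preservesFiniteLimits_Ls_resF : PreservesFiniteLimits (Ls (resF e) (jt Y) (jt Y')) :=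
  (resFlat e).preservesFiniteLimits_Ls _ _

variable {S' : Type} [Category.{0} S'] (ψ : S' ⥤ S)

/-- Preimages commute with reindexing. -/
noncomputable def resW : (bcMor ψ Y).functor ⋙ resF e ≅
    resF (Functor.whiskerLeft ψ e) ⋙ (bcMor ψ Y').functor :=
  NatIso.ofComponents (fun A =>
    { hom := mkHom (Y := Y') (A := (resF e).obj ((bcMor ψ Y).functor.obj A))
        (B := (bcMor ψ Y').functor.obj ((resF (Functor.whiskerLeft ψ e)).obj A)) (𝟙 _)
        fun x hx => mem_id (Y := Y') ((mem_img_iff ψ Y' A.base _ x).2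
          ((mem_img_iff ψ Y A.base (opn A) _).1 hx))
      inv := mkHom (Y := Y')
        (A := (bcMor ψ Y').functor.obj ((resF (Functor.whiskerLeft ψ e)).obj A))
        (B := (resF e).obj ((bcMor ψ Y).functor.obj A)) (𝟙 _)
        fun x hx => mem_id (Y := Y') ((mem_img_iff ψ Y A.base (opn A) (e.app (ψ.obj A.base) x)).2
          ((mem_img_iff ψ Y' A.base _ x).1 hx))
      hom_inv_id := hom_ext _ _ (Category.comp_id _)
      inv_hom_id := hom_ext _ _ (Category.comp_id _) })
    (fun φ => hom_ext _ _ ((Category.comp_id _).trans (Category.id_comp _).symm))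

/-- The base change map of the transposed square is invertible. -/
theorem isIso_βR_resW :
    IsIso (βR (resW e ψ).symm (jt (ψ ⋙ Y')) (jt (ψ ⋙ Y)) (jt Y') (jt Y)) := by
  refine isIso_βR _ _ _ _ _ fun d' => initial_of_zigzag _ fun X => ?_
  let c := X.right.unop
  let f : (bcMor ψ Y').functor.obj c ⟶ (resF e).obj d' := X.hom.unop
  let top : ∀ {n : S'} (_ : ψ.obj n ⟶ d'.base), Opens ((ψ ⋙ Y).obj n) := fun {n} g =>
    (Opens.map (Y.map g)).obj (opn d')
  let Z : ∀ {n : S'} (g : ψ.obj n ⟶ d'.base) (U : Opens ((ψ ⋙ Y).obj n)), U ≤ top g →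
      StructuredArrow (op d') (bcMor ψ Y).functor.op := fun {n} g U hU =>
    StructuredArrow.mk (Y := op (pt n U))
      (mkHom (A := (bcMor ψ Y).functor.obj (pt n U)) (B := d') g fun y hy => by
        obtain ⟨x, hx, rfl⟩ := hy
        exact hU hx).op
  have hf : ∀ x ∈ opn c, Y.map f.base (e.app (ψ.obj c.base) x) ∈ opn d' := by
    intro x hx
    exact (congrArg (fun y => y ∈ opn d') (nat_map e (j := d'.base) f.base x)).mpr
      (hom_mem f x ((mem_img_iff ψ Y' c.base (opn c) x).2 hx))
  have hh₀ : ∀ x ∈ opn c, (ψ ⋙ Y').map (𝟙 c.base) x ∈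
      opn ((resF (Functor.whiskerLeft ψ e)).obj (pt c.base (top f.base))) := by
    intro x hx
    rw [map_id_apply]
    exact hf x hx
  refine ⟨CostructuredArrow.mk (Y := Z f.base (top f.base) le_rfl) (StructuredArrow.homMk
    (mkHom (A := c) (B := (resF (Functor.whiskerLeft ψ e)).obj (pt c.base (top f.base))) (𝟙 _) hh₀).op
    (Quiver.Hom.unop_inj (hom_ext _ _ ?_))), fun W => ?_⟩
  · show ψ.map (𝟙 c.base) ≫ 𝟙 _ ≫ f.base = f.base
    rw [CategoryTheory.Functor.map_id]
    exact (Category.id_comp _).trans (Category.id_comp _)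
  let c₁ := W.left.right.unop
  let g₁ : (bcMor ψ Y).functor.obj c₁ ⟶ d' := W.left.hom.unop
  let h₁ : c ⟶ (resF (Functor.whiskerLeft ψ e)).obj c₁ := W.hom.right.unop
  have e₁ : ψ.map h₁.base ≫ 𝟙 _ ≫ g₁.base = f.base :=
    congrArg (fun φ => φ.base) (congrArg Quiver.Hom.unop (StructuredArrow.w W.hom))
  have e₂ : ψ.map h₁.base ≫ g₁.base = f.base :=
    (whisker_eq _ (Category.id_comp g₁.base).symm).trans e₁
  let U₂ : Opens ((ψ ⋙ Y).obj c.base) :=
    top f.base ⊓ (Opens.map ((ψ ⋙ Y).map h₁.base)).obj (opn c₁)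
  have hh₂ : ∀ x ∈ opn c, (ψ ⋙ Y').map (𝟙 c.base) x ∈
      opn ((resF (Functor.whiskerLeft ψ e)).obj (pt c.base U₂)) := by
    intro x hx
    rw [map_id_apply]
    refine ⟨hf x hx, ?_⟩
    show (ψ ⋙ Y).map h₁.base ((Functor.whiskerLeft ψ e).app c.base x) ∈ opn c₁
    rw [nat_map]
    exact hom_mem h₁ x hx
  let W₂ : CostructuredArrow (post (resW e ψ).symm d') X :=
    CostructuredArrow.mk (Y := Z f.base U₂ inf_le_left) (StructuredArrow.homMk
      (mkHom (A := c) (B := (resF (Functor.whiskerLeft ψ e)).obj (pt c.base U₂)) (𝟙 _) hh₂).op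
      (Quiver.Hom.unop_inj (hom_ext _ _ (by
        show ψ.map (𝟙 c.base) ≫ 𝟙 _ ≫ f.base = f.base
        rw [CategoryTheory.Functor.map_id]
        exact (Category.id_comp _).trans (Category.id_comp _)))))
  refine (Zigzag.of_hom (show W ⟶ W₂ from CostructuredArrow.homMk (StructuredArrow.homMk
    (mkHom (A := pt c.base U₂) (B := c₁) h₁.base fun x hx => hx.2).op
    (Quiver.Hom.unop_inj (hom_ext _ _ e₂)))
    (StructuredArrow.hom_ext _ _ (Quiver.Hom.unop_inj (hom_ext _ _ (Category.id_comp _)))))).trans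
    (Zigzag.of_inv (CostructuredArrow.homMk (StructuredArrow.homMk
      (incHom (inf_le_left : U₂ ≤ top f.base)).op
      (Quiver.Hom.unop_inj (hom_ext _ _ ?_)))
      (StructuredArrow.hom_ext _ _ (Quiver.Hom.unop_inj (hom_ext _ _ (Category.comp_id _))))))
  show ψ.map (𝟙 c.base) ≫ f.base = f.base
  rw [CategoryTheory.Functor.map_id]
  exact Category.id_comp _

/-- Restriction to a part commutes with inverse image. -/
theorem isIso_βL_resW :
    IsIso (βL (resW e ψ) (jt Y) (jt (ψ ⋙ Y)) (jt Y') (jt (ψ ⋙ Y'))) :=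
  isIso_βL _ _ _ _ _ (isIso_βR_resW e ψ)

end Groth.Agent.FibDescLib
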