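import Groth.Agent.FibDescLib.Univ
import Groth.Agent.FibDescLib.CoskStep
import Groth.Agent.FibDescLib.Restr

/-!
# Augmented spaces of simplicial spaces over a base, and the double nerve of a map
-/

universe u

open CategoryTheory CategoryTheory.Limits Opposite TopologicalSpace

namespace Groth.Agent.FibDescLib

section AugSp

variable {S : TopCat.{u}} (K : SimplicialObject (Over S))

/-- Values of the augmented space. -/
def augObj : WithInitial SimplexCategory → TopCat.{u}
  | .of n => (K.obj (op n)).left
  | .star => S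

/-- Transition maps of the augmented space. -/
def augMap₀ : ∀ {a b : WithInitial SimplexCategory}, (a ⟶ b) → (augObj K b ⟶ augObj K a)
  | .of _, .of _, f => (K.map (WithInitial.down f).op).left
  | .star, .of n, _ => (K.obj (op n)).hom
  | .star, .star, _ => 𝟙 S
  | .of _, .star, f => (f : PEmpty).elim

/-- The augmented space of a simplicial space over `S`. -/
def augSp : Δp ⥤ TopCat.{u} where
  obj a := augObj K a.unop
  map φ := augMap₀ K φ.unop
  map_id a := by
    obtain ⟨a⟩ := a
    cases a with
    | of n => exact congrArg CommaMorphism.left (K.map_id (op n))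
    | star => rfl
  map_comp {a b c} φ ψ := by
    obtain ⟨a⟩ := a
    obtain ⟨b⟩ := b
    obtain ⟨c⟩ := c
    obtain ⟨φ⟩ := φ
    obtain ⟨ψ⟩ := ψ
    cases a <;> cases b <;> cases c <;>
      first
      | exact (φ : PEmpty).elim
      | exact (ψ : PEmpty).elim
      | (exact congrArg CommaMorphism.left (K.map_comp (WithInitial.down φ).op (WithInitial.down ψ).op))
      | exact (Over.w (K.map (WithInitial.down φ).op)).symm
      | exact (Category.comp_id _).symm

variable {K}

/-- Functoriality of the augmented space. -/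
def augHom {L : SimplicialObject (Over S)} (f : K ⟶ L) : augSp K ⟶ augSp L where
  app a := match a with
    | ⟨.of n⟩ => (f.app (op n)).left
    | ⟨.star⟩ => 𝟙 S
  naturality {a b} φ := by
    obtain ⟨a⟩ := a
    obtain ⟨b⟩ := b
    obtain ⟨φ⟩ := φ
    cases a <;> cases b <;>
      first
      | exact (φ : PEmpty).elim
      | (exact congrArg CommaMorphism.left (f.naturality (WithInitial.down φ).op))
      | exact (Category.comp_id _).trans (Over.w (f.app _)).symm
      | rfl

lemma augHom_id : augHom (𝟙 K) = 𝟙 _ := by
  ext a : 2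
  obtain ⟨a⟩ := a
  cases a <;> rfl

lemma augHom_comp {L M : SimplicialObject (Over S)} (f : K ⟶ L) (g : L ⟶ M) :
    augHom (f ≫ g) = augHom f ≫ augHom g := by
  ext a : 2
  obtain ⟨a⟩ := a
  cases a
  · rfl
  · exact (Category.comp_id _).symm

end AugSp

section Over

variable (Y : Δp ⥤ TopCat.{u})

/-- An augmented space as a simplicial space over its base. -/
def overOf : SimplicialObject (Over (Y.obj bot)) where
  obj n := Over.mk (Y.map (toBot (toAug.obj n)))
  map φ := Over.homMk (Y.map (toAug.map φ))
    ((Y.map_comp _ _).symm.trans (congrArg Y.map (comp_toBot _)))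
  map_id n := Over.OverMorphism.ext
    ((congrArg Y.map (toAug.map_id n)).trans (Y.map_id _))
  map_comp φ ψ := Over.OverMorphism.ext
    ((congrArg Y.map (toAug.map_comp φ ψ)).trans (Y.map_comp _ _))

/-- Every augmented space comes from a simplicial space over its base. -/
def overOfIso : augSp (overOf Y) ≅ Y :=
  NatIso.ofComponents (fun a => match a with
    | ⟨.of _⟩ => Iso.refl _
    | ⟨.star⟩ => Iso.refl _) (fun {a b} φ => by
    obtain ⟨a⟩ := a
    obtain ⟨b⟩ := b
    obtain ⟨φ⟩ := φ
    cases a <;> cases b <;>
      first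
      | exact (φ : PEmpty).elim
      | (refine (Category.comp_id _).trans (Eq.trans ?_ (Category.id_comp _).symm); rfl)
      | (refine (Category.comp_id _).trans (Eq.trans ?_ (Category.id_comp _).symm)
         exact (congrArg Y.map (Quiver.Hom.unop_inj (WithInitial.starInitial.hom_ext _ _))))
      | (refine (Category.comp_id _).trans (Eq.trans ?_ (Category.id_comp _).symm)
         exact ((Y.map_id _).symm.trans
          (congrArg Y.map (Quiver.Hom.unop_inj (WithInitial.starInitial.hom_ext _ _)))))) 

end Over

section Nerves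

variable {Y' Y : Δp ⥤ TopCat.{u}} (e : Y' ⟶ Y)

/-- The nerves of the components of a map of augmented spaces. -/
def nerveZ : Δp × Δp ⥤ TopCat.{u} where
  obj a := (cech (e.app a.1)).obj a.2
  map {a b} φ := (cech (e.app a.1)).map φ.2 ≫
    (cechMapHom (e.app b.1) (Y'.map φ.1) (Y.map φ.1) (e.naturality φ.1).symm).app b.2
  map_id a := by
    obtain ⟨a, ⟨c⟩⟩ := a
    cases c with
    | of n =>
      ext x : 1
      exact Subtype.ext (funext fun i => map_id_apply (Y := Y') a _)
    | star =>
      ext x : 1
      exact map_id_apply (Y := Y) a _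
  map_comp {a b c} φ ψ := by
    obtain ⟨a, ⟨a'⟩⟩ := a
    obtain ⟨b, ⟨b'⟩⟩ := b
    obtain ⟨c, ⟨c'⟩⟩ := c
    obtain ⟨φ, ⟨φ'⟩⟩ := φ
    obtain ⟨ψ, ⟨ψ'⟩⟩ := ψ
    cases a' <;> cases b' <;> cases c' <;>
      first
      | exact (φ' : PEmpty).elim
      | exact (ψ' : PEmpty).elim
      | (ext x : 1; exact Subtype.ext (funext fun i => map_comp_apply (Y := Y') φ ψ _))
      | (ext x : 1; exact map_comp_apply (Y := Y) φ ψ _)
      | (ext x : 1
         refine (map_comp_apply (Y := Y) φ ψ _).trans ?_
         show Y.map ψ (Y.map φ (e.app a (x.1 0))) = Y.map ψ (e.app b (Y'.map φ (x.1 _)))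
         rw [← nat_map e φ, x.2]
         )

/-- The diagonal of the nerves. -/
def diagSp : Δp ⥤ TopCat.{u} := Functor.diag Δp ⋙ nerveZ e

/-- A line through a fixed first variable. -/
def lineNerveIso (a : Δp) : cech (e.app a) ≅ CategoryTheory.Prod.sectR a Δp ⋙ nerveZ e :=
  NatIso.ofComponents (fun b => Iso.refl _) (fun {b b'} φ => by
    obtain ⟨b⟩ := b
    obtain ⟨b'⟩ := b'
    obtain ⟨φ⟩ := φ
    cases b <;> cases b' <;>
      first
      | exact (φ : PEmpty).elim
      | (ext x : 1; exact Subtype.ext (funext fun i => (map_id_apply (Y := Y') a _).symm))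
      | (ext x : 1; exact (map_id_apply (Y := Y) a _).symm))

/-- The line through the base of the second variable. -/
def lineBaseIso : Y ≅ CategoryTheory.Prod.sectL Δp bot ⋙ nerveZ e :=
  NatIso.ofComponents (fun a => Iso.refl _) (fun {a a'} φ => by
    ext x : 1
    rfl)

end Nerves

end Groth.Agent.FibDescLib
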