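import Groth.Agent.FibDescLib.Cosimp

/-!
# Functoriality of the groups of sections over parts of levels
-/

universe u

open CategoryTheory CategoryTheory.Limits Opposite TopologicalSpace Simplicial

namespace Groth.Agent.FibDescLib

lemma map_map_eq {S : Type} [Category.{0} S] {Z : S ⥤ TopCat.{u}}
    (F : (Tot Z)ᵒᵖ ⥤ AddCommGrpCat.{u}) {A B C B' : Tot Z} (f : A ⟶ B) (g : B ⟶ C)
    (f' : A ⟶ B') (g' : B' ⟶ C) (h : f.base ≫ g.base = f'.base ≫ g'.base) (t : F.obj (op C)) :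
    F.map f.op (F.map g.op t) = F.map f'.op (F.map g'.op t) := by
  have e : f ≫ g = f' ≫ g' := hom_ext _ _ h
  exact (ConcreteCategory.congr_hom (F.map_comp g.op f.op) t).symm.trans
    ((congrArg (fun φ => F.map (Quiver.Hom.op φ) t) e).trans
      (ConcreteCategory.congr_hom (F.map_comp g'.op f'.op) t))

lemma map_map_single {S : Type} [Category.{0} S] {Z : S ⥤ TopCat.{u}}
    (F : (Tot Z)ᵒᵖ ⥤ AddCommGrpCat.{u}) {A B C : Tot Z} (f : A ⟶ B) (g : B ⟶ C)
    (k : A ⟶ C) (h : f.base ≫ g.base = k.base) (t : F.obj (op C)) :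
    F.map f.op (F.map g.op t) = F.map k.op t :=
  (ConcreteCategory.congr_hom (F.map_comp g.op f.op) t).symm.trans
    (congrArg (fun φ => F.map (Quiver.Hom.op φ) t) (hom_ext (f ≫ g) k h))

variable {Y : Δp ⥤ TopCat.{u}}

/-- Shrinking the open of the base. -/
noncomputable def cLe {V' V : Opens (Y.obj bot)} (h : V' ≤ V) (n : SimplexCategoryᵒᵖ) :
    (cObj Y V').obj n ⟶ (cObj Y V).obj n :=
  incHom (Y := toAug ⋙ Y) fun _ hx => h hx

variable {K L : Sheaf (jt (toAug ⋙ Y)) AddCommGrpCat.{u}}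

/-- Restriction to a smaller open of the base. -/
noncomputable abbrev resV {V' V : Opens (Y.obj bot)} (h : V' ≤ V) {n : ℕ}
    (t : (coS Y K V).obj ⦋n⦌) : (coS Y K V').obj ⦋n⦌ :=
  K.obj.map (cLe h (op ⦋n⦌)).op t

lemma resV_face {V' V : Opens (Y.obj bot)} (h : V' ≤ V) {n : ℕ} (i : Fin (n + 2))
    (t : (coS Y K V).obj ⦋n⦌) : resV h (face V i t) = face V' i (resV h t) :=
  map_map_eq K.obj (cLe h (op ⦋n + 1⦌)) ((cObj Y V).map (SimplexCategory.δ i).op)
    ((cObj Y V').map (SimplexCategory.δ i).op) (cLe h (op ⦋n⦌))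
    ((Category.id_comp _).trans (Category.comp_id _).symm) t

/-- A family of maps commuting with faces commutes with the differentials. -/
lemma dC_map {Y' : Δp ⥤ TopCat.{u}} {K' : Sheaf (jt (toAug ⋙ Y')) AddCommGrpCat.{u}}
    {V : Opens (Y.obj bot)} {V' : Opens (Y'.obj bot)} {n : ℕ}
    (φ : (coS Y K V).obj ⦋n⦌ →+ (coS Y' K' V').obj ⦋n⦌)
    (φ' : (coS Y K V).obj ⦋n + 1⦌ →+ (coS Y' K' V').obj ⦋n + 1⦌)
    (hφ : ∀ (i : Fin (n + 2)) t, φ' (face V i t) = face V' i (φ t)) (t : (coS Y K V).obj ⦋n⦌) :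
    φ' (dC V t) = dC V' (φ t) := by
  rw [dC_eq_sum, dC_eq_sum, map_sum]
  exact Finset.sum_congr rfl fun i _ => (map_zsmul φ' _ _).trans (congrArg _ (hφ i t))

lemma dC_resV {V' V : Opens (Y.obj bot)} (h : V' ≤ V) {n : ℕ} (t : (coS Y K V).obj ⦋n⦌) :
    resV h (dC V t) = dC V' (resV h t) :=
  dC_map (K.obj.map (cLe h (op ⦋n⦌)).op).hom (K.obj.map (cLe h (op ⦋n + 1⦌)).op).hom
    (fun i t => resV_face h i t) t

lemma dC_hom {V : Opens (Y.obj bot)} (φ : K ⟶ L) {n : ℕ} (t : (coS Y K V).obj ⦋n⦌) :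
    φ.hom.app _ (dC V t) = dC (K := L) V (φ.hom.app _ t) :=
  dC_map (φ.hom.app (op ((cObj Y V).obj (op ⦋n⦌)))).hom
    (φ.hom.app (op ((cObj Y V).obj (op ⦋n + 1⦌)))).hom
    (fun i t => ConcreteCategory.congr_hom
      (φ.hom.naturality ((cObj Y V).map (SimplexCategory.δ i).op).op) t) t

lemma ev_hom (V : Opens (Y.obj bot)) (n : SimplexCategoryᵒᵖ) (φ : K ⟶ L) (s : dirIm Y K V) :
    ev Y L V n (((pr (bcMor toAug Y).functor (bcMor (ptF bot) Y).functor (jt _) (jt _)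
      (jt Y)).map φ).hom.app _ s) = φ.hom.app _ (ev Y K V n s) := by
  have h := congrArg (fun ψ => ψ.hom.app (op ((cObj Y V).obj n)))
    ((adjR (bcMor toAug Y).functor (jt _) (jt Y)).counit.naturality φ)
  refine Eq.trans ?_ (ConcreteCategory.congr_hom h
    (((Rs (bcMor toAug Y).functor (jt _) (jt Y)).obj K).obj.map (legHom V n).op s))
  exact congrArg _ (ConcreteCategory.congr_hom
    (((Rs (bcMor toAug Y).functor (jt _) (jt Y)).map φ).hom.naturality (legHom V n).op) s).symm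

lemma ev_res {V' V : Opens (Y.obj bot)} (h : V' ≤ V) (n : ℕ) (s : dirIm Y K V) :
    ev Y K V' (op ⦋n⦌) (((pr (bcMor toAug Y).functor (bcMor (ptF bot) Y).functor (jt _) (jt _)
      (jt Y)).obj K).obj.map (incHom (Y := ptF bot ⋙ Y) (i := ⟨⟨⟩⟩) h).op s) =
      resV h (ev Y K V (op ⦋n⦌) s) := by
  let G := ((Rs (bcMor toAug Y).functor (jt _) (jt Y)).obj K).obj
  let c := (adjR (bcMor toAug Y).functor (jt _) (jt Y)).counit.app K
  refine Eq.trans ?_ (ConcreteCategory.congr_hom (c.hom.naturality (cLe h (op ⦋n⦌)).op)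
    (G.map (legHom V (op ⦋n⦌)).op s))
  refine congrArg (c.hom.app _) ?_
  exact map_map_eq G (legHom V' (op ⦋n⦌))
    ((bcMor (ptF bot) Y).functor.map (incHom (Y := ptF bot ⋙ Y) (i := ⟨⟨⟩⟩) h))
    ((bcMor toAug Y).functor.map (cLe h (op ⦋n⦌))) (legHom V (op ⦋n⦌))
    (Quiver.Hom.unop_inj (WithInitial.starInitial.hom_ext _ _)) s

end Groth.Agent.FibDescLib
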