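import Groth.Agent.FibDescLib.Cosimp

/-!
# Injective sheaves on simplicial spaces have exact cosimplicial groups of sections
-/

universe u

open CategoryTheory CategoryTheory.Limits Opposite TopologicalSpace Simplicial

namespace Groth.Agent.FibDescLib

variable {Y : Δp ⥤ TopCat.{u}} (V : Opens (Y.obj bot))

/-- The free presheaf on the part of level `n`. -/
noncomputable def freeP (n : ℕ) : (Tot (toAug ⋙ Y))ᵒᵖ ⥤ AddCommGrpCat.{u} where
  obj d := AddCommGrpCat.of (FreeAbelianGroup (d.unop ⟶ (cObj Y V).obj (op ⦋n⦌)))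
  map f := AddCommGrpCat.ofHom (FreeAbelianGroup.lift fun g => FreeAbelianGroup.of (f.unop ≫ g))
  map_id d := by
    ext1
    refine FreeAbelianGroup.lift_ext _ _ fun g => ?_
    exact (FreeAbelianGroup.lift_apply_of _ _).trans (congrArg _ (Category.id_comp g))
  map_comp f f' := by
    ext1
    refine FreeAbelianGroup.lift_ext _ _ fun g => ?_
    show FreeAbelianGroup.lift _ (FreeAbelianGroup.of g) =
      FreeAbelianGroup.lift _ (FreeAbelianGroup.lift _ (FreeAbelianGroup.of g))
    simp only [FreeAbelianGroup.lift_apply_of, unop_comp, Category.assoc]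

/-- A map out of a free presheaf. -/
noncomputable def freeDesc {n : ℕ} {K : (Tot (toAug ⋙ Y))ᵒᵖ ⥤ AddCommGrpCat.{u}}
    (t : K.obj (op ((cObj Y V).obj (op ⦋n⦌)))) : freeP V n ⟶ K where
  app d := AddCommGrpCat.ofHom (FreeAbelianGroup.lift fun g => K.map g.op t)
  naturality d d' f := by
    ext1
    refine FreeAbelianGroup.lift_ext _ _ fun g => ?_
    show FreeAbelianGroup.lift _ (FreeAbelianGroup.lift _ (FreeAbelianGroup.of g)) =
      K.map f (FreeAbelianGroup.lift _ (FreeAbelianGroup.of g))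
    simp only [FreeAbelianGroup.lift_apply_of]
    exact ConcreteCategory.congr_hom (K.map_comp g.op f) t

/-- A face of the part of a level. -/
noncomputable def cFace {n : ℕ} (i : Fin (n + 2)) :
    (cObj Y V).obj (op ⦋n + 1⦌) ⟶ (cObj Y V).obj (op ⦋n⦌) :=
  (cObj Y V).map (SimplexCategory.δ i).op

/-- The boundary of a generator. -/
noncomputable def bdGen (n : ℕ) {d : Tot (toAug ⋙ Y)}
    (g : d ⟶ (cObj Y V).obj (op ⦋n + 1⦌)) : FreeAbelianGroup (d ⟶ (cObj Y V).obj (op ⦋n⦌)) :=
  ∑ i : Fin (n + 2), (-1 : ℤ) ^ (i : ℕ) • FreeAbelianGroup.of (g ≫ cFace V i)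

/-- The boundary of the free presheaves. -/
noncomputable def bd (n : ℕ) : freeP V (n + 1) ⟶ freeP V n where
  app d := AddCommGrpCat.ofHom (FreeAbelianGroup.lift (bdGen V n (d := d.unop)))
  naturality d d' f := by
    ext1
    refine FreeAbelianGroup.lift_ext _ _ fun g => ?_
    show FreeAbelianGroup.lift _ (FreeAbelianGroup.lift _ (FreeAbelianGroup.of g)) =
      FreeAbelianGroup.lift _ (FreeAbelianGroup.lift _ (FreeAbelianGroup.of g))
    simp only [bdGen, map_sum, map_zsmul, FreeAbelianGroup.lift_apply_of, Category.assoc]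
    rfl

lemma bd_of {n : ℕ} {d : Tot (toAug ⋙ Y)} (g : d ⟶ (cObj Y V).obj (op ⦋n + 1⦌)) :
    (bd V n).app (op d) (FreeAbelianGroup.of g) = bdGen V n g :=
  FreeAbelianGroup.lift_apply_of _ _

/-- The boundary, on groups. -/
noncomputable abbrev bdHom (n : ℕ) (d : Tot (toAug ⋙ Y)) :
    FreeAbelianGroup (d ⟶ (cObj Y V).obj (op ⦋n + 1⦌)) →+
      FreeAbelianGroup (d ⟶ (cObj Y V).obj (op ⦋n⦌)) :=
  FreeAbelianGroup.lift (bdGen V n (d := d))

/-- Prepending the first vertex. -/
noncomputable def coneHom {n : ℕ} {d : Tot (toAug ⋙ Y)}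
    (g : d ⟶ (cObj Y V).obj (op ⦋n⦌)) : d ⟶ (cObj Y V).obj (op ⦋n + 1⦌) :=
  mkHom (A := d) (B := (cObj Y V).obj (op ⦋n + 1⦌))
    (show ⦋n + 1⦌ ⟶ d.base.unop from SimplexCategory.Hom.mk (a := ⦋n + 1⦌) (b := d.base.unop)
      ⟨Fin.cases 0 fun j => g.base.unop.toOrderHom j, fun a b hab => by
        induction a using Fin.cases with
        | zero => exact Fin.zero_le _
        | succ a =>
          induction b using Fin.cases with
          | zero => exact absurd hab (by simp)
          | succ b =>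
            simp only [Fin.cases_succ]
            exact g.base.unop.toOrderHom.monotone (Fin.succ_le_succ_iff.1 hab)⟩).op
    fun x hx => by
      refine (congrArg (fun y => y ∈ V) (map_toBot Y _ x)).mpr ?_
      exact (congrArg (fun y => y ∈ V) (map_toBot Y (toAug.map g.base) x)).mp (hom_mem g x hx)

lemma coneHom_face_zero {n : ℕ} {d : Tot (toAug ⋙ Y)}
    (g : d ⟶ (cObj Y V).obj (op ⦋n⦌)) : coneHom V g ≫ cFace V 0 = g :=
  hom_ext _ _ (Quiver.Hom.unop_inj (SimplexCategory.Hom.ext _ _
    (OrderHom.ext _ _ (funext fun (j : Fin (n + 1)) => by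
      show Fin.cases (motive := fun _ => Fin (d.base.unop.len + 1)) 0
        (fun j => g.base.unop.toOrderHom j) (Fin.succAbove 0 j) = g.base.unop.toOrderHom j
      rw [Fin.succAbove_zero, Fin.cases_succ]))))

lemma coneHom_face_succ {n : ℕ} {d : Tot (toAug ⋙ Y)}
    (g : d ⟶ (cObj Y V).obj (op ⦋n + 1⦌)) (i : Fin (n + 2)) :
    coneHom V g ≫ cFace V i.succ = coneHom V (g ≫ cFace V i) := by
  refine hom_ext _ _ (Quiver.Hom.unop_inj (SimplexCategory.Hom.ext _ _
    (OrderHom.ext _ _ (funext fun (j : Fin (n + 2)) => ?_))))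
  show (Fin.cases (motive := fun _ => Fin (d.base.unop.len + 1)) 0
      (fun j => g.base.unop.toOrderHom j) (Fin.succAbove i.succ j)) =
    Fin.cases (motive := fun _ => Fin (d.base.unop.len + 1)) 0
      (fun j => g.base.unop.toOrderHom (Fin.succAbove i j)) j
  induction j using Fin.cases with
  | zero => exact congrArg (Fin.cases (motive := fun _ => Fin (d.base.unop.len + 1)) 0
      (fun j => g.base.unop.toOrderHom j)) (Fin.succ_succAbove_zero i)
  | succ j => exact congrArg (Fin.cases (motive := fun _ => Fin (d.base.unop.len + 1)) 0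
      (fun j => g.base.unop.toOrderHom j)) (Fin.succ_succAbove_succ i j)

/-- The contraction. -/
noncomputable def hcone (n : ℕ) (d : Tot (toAug ⋙ Y)) :
    FreeAbelianGroup (d ⟶ (cObj Y V).obj (op ⦋n⦌)) →+
      FreeAbelianGroup (d ⟶ (cObj Y V).obj (op ⦋n + 1⦌)) :=
  FreeAbelianGroup.lift fun g => FreeAbelianGroup.of (coneHom V g)

lemma bd_hcone {n : ℕ} {d : Tot (toAug ⋙ Y)}
    (y : FreeAbelianGroup (d ⟶ (cObj Y V).obj (op ⦋n + 1⦌))) :
    bdHom V (n + 1) d (hcone V (n + 1) d y) + hcone V n d (bdHom V n d y) = y := by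
  have h : (bdHom V (n + 1) d).comp (hcone V (n + 1) d) +
      (hcone V n d).comp (bdHom V n d) = AddMonoidHom.id _ := by
    refine FreeAbelianGroup.lift_ext _ _ fun g => ?_
    simp only [AddMonoidHom.add_apply, AddMonoidHom.comp_apply, AddMonoidHom.id_apply, hcone,
      FreeAbelianGroup.lift_apply_of]
    simp only [bdGen, map_sum, map_zsmul, FreeAbelianGroup.lift_apply_of]
    rw [Fin.sum_univ_succ (n := n + 2), coneHom_face_zero]
    simp only [coneHom_face_succ, Fin.val_zero, pow_zero, one_smul, Fin.val_succ, pow_succ, mul_neg,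
      mul_one, neg_smul, Finset.sum_neg_distrib]
    exact neg_add_cancel_right _ _
  exact DFunLike.congr_fun h y

variable (Y) in
/-- Injective sheaves have exact cosimplicial groups of sections. -/
theorem cExact_of_injective (K : Sheaf (jt (toAug ⋙ Y)) AddCommGrpCat.{u}) [Injective K] :
    CExact K := by
  intro V n t ht
  have : (sheafToPresheaf (jt (toAug ⋙ Y)) AddCommGrpCat.{u}).PreservesInjectiveObjects :=
    Functor.preservesInjectiveObjects_of_adjunction_of_preservesMonomorphisms
      (sheafificationAdjunction (jt (toAug ⋙ Y)) AddCommGrpCat.{u})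
  have : Injective K.obj := (sheafToPresheaf (jt (toAug ⋙ Y)) AddCommGrpCat.{u}).injective_obj K
  let Φ : freeP V (n + 1) ⟶ K.obj := freeDesc V t
  have hΦ : ∀ (d : Tot (toAug ⋙ Y))
      (y : FreeAbelianGroup (d ⟶ (cObj Y V).obj (op ⦋n + 1 + 1⦌))),
      FreeAbelianGroup.lift (fun g => K.obj.map (Quiver.Hom.op g) t) (bdHom V (n + 1) d y) = 0 := by
    intro d y
    have h : (FreeAbelianGroup.lift fun g : d ⟶ (cObj Y V).obj (op ⦋n + 1⦌) =>
        K.obj.map g.op t).comp (bdHom V (n + 1) d) = 0 := by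
      refine FreeAbelianGroup.lift_ext _ _ fun g => ?_
      simp only [AddMonoidHom.comp_apply, FreeAbelianGroup.lift_apply_of, bdGen, map_sum,
        map_zsmul, AddMonoidHom.zero_apply]
      refine Eq.trans ?_ ((congrArg (K.obj.map g.op) ht).trans (map_zero _))
      rw [dC_eq_sum]
      refine Eq.trans ?_ (map_sum (K.obj.map g.op).hom _ _).symm
      refine Finset.sum_congr rfl fun i _ => ?_
      refine Eq.trans ?_ (map_zsmul (K.obj.map g.op).hom _ _).symm
      exact congrArg _ (ConcreteCategory.congr_hom (K.obj.map_comp (cFace V i).op g.op) t)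
    exact DFunLike.congr_fun h y
  have hker : kernel.ι (Abelian.factorThruImage (bd V n)) ≫ Φ = 0 := by
    ext d k
    let y := (kernel.ι (Abelian.factorThruImage (bd V n))).app d k
    have hy : (bd V n).app d y = 0 := by
      have h0 : kernel.ι (Abelian.factorThruImage (bd V n)) ≫ bd V n = 0 := by
        refine (whisker_eq _ (Abelian.image.fac (bd V n)).symm).trans ?_
        rw [kernel.condition_assoc, zero_comp]
      exact ConcreteCategory.congr_hom (NatTrans.congr_app h0 d) k
    show Φ.app d y = 0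
    have hb := bd_hcone V (d := d.unop) y
    rw [show bdHom V n d.unop y = 0 from hy, map_zero, add_zero] at hb
    exact (congrArg (Φ.app d) hb.symm).trans (hΦ d.unop _)
  let ψ := Injective.factorThru (Abelian.epiDesc _ Φ hker) (Abelian.image.ι (bd V n))
  have hψ : bd V n ≫ ψ = Φ := by
    refine (eq_whisker (Abelian.image.fac (bd V n)).symm ψ).trans ?_
    rw [Category.assoc, Injective.comp_factorThru, Abelian.comp_epiDesc]
  refine ⟨ψ.app (op _) (FreeAbelianGroup.of (𝟙 ((cObj Y V).obj (op ⦋n⦌)))), ?_⟩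
  have h1 : Φ.app _ (FreeAbelianGroup.of (𝟙 ((cObj Y V).obj (op ⦋n + 1⦌)))) = t :=
    (FreeAbelianGroup.lift_apply_of _ _).trans (ConcreteCategory.congr_hom (K.obj.map_id _) t)
  refine Eq.trans ?_ h1
  rw [← hψ]
  show _ = ψ.app (op _) ((bd V n).app (op _) (FreeAbelianGroup.of (𝟙 _)))
  refine Eq.trans ?_ (congrArg (ψ.app (op _)) (bd_of V _)).symm
  rw [dC_eq_sum, bdGen]
  refine Eq.trans ?_ (map_sum (ψ.app (op _)).hom _ _).symm
  refine Finset.sum_congr rfl fun i _ => ?_
  refine Eq.trans ?_ (map_zsmul (ψ.app (op _)).hom _ _).symm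
  refine congrArg ((-1 : ℤ) ^ (i : ℕ) • ·) ?_
  refine (ConcreteCategory.congr_hom (ψ.naturality (cFace V i).op) _).symm.trans ?_
  exact congrArg (ψ.app (op _)) ((FreeAbelianGroup.lift_apply_of _ _).trans
    (congrArg _ ((Category.comp_id _).trans (Category.id_comp _).symm)))

end Groth.Agent.FibDescLib
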