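import Groth.Agent.FibDescLib.Levels
import Groth.Agent.FibDescLib.CosimpMap
import Groth.Agent.FibDescLib.InjExact

/-!
# Proper base change for direct images from augmented simplicial spaces
-/

universe u

open CategoryTheory CategoryTheory.Limits Opposite TopologicalSpace Simplicial

namespace Groth.Agent.FibDescLib

open Groth.Agent.CohTop.Proper.Extend (Sep)

lemma isIso_of_isTerminal' {C : Type*} [Category C] {A B : C} (hA : IsTerminal A)
    (hB : IsTerminal B) (f : A ⟶ B) : IsIso f :=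
  ⟨hA.from B, hA.hom_ext _ _, hB.hom_ext _ _⟩

variable {Y' Y : Δp ⥤ TopCat.{u}} (e : Y' ⟶ Y)

/-- The map on simplicial parts. -/
noncomputable abbrev eS : toAug ⋙ Y' ⟶ toAug ⋙ Y := Functor.whiskerLeft toAug e

/-- The map on bases. -/
noncomputable abbrev eB : ptF bot ⋙ Y' ⟶ ptF bot ⋙ Y := Functor.whiskerLeft (ptF bot) e

/-- Inverse image on simplicial parts. -/
noncomputable abbrev pS : Sheaf (jt (toAug ⋙ Y)) AddCommGrpCat.{u} ⥤
    Sheaf (jt (toAug ⋙ Y')) AddCommGrpCat.{u} := Ls (resF (eS e)) (jt _) (jt _)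

/-- Inverse image on bases. -/
noncomputable abbrev pB : Sheaf (jt (ptF bot ⋙ Y)) AddCommGrpCat.{u} ⥤
    Sheaf (jt (ptF bot ⋙ Y')) AddCommGrpCat.{u} := Ls (resF (eB e)) (jt _) (jt _)

variable (Y) in
/-- The direct image of an augmented simplicial space. -/
noncomputable abbrev prY : Sheaf (jt (toAug ⋙ Y)) AddCommGrpCat.{u} ⥤
    Sheaf (jt (ptF bot ⋙ Y)) AddCommGrpCat.{u} :=
  pr (bcMor toAug Y).functor (bcMor (ptF bot) Y).functor (jt _) (jt _) (jt Y)

/-- Direct images commute. -/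
noncomputable def dirComm :
    prY Y' ⋙ rs (resF (eB e)) (jt _) (jt _) ≅ rs (resF (eS e)) (jt _) (jt _) ⋙ prY Y :=
  haveI := isIso_βR_resW e toAug
  Functor.associator _ _ _ ≪≫
    Functor.isoWhiskerLeft _
      (sqIso (resW e (ptF bot)) (jt Y) (jt (ptF bot ⋙ Y)) (jt Y') (jt (ptF bot ⋙ Y'))) ≪≫
    (Functor.associator _ _ _).symm ≪≫
    Functor.isoWhiskerRight (asIso (βR (resW e toAug).symm (jt (toAug ⋙ Y')) (jt (toAug ⋙ Y))
      (jt Y') (jt Y))) _ ≪≫
    Functor.associator _ _ _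

/-- The base change map. -/
noncomputable def bcTrans : TwoSquare (prY Y) (pS e) (pB e) (prY Y') :=
  (mateEquiv (adjL (resF (eS e)) (jt _) (jt _)) (adjL (resF (eB e)) (jt _) (jt _))).symm
    (TwoSquare.mk _ _ _ _ (dirComm e).inv)

/-- The transition from a whole level of the source to a part of a level of the target. -/
noncomputable def toFib {V : Opens (Y.obj bot)} (hV : ∀ y, e.app bot y ∈ V) (n : SimplexCategoryᵒᵖ) :
    (cObj Y' ⊤).obj n ⟶ (resF (eS e)).obj ((cObj Y V).obj n) :=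
  incHom (Y := toAug ⋙ Y') fun x _ => by
    show Y.map (toBot (toAug.obj n)) (e.app (toAug.obj n) x) ∈ V
    exact (congrArg (fun y => y ∈ V) (nat_map e (toBot (toAug.obj n)) x)).mpr (hV _)

/-- The transition from the point to an open of the base. -/
noncomputable def fibHom {V : Opens (Y.obj bot)} (hV : ∀ y, e.app bot y ∈ V) :
    pt (Y := ptF bot ⋙ Y') ⟨⟨⟩⟩ ⊤ ⟶ (resF (eB e)).obj (pt (Y := ptF bot ⋙ Y) ⟨⟨⟩⟩ V) :=
  incHom (Y := ptF bot ⋙ Y') fun y _ => hV y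

variable (H : Sheaf (jt (toAug ⋙ Y)) AddCommGrpCat.{u})

/-- Restriction of sections to the fibre. -/
noncomputable def phi {V : Opens (Y.obj bot)} (hV : ∀ y, e.app bot y ∈ V) (n : ℕ) :
    (coS Y H V).obj ⦋n⦌ →+ (coS Y' ((pS e).obj H) ⊤).obj ⦋n⦌ :=
  (((adjL (resF (eS e)) (jt _) (jt _)).unit.app H).hom.app (op ((cObj Y V).obj (op ⦋n⦌))) ≫
    ((pS e).obj H).obj.map (toFib e hV (op ⦋n⦌)).op).hom

lemma phi_face {V : Opens (Y.obj bot)} (hV : ∀ y, e.app bot y ∈ V) {n : ℕ} (i : Fin (n + 2))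
    (t : (coS Y H V).obj ⦋n⦌) : phi e H hV (n + 1) (face V i t) = face ⊤ i (phi e H hV n t) := by
  refine (congrArg (((pS e).obj H).obj.map (toFib e hV (op ⦋n + 1⦌)).op) (ConcreteCategory.congr_hom
    (((adjL (resF (eS e)) (jt _) (jt _)).unit.app H).hom.naturality
      ((cObj Y V).map (SimplexCategory.δ i).op).op) t)).trans ?_
  exact map_map_eq ((pS e).obj H).obj (toFib e hV (op ⦋n + 1⦌))
    ((resF (eS e)).map ((cObj Y V).map (SimplexCategory.δ i).op))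
    ((cObj Y' ⊤).map (SimplexCategory.δ i).op) (toFib e hV (op ⦋n⦌))
    ((Category.id_comp _).trans (Category.comp_id _).symm) _

lemma phi_resV {V' V : Opens (Y.obj bot)} (h : V' ≤ V) (hV' : ∀ y, e.app bot y ∈ V') {n : ℕ}
    (t : (coS Y H V).obj ⦋n⦌) :
    phi e H hV' n (resV h t) = phi e H (fun y => h (hV' y)) n t := by
  refine (congrArg (((pS e).obj H).obj.map (toFib e hV' (op ⦋n⦌)).op) (ConcreteCategory.congr_hom
    (((adjL (resF (eS e)) (jt _) (jt _)).unit.app H).hom.naturality (cLe h (op ⦋n⦌)).op) t)).trans ?_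
  exact map_map_single ((pS e).obj H).obj (toFib e hV' (op ⦋n⦌))
    ((resF (eS e)).map (cLe h (op ⦋n⦌))) (toFib e (fun y => h (hV' y)) (op ⦋n⦌))
    (Category.comp_id _) _

/-- Direct images commute, on sections. -/
lemma ev_dirComm (K : Sheaf (jt (toAug ⋙ Y')) AddCommGrpCat.{u}) {V : Opens (Y.obj bot)}
    (hV : ∀ y, e.app bot y ∈ V) (n : ℕ)
    (z : dirIm Y' K ((Opens.map (e.app bot)).obj V)) :
    K.obj.map (toFib e hV (op ⦋n⦌)).op
        (ev Y ((rs (resF (eS e)) (jt _) (jt _)).obj K) V (op ⦋n⦌)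
          (((dirComm e).hom.app K).hom.app (op (pt (Y := ptF bot ⋙ Y) ⟨⟨⟩⟩ V)) z)) =
      ev Y' K ⊤ (op ⦋n⦌) (((prY Y').obj K).obj.map (fibHom e hV).op z) := by
  let w := (resW e toAug).symm
  let β := βR w (jt (toAug ⋙ Y')) (jt (toAug ⋙ Y)) (jt Y') (jt Y)
  let G := ((Rs (bcMor toAug Y').functor (jt _) (jt Y')).obj K).obj
  let c' := (adjR (bcMor toAug Y').functor (jt _) (jt Y')).counit.app K
  let c := (adjR (bcMor toAug Y).functor (jt _) (jt Y)).counit.app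
    ((rs (resF (eS e)) (jt _) (jt _)).obj K)
  let A := (cObj Y V).obj (op ⦋n⦌)
  let d₀ := (bcMor (ptF bot) Y).functor.obj (pt (Y := ptF bot ⋙ Y) ⟨⟨⟩⟩ V)
  let z₁ : G.obj (op ((resF e).obj d₀)) :=
    G.map ((resW e (ptF bot)).hom.app (pt (Y := ptF bot ⋙ Y) ⟨⟨⟩⟩ V)).op z
  have hR : ((dirComm e).hom.app K).hom.app (op (pt (Y := ptF bot ⋙ Y) ⟨⟨⟩⟩ V)) z =
      (β.app K).hom.app (op d₀) z₁ := rfl
  have hh : ∀ x, c.hom.app (op A) ((β.app K).hom.app (op ((bcMor toAug Y).functor.obj A)) x) =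
      c'.hom.app (op ((resF (eS e)).obj A)) (G.map (w.hom.app A).op x) := fun x =>
    ConcreteCategory.congr_hom (congrArg (fun f => f.hom.app (op A))
      (mateEquiv_counit (adjR (bcMor toAug Y').functor (jt _) (jt Y'))
        (adjR (bcMor toAug Y).functor (jt _) (jt Y))
        (sqCell w (jt (toAug ⋙ Y')) (jt (toAug ⋙ Y)) (jt Y') (jt Y)) K)) x
  rw [hR]
  refine (congrArg (K.obj.map (toFib e hV (op ⦋n⦌)).op) (show
    ev Y ((rs (resF (eS e)) (jt _) (jt _)).obj K) V (op ⦋n⦌) ((β.app K).hom.app (op d₀) z₁) =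
      c'.hom.app (op ((resF (eS e)).obj A))
        (G.map (w.hom.app A).op (G.map ((resF e).map (legHom V (op ⦋n⦌))).op z₁)) from ?_)).trans ?_
  · refine Eq.trans ?_ (hh _)
    exact congrArg (c.hom.app (op A))
      (ConcreteCategory.congr_hom ((β.app K).hom.naturality (legHom V (op ⦋n⦌)).op) z₁).symm
  · refine (ConcreteCategory.congr_hom (c'.hom.naturality (toFib e hV (op ⦋n⦌)).op) _).symm.trans ?_
    refine congrArg (c'.hom.app (op ((cObj Y' ⊤).obj (op ⦋n⦌)))) ?_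
    refine (congrArg (G.map _) ((congrArg (G.map _) (map_map_single G _ _
      ((resF e).map (legHom V (op ⦋n⦌)) ≫
        (resW e (ptF bot)).hom.app (pt (Y := ptF bot ⋙ Y) ⟨⟨⟩⟩ V)) rfl z)).trans
          (map_map_single G (w.hom.app A) _ (w.hom.app A ≫ (resF e).map (legHom V (op ⦋n⦌)) ≫
            (resW e (ptF bot)).hom.app (pt (Y := ptF bot ⋙ Y) ⟨⟨⟩⟩ V)) rfl z))).trans ?_
    exact map_map_eq G _ _ _ _ (Quiver.Hom.unop_inj (WithInitial.starInitial.hom_ext _ _)) z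

/-- The base change map, on sections. -/
lemma ev_bcTrans {V : Opens (Y.obj bot)} (hV : ∀ y, e.app bot y ∈ V) (n : ℕ)
    (s : dirIm Y H V) :
    ev Y' ((pS e).obj H) ⊤ (op ⦋n⦌) (((prY Y').obj ((pS e).obj H)).obj.map
        (fibHom e hV).op
        (((bcTrans e).natTrans.app H).hom.app _ (ηT (eB e) ((prY Y).obj H) _ s))) =
      phi e H hV n (ev Y H V (op ⦋n⦌) s) := by
  have hu := ConcreteCategory.congr_hom (congrArg (fun f => f.hom.app
      (op (pt (Y := ptF bot ⋙ Y) ⟨⟨⟩⟩ V)))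
    (unit_mateEquiv_symm (adjL (resF (eS e)) (jt _) (jt _)) (adjL (resF (eB e)) (jt _) (jt _))
      (TwoSquare.mk _ _ _ _ (dirComm e).inv) H)) s
  have hi := ConcreteCategory.congr_hom (congrArg (fun f => f.hom.app
      (op (pt (Y := ptF bot ⋙ Y) ⟨⟨⟩⟩ V))) ((dirComm e).inv_hom_id_app ((pS e).obj H)))
    (((prY Y).map ((adjL (resF (eS e)) (jt _) (jt _)).unit.app H)).hom.app _ s)
  refine (ev_dirComm e ((pS e).obj H) hV n _).symm.trans ?_
  refine (congrArg (fun x => ((pS e).obj H).obj.map (toFib e hV (op ⦋n⦌)).op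
    (ev Y _ V (op ⦋n⦌) x)) ((congrArg (((dirComm e).hom.app ((pS e).obj H)).hom.app
      (op (pt (Y := ptF bot ⋙ Y) ⟨⟨⟩⟩ V))) hu.symm).trans hi)).trans ?_
  exact congrArg (((pS e).obj H).obj.map (toFib e hV (op ⦋n⦌)).op)
    (ev_hom V (op ⦋n⦌) ((adjL (resF (eS e)) (jt _) (jt _)).unit.app H) s)

section Fibre

variable [Subsingleton (Y'.obj bot)] [Nonempty (Y'.obj bot)]
  [∀ n : SimplexCategoryᵒᵖ, CompactSpace (Y'.obj (toAug.obj n))]
  (hind : ∀ n : SimplexCategoryᵒᵖ, Topology.IsInducing (e.app (toAug.obj n)))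
  (hsep : ∀ n : SimplexCategoryᵒᵖ, Sep (e.app (toAug.obj n)))
  (hcl : ∀ n : SimplexCategoryᵒᵖ, IsClosedMap (Y.map (toBot (toAug.obj n))))
  (hfib : ∀ (n : SimplexCategoryᵒᵖ) (v : Y.obj (toAug.obj n)),
    Y.map (toBot (toAug.obj n)) v ∈ Set.range (e.app bot) → v ∈ Set.range (e.app (toAug.obj n)))

include hcl hfib in
omit [∀ n : SimplexCategoryᵒᵖ, CompactSpace (Y'.obj (toAug.obj n))] in
/-- Neighbourhoods of a fibre contain parts over neighbourhoods of the point. -/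
lemma exists_base_nhd (n : SimplexCategoryᵒᵖ) (W : Opens (Y.obj (toAug.obj n)))
    (hW : ∀ z, e.app (toAug.obj n) z ∈ W) :
    ∃ V : Opens (Y.obj bot), (∀ y, e.app bot y ∈ V) ∧ preV Y V n ≤ W := by
  refine ⟨⟨(Y.map (toBot (toAug.obj n)) '' (W : Set _)ᶜ)ᶜ,
    ((hcl n) _ W.isOpen.isClosed_compl).isOpen_compl⟩, fun y => ?_, fun v hv => ?_⟩
  · rintro ⟨v, hv, hy⟩
    obtain ⟨z, rfl⟩ := hfib n v ⟨y, hy.symm⟩
    exact hv (hW z)
  · by_contra h
    exact hv ⟨v, h, rfl⟩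

include hind hsep hcl hfib in
/-- Sections on a fibre come from parts over a neighbourhood of the point. -/
lemma exists_phi_eq (n : ℕ) (u : (coS Y' ((pS e).obj H) ⊤).obj ⦋n⦌) :
    ∃ (V : Opens (Y.obj bot)) (hV : ∀ y, e.app bot y ∈ V) (a : (coS Y H V).obj ⦋n⦌),
      phi e H hV n a = u := by
  have : CompactSpace ((toAug ⋙ Y').obj (op ⦋n⦌)) :=
    inferInstanceAs (CompactSpace (Y'.obj (toAug.obj (op ⦋n⦌))))
  obtain ⟨W, hW, a, ha⟩ := exists_lift_near (eS e) (op ⦋n⦌) H (hind _) (hsep _) u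
  obtain ⟨V, hV, hVW⟩ := exists_base_nhd e hcl hfib (op ⦋n⦌) W hW
  refine ⟨V, hV, res (op ⦋n⦌) H hVW a, ?_⟩
  refine Eq.trans ?_ ha
  refine (congrArg (((pS e).obj H).obj.map (toFib e hV (op ⦋n⦌)).op) (ConcreteCategory.congr_hom
    (((adjL (resF (eS e)) (jt _) (jt _)).unit.app H).hom.naturality
      (incHom (Y := toAug ⋙ Y) hVW).op) a)).trans ?_
  exact map_map_single ((pS e).obj H).obj _ _ _ (Category.comp_id _) _

include hind hsep hcl hfib in
/-- Sections vanishing on a fibre vanish over a neighbourhood of the point. -/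
lemma exists_resV_eq {V : Opens (Y.obj bot)} (hV : ∀ y, e.app bot y ∈ V) (n : ℕ)
    (a a' : (coS Y H V).obj ⦋n⦌) (h : phi e H hV n a = phi e H hV n a') :
    ∃ (V' : Opens (Y.obj bot)) (hle : V' ≤ V), (∀ y, e.app bot y ∈ V') ∧
      resV hle a = resV hle a' := by
  have hW₀ : ∀ z, (eS e).app (op ⦋n⦌) z ∈ preV Y V (op ⦋n⦌) := fun z =>
    (congrArg (fun y => y ∈ V) (nat_map e (toBot (toAug.obj (op ⦋n⦌))) z)).mpr (hV _)
  obtain ⟨W, hW, _, hz, q⟩ := exists_eq_near_fibre (eS e) (op ⦋n⦌) H (U := preV Y V (op ⦋n⦌))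
    (U' := preV Y V (op ⦋n⦌)) hW₀ hW₀ a a' h
  obtain ⟨V', hV', hV'W⟩ := exists_base_nhd e hcl hfib (op ⦋n⦌) W hz
  refine ⟨V' ⊓ V, inf_le_right, fun y => ⟨hV' y, hV y⟩, ?_⟩
  have hle : preV Y (V' ⊓ V) (op ⦋n⦌) ≤ W := fun v hv => hV'W hv.1
  have q' := congrArg (H.obj.map (incHom (Y := toAug ⋙ Y) hle).op) q
  exact (map_map_single H.obj _ _ _ (Category.comp_id _) a).symm.trans
    (q'.trans (map_map_single H.obj _ _ _ (Category.comp_id _) a'))

include hind hsep hcl hfib in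
/-- Exactness passes to the fibre. -/
lemma cExact_pS (hH : CExact H) (n : ℕ) (u : (coS Y' ((pS e).obj H) ⊤).obj ⦋n + 1⦌)
    (hu : dC ⊤ u = 0) : ∃ w : (coS Y' ((pS e).obj H) ⊤).obj ⦋n⦌, dC ⊤ w = u := by
  obtain ⟨V, hV, a, rfl⟩ := exists_phi_eq e H hind hsep hcl hfib (n + 1) u
  rw [← dC_map (phi e H hV (n + 1)) (phi e H hV (n + 1 + 1)) (fun i t => phi_face e H hV i t)] at hu
  obtain ⟨V', hle, hV', q⟩ := exists_resV_eq e H hind hsep hcl hfib hV (n + 1 + 1) (dC V a) 0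
    (hu.trans (map_zero _).symm)
  obtain ⟨w, hw⟩ := hH V' n (resV hle a) ((dC_resV hle a).symm.trans (q.trans (map_zero _)))
  refine ⟨phi e H hV' n w, ?_⟩
  rw [← dC_map (phi e H hV' n) (phi e H hV' (n + 1)) (fun i t => phi_face e H hV' i t), hw]
  exact phi_resV e H hle hV' a

include hind hsep hcl hfib in
/-- The base change map is bijective on global sections. -/
theorem bijective_bcTrans :
    Function.Bijective (((bcTrans e).natTrans.app H).hom.app
      (op (pt (Y := ptF bot ⋙ Y') ⟨⟨⟩⟩ ⊤))) := by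
  have hsub : Subsingleton ((ptF bot ⋙ Y').obj ⟨⟨⟩⟩) := inferInstanceAs (Subsingleton (Y'.obj bot))
  have : CompactSpace ((ptF bot ⋙ Y').obj ⟨⟨⟩⟩) := ⟨(Set.subsingleton_of_subsingleton).isCompact⟩
  have hi : Topology.IsInducing ((eB e).app ⟨⟨⟩⟩) := ⟨Subsingleton.elim _ _⟩
  have hs : Sep ((eB e).app ⟨⟨⟩⟩) := fun z z' h => absurd (Subsingleton.elim z z') h
  let P := (prY Y).obj H
  let F := ((bcTrans e).natTrans.app H).hom.app (op (pt (Y := ptF bot ⋙ Y') ⟨⟨⟩⟩ ⊤))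
  let G := ((prY Y').obj ((pS e).obj H)).obj
  have key : ∀ (V : Opens (Y.obj bot)) (hV : ∀ y, e.app bot y ∈ V) (s : dirIm Y H V),
      ev Y' ((pS e).obj H) ⊤ (op ⦋0⦌) (F (((pB e).obj P).obj.map
        (fibHom e hV).op
        (ηT (eB e) P _ s))) = phi e H hV 0 (ev Y H V (op ⦋0⦌) s) := fun V hV s => by
    refine Eq.trans (congrArg _ ?_) (ev_bcTrans e H hV 0 s)
    exact ConcreteCategory.congr_hom (((bcTrans e).natTrans.app H).hom.naturality _) _
  refine ⟨?_, fun t => ?_⟩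
  · refine (injective_iff_map_eq_zero (F.hom)).2 fun x hx => ?_
    obtain ⟨V, hV, s, rfl⟩ := exists_lift_near (eB e) ⟨⟨⟩⟩ P hi hs x
    have h0 : phi e H hV 0 (ev Y H V (op ⦋0⦌) s) = phi e H hV 0 0 := by
      rw [← key V hV s, map_zero]
      exact (congrArg _ hx).trans (map_zero _)
    obtain ⟨V', hle, hV', q⟩ := exists_resV_eq e H hind hsep hcl hfib hV 0 _ _ h0
    have hz : P.obj.map (incHom (Y := ptF bot ⋙ Y) (i := ⟨⟨⟩⟩) hle).op s = 0 := by
      apply ev_injective V'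
      exact (ev_res hle 0 s).trans (q.trans ((map_zero _).trans (map_zero _).symm))
    have hn := ConcreteCategory.congr_hom
      (((adjL (resF (eB e)) (jt _) (jt _)).unit.app P).hom.naturality
        (incHom (Y := ptF bot ⋙ Y) (i := ⟨⟨⟩⟩) hle).op) s
    have hn' := ((congrArg (ηT (eB e) P _) hz).trans (map_zero _)).symm.trans hn
    refine Eq.trans ?_ ((congrArg (((pB e).obj P).obj.map (fibHom e hV').op)
        hn'.symm).trans (map_zero _))
    exact (map_map_single _ _ _ _ (Category.comp_id _) _).symm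
  · obtain ⟨V, hV, a, ha⟩ := exists_phi_eq e H hind hsep hcl hfib 0
      (ev Y' ((pS e).obj H) ⊤ (op ⦋0⦌) t)
    have h1 : phi e H hV 1 (face V 0 a) = phi e H hV 1 (face V 1 a) := by
      rw [phi_face, phi_face, ha, face_ev, face_ev]
    obtain ⟨V', hle, hV', q⟩ := exists_resV_eq e H hind hsep hcl hfib hV 1 _ _ h1
    rw [resV_face, resV_face] at q
    obtain ⟨s, hs'⟩ := exists_ev_eq V' (resV hle a) q
    refine ⟨((pB e).obj P).obj.map (fibHom e hV').op
        (ηT (eB e) P _ s), ev_injective ⊤ ?_⟩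
    rw [key V' hV' s, hs', phi_resV, ha]

include hind hsep hcl hfib in
/-- Proper base change. -/
theorem isIso_bcTrans : IsIso (bcTrans e).natTrans := by
  rw [NatTrans.isIso_iff_isIso_app]
  intro H
  have : IsIso ((sheafToPresheaf _ AddCommGrpCat.{u}).map ((bcTrans e).natTrans.app H)) := by
    rw [NatTrans.isIso_iff_isIso_app]
    rintro ⟨⟨⟨⟨⟩⟩⟩, U⟩
    obtain ⟨U, rfl⟩ : ∃ U' : Opens (Y'.obj bot), U' = U := ⟨U, rfl⟩
    rcases (isEmpty_or_nonempty (U : Opens (Y'.obj bot))) with hU | hU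
    · obtain rfl : (U : Opens (Y'.obj bot)) = ⊥ := Opens.ext (Set.eq_empty_iff_forall_notMem.2
        fun x hx => hU.false ⟨x, hx⟩)
      exact isIso_of_isTerminal'
        (TopCat.Sheaf.isTerminalOfEqEmpty (X := (ptF bot ⋙ Y').obj ⟨⟨⟩⟩)
          (atLvl ⟨⟨⟩⟩ ((prY Y ⋙ pB e).obj H)) rfl)
        (TopCat.Sheaf.isTerminalOfEqEmpty (X := (ptF bot ⋙ Y').obj ⟨⟨⟩⟩)
          (atLvl ⟨⟨⟩⟩ ((pS e ⋙ prY Y').obj H)) rfl) _
    · obtain rfl : (U : Opens (Y'.obj bot)) = ⊤ := Opens.ext (Set.eq_univ_iff_forall.2 fun x => by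
        obtain ⟨⟨y, hy⟩⟩ := hU
        exact Subsingleton.elim y x ▸ hy)
      exact (ConcreteCategory.isIso_iff_bijective _).2
        (bijective_bcTrans e H hind hsep hcl hfib)
  exact isIso_of_reflects_iso _ (sheafToPresheaf _ AddCommGrpCat.{u})

end Fibre

end Groth.Agent.FibDescLib
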