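import Groth.Agent.FibDescLib.Loc

/-!
# Iterated descent for diagrams of spaces indexed by a "product" of index categories
-/

universe u

open CategoryTheory CategoryTheory.Limits Opposite TopologicalSpace

namespace Groth.Agent.FibDescLib

section Comp

variable {C D E : Type u} [Category.{u} C] [Category.{u} D] [Category.{u} E]
  {F : C ⥤ D} {G : D ⥤ E} {H : C ⥤ E} (e : F ⋙ G ≅ H)
  (J : GrothendieckTopology C) (K : GrothendieckTopology D) (L : GrothendieckTopology E)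
  [F.IsContinuous J K] [G.IsContinuous K L] [H.IsContinuous J L]

/-- Composition of restrictions. -/
noncomputable def rsComp : rs G K L ⋙ rs F J K ≅ rs H J L :=
  Functor.sheafPushforwardContinuousComp' e AddCommGrpCat.{u} J K L

variable [F.IsCocontinuous J K] [G.IsCocontinuous K L] [H.IsCocontinuous J L]

/-- Composition of their right adjoints. -/
noncomputable def RsComp : Rs F J K ⋙ Rs G K L ≅ Rs H J L :=
  (((adjR G K L).comp (adjR F J K)).ofNatIsoLeft (rsComp e J K L)).rightAdjointUniq (adjR H J L)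

end Comp

section Iterated

variable {C₀ M B DL B₀ Z : Type u} [Category.{u} C₀] [Category.{u} M] [Category.{u} B]
  [Category.{u} DL] [Category.{u} B₀] [Category.{u} Z]
  {a₁ : C₀ ⥤ M} {b₁ : B ⥤ M} {aL : B ⥤ DL} {bL : B₀ ⥤ DL} {i : M ⥤ Z} {q : DL ⥤ Z}
  {aZ : C₀ ⥤ Z} {bZ : B₀ ⥤ Z}
  (w : b₁ ⋙ i ≅ aL ⋙ q) (ea : a₁ ⋙ i ≅ aZ) (eb : bL ⋙ q ≅ bZ)
  (J₀ : GrothendieckTopology C₀) (JM : GrothendieckTopology M) (JB : GrothendieckTopology B)
  (JL : GrothendieckTopology DL) (JB₀ : GrothendieckTopology B₀) (JZ : GrothendieckTopology Z)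
  [a₁.IsContinuous J₀ JM] [a₁.IsCocontinuous J₀ JM] [b₁.IsContinuous JB JM]
  [aL.IsContinuous JB JL] [aL.IsCocontinuous JB JL] [bL.IsContinuous JB₀ JL]
  [i.IsContinuous JM JZ] [i.IsCocontinuous JM JZ] [q.IsContinuous JL JZ]
  [aZ.IsContinuous J₀ JZ] [aZ.IsCocontinuous J₀ JZ] [bZ.IsContinuous JB₀ JZ]

/-- Direct images compose. -/
noncomputable def prComp (h : IsIso (βR w JM JB JZ JL)) :
    pr a₁ b₁ JB J₀ JM ⋙ pr aL bL JB₀ JB JL ≅ pr aZ bZ JB₀ J₀ JZ :=
  Functor.associator (Rs a₁ J₀ JM) (rs b₁ JB JM) (pr aL bL JB₀ JB JL) ≪≫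
    Functor.isoWhiskerLeft (Rs a₁ J₀ JM)
      ((Functor.associator (rs b₁ JB JM) (Rs aL JB JL) (rs bL JB₀ JL)).symm ≪≫
        Functor.isoWhiskerRight (@asIso _ _ _ _ _ h).symm _ ≪≫
        Functor.associator (Rs i JM JZ) (rs q JL JZ) (rs bL JB₀ JL) ≪≫
        Functor.isoWhiskerLeft (Rs i JM JZ) (rsComp eb JB₀ JL JZ)) ≪≫
    (Functor.associator (Rs a₁ J₀ JM) (Rs i JM JZ) (rs bZ JB₀ JZ)).symm ≪≫
    Functor.isoWhiskerRight (RsComp ea J₀ JM JZ) _

include w ea eb in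
/-- Descent in two steps gives descent for the composite. -/
theorem descS_of_steps (h : IsIso (βR w JM JB JZ JL))
    [PreservesFiniteLimits (pl a₁ b₁ JB J₀ JM)]
    (h₁ : DescS aL bL JB₀ JB JL) (h₂ : DescS a₁ b₁ JB J₀ JM) : DescS aZ bZ JB₀ J₀ JZ :=
  DescAdj.congrRight (prComp w ea eb J₀ JM JB JL JB₀ JZ h) (DescAdj.comp h₁ h₂)

include w ea eb in
/-- Descent for the composite and for the first step gives descent for the second. -/
theorem descS_cancel (h : IsIso (βR w JM JB JZ JL))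
    [PreservesFiniteLimits (pl a₁ b₁ JB J₀ JM)]
    (hZ : DescS aZ bZ JB₀ J₀ JZ) (h₂ : DescS a₁ b₁ JB J₀ JM) : DescS aL bL JB₀ JB JL :=
  DescAdj.cancel
    (DescAdj.congrRight (adj' := (adjS aL bL JB₀ JB JL).comp (adjS a₁ b₁ JB J₀ JM))
      (prComp w ea eb J₀ JM JB JL JB₀ JZ h).symm hZ) h₂

end Iterated

end Groth.Agent.FibDescLib
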