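import Groth.Agent.FibDescLib.Loc

/-!
# Descent checked on lines
-/

universe u

open CategoryTheory CategoryTheory.Limits Opposite TopologicalSpace

namespace Groth.Agent.FibDescLib

variable {M S₀ SL S' L' : Type} [Category.{0} M] [Category.{0} S₀] [Category.{0} SL]
  [Category.{0} S'] [Category.{0} L']
  (φ₁ : S₀ ⥤ M) (β : SL ⥤ M) (φ' : S' ⥤ L') (k' : L') (W : M ⥤ TopCat.{u})
  (Λ : SL → (L' ⥤ M))
  (P : ∀ n, Mor (φ' ⋙ Λ n ⋙ W) (φ₁ ⋙ W))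
  (Pb : ∀ n, Mor (ptF k' ⋙ Λ n ⋙ W) (β ⋙ W))
  (σa : ∀ n, (P n).ψ ⋙ φ₁ ≅ φ' ⋙ Λ n) (σb : ∀ n, (Pb n).ψ ⋙ β ≅ ptF k' ⋙ Λ n)

/-- Descent for a family of diagrams can be checked on lines. -/
theorem descS_of_lines
    (hea : ∀ n (i : S') (x : (φ' ⋙ Λ n ⋙ W).obj i),
      W.map ((σa n).hom.app i) ((bcMor φ₁ W).e.app ((P n).ψ.obj i) ((P n).e.app i x)) =
        (bcMor (Λ n) W).e.app (φ'.obj i) ((bcMor φ' (Λ n ⋙ W)).e.app i x))
    (heb : ∀ n (i : Discrete PUnit.{1}) (x : (ptF k' ⋙ Λ n ⋙ W).obj i),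
      W.map ((σb n).hom.app i) ((bcMor β W).e.app ((Pb n).ψ.obj i) ((Pb n).e.app i x)) =
        (bcMor (Λ n) W).e.app ((ptF k').obj i) ((bcMor (ptF k') (Λ n ⋙ W)).e.app i x))
    (HA : ∀ n (t : L'),
      SqInit (bcMor φ₁ W) (bcMor φ' (Λ n ⋙ W)) (P n) (bcMor (Λ n) W) (σa n) t)
    (HB : ∀ n (t : SL), SqInit (bcMor (Λ n) W) (Pb n) (bcMor (ptF k') (Λ n ⋙ W)) (bcMor β W)
      (σb n).symm t)
    (hm : ∀ n, Nonempty (Mor.MultiInit (P n).ψ))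
    (hcov : ∀ A : Tot (β ⋙ W), ∃ n B, Nonempty (A ≅ (Pb n).functor.obj B))
    (h : ∀ n, Desc φ' k' (Λ n ⋙ W)) :
    DescS (bcMor φ₁ W).functor (bcMor β W).functor (jt (β ⋙ W)) (jt (φ₁ ⋙ W)) (jt W) := by
  let a := bcMor φ₁ W
  let b := bcMor β W
  let a' := fun n => bcMor φ' (Λ n ⋙ W)
  let b' := fun n => bcMor (ptF k') (Λ n ⋙ W)
  let Q := fun n => bcMor (Λ n) W
  let wa := fun n => sqW a (a' n) (P n) (Q n) (σa n) (hea n)
  let wb := fun n => sqW b (b' n) (Pb n) (Q n) (σb n) (heb n)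
  have heb' := fun n => he_symm b (b' n) (Pb n) (Q n) (σb n) (heb n)
  have hA : ∀ n, IsIso (βR (wa n) (jt (φ₁ ⋙ W)) (jt (φ' ⋙ Λ n ⋙ W)) (jt W) (jt (Λ n ⋙ W))) :=
    fun n => isIso_βR _ _ _ _ _ fun d' =>
      post_initial a (a' n) (P n) (Q n) (σa n) (hea n)
        (cart_of_surjective a (a' n) (P n) (Q n) (σa n) (hea n) (bcMor_surjective _ _)) d'
        (HA n d'.base)
  have hB : ∀ n, IsIso (βR (wb n).symm (jt (Λ n ⋙ W)) (jt (ptF k' ⋙ Λ n ⋙ W)) (jt W)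
      (jt (β ⋙ W))) := fun n => by
    have hw : (wb n).symm = sqW (Q n) (Pb n) (b' n) b (σb n).symm (heb' n) :=
      Iso.ext (NatTrans.ext (funext fun A => hom_ext (Y := W) _ _ rfl))
    rw [hw]
    exact isIso_βR (sqW (Q n) (Pb n) (b' n) b (σb n).symm (heb' n)) _ _ _ _ fun d' =>
      post_initial (Q n) (Pb n) (b' n) b (σb n).symm (heb' n) (fun s y _ => ⟨y, rfl⟩) d'
        (HB n d'.base)
  have : ∀ n, (rs (P n).functor (jt (φ' ⋙ Λ n ⋙ W)) (jt (φ₁ ⋙ W))).PreservesInjectiveObjects :=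
    fun n => (hm n).elim fun m => (P n).preservesInjectiveObjects_rs m
  refine DescAdj.of_local _
    (fun n => adjS (a' n).functor (b' n).functor (jt _) (jt _) (jt (Λ n ⋙ W)))
    (fun n => rs (Pb n).functor (jt _) (jt _)) (fun n => rs (P n).functor (jt _) (jt _))
    (fun {H H'} g hg => ?_)
    (fun n => sqM (jt _) (jt _) (jt W) (wa n) (wb n) (jt _) (jt _) (jt (Λ n ⋙ W)))
    (fun n => isIso_sqM _ _ _ (wa n) (wb n) _ _ _ (hB n))
    (fun n => isIso_mate_sqM _ _ _ (wa n) (wb n) _ _ _ (hA n)) h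
  refine isIso_of_local _ g (fun B => ∃ n A, Nonempty (B ≅ (Pb n).functor.obj A)) ?_
    (fun A => ⟨⊤, GrothendieckTopology.top_mem _ _, fun X g' _ => ⟨A, g', 𝟙 A, hcov A,
      Category.comp_id _⟩⟩)
  rintro B ⟨n, A, ⟨e⟩⟩
  have := hg n
  have h' : IsIso (g.hom.app (op ((Pb n).functor.obj A))) :=
    inferInstanceAs (IsIso (((sheafToPresheaf _ AddCommGrpCat.{u}).map
      ((rs (Pb n).functor (jt _) (jt _)).map g)).app (op A)))
  exact (NatTrans.isIso_app_iff_of_iso g.hom e.op).1 h'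

end Groth.Agent.FibDescLib
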