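import Groth.Agent.FibDescLib.CechLocal
import Groth.Agent.FibDescLib.Double
import Groth.Agent.FibDescLib.Lines

/-!
# The bisimplicial space of two maps to the same base
-/

universe u

open CategoryTheory CategoryTheory.Limits Opposite TopologicalSpace

namespace Groth.Agent.FibDescLib

variable {X Y S : TopCat.{u}} (u : X ⟶ S) (v : Y ⟶ S)

/-- Pairs of tuples over the same point. -/
def dblObj (a b : Δp) : TopCat.{u} :=
  TopCat.of {p : (cech u).obj a × (cech v).obj b //
    ((cech u).map (toBot a) p.1 : S) = ((cech v).map (toBot b) p.2 : S)}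

lemma continuous_dbl_fst (a b : Δp) : Continuous fun p : dblObj u v a b => p.1.1 :=
  continuous_fst.comp continuous_subtype_val

lemma continuous_dbl_snd (a b : Δp) : Continuous fun p : dblObj u v a b => p.1.2 :=
  continuous_snd.comp continuous_subtype_val

lemma mem_dbl {a b : Δp × Δp} (φ : a ⟶ b) (x : (cech u).obj a.1) (y : (cech v).obj a.2)
    (h : ((cech u).map (toBot a.1) x : S) = ((cech v).map (toBot a.2) y : S)) :
    ((cech u).map (toBot b.1) ((cech u).map φ.1 x) : S) =
      ((cech v).map (toBot b.2) ((cech v).map φ.2 y) : S) := by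
  rw [← map_comp_apply, ← map_comp_apply, comp_toBot, comp_toBot]
  exact h

/-- The doubly augmented bisimplicial space. -/
def dbl : Δp × Δp ⥤ TopCat.{u} where
  obj a := dblObj u v a.1 a.2
  map {a b} φ := TopCat.ofHom
    (X := {p : (cech u).obj a.1 × (cech v).obj a.2 //
      ((cech u).map (toBot a.1) p.1 : S) = ((cech v).map (toBot a.2) p.2 : S)})
    ⟨fun p => ⟨((cech u).map φ.1 p.1.1, (cech v).map φ.2 p.1.2), mem_dbl u v φ _ _ p.2⟩,
      Continuous.subtype_mk (Continuous.prodMk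
        (((cech u).map φ.1).hom.continuous.comp (continuous_fst.comp continuous_subtype_val))
        (((cech v).map φ.2).hom.continuous.comp (continuous_snd.comp continuous_subtype_val))) _⟩
  map_id a := by
    ext p
    · exact map_id_apply (Y := cech u) a.1 p.1.1
    · exact map_id_apply (Y := cech v) a.2 p.1.2
  map_comp φ ψ := by
    ext p
    · exact map_comp_apply (Y := cech u) φ.1 ψ.1 p.1.1
    · exact map_comp_apply (Y := cech v) φ.2 ψ.2 p.1.2

lemma toBot_bot : toBot bot = 𝟙 bot := Quiver.Hom.unop_inj (WithInitial.starInitial.hom_ext _ _)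

lemma map_toBot_bot (x : S) : (cech u).map (toBot bot) x = x := by
  rw [toBot_bot]
  exact map_id_apply (Y := cech u) bot x

/-- The line through the base of the first variable is the nerve of `v`. -/
def lineSndIso : CategoryTheory.Prod.sectR bot Δp ⋙ dbl u v ≅ cech v :=
  NatIso.ofComponents (fun b =>
    { hom := TopCat.ofHom ⟨fun p => p.1.2, continuous_dbl_snd u v bot b⟩
      inv := TopCat.ofHom ⟨fun y => ⟨(((cech v).map (toBot b) y : S), y), map_toBot_bot u _⟩,
        Continuous.subtype_mk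
          (Continuous.prodMk ((cech v).map (toBot b)).hom.continuous continuous_id) _⟩
      hom_inv_id := by
        ext p
        exact Subtype.ext (Prod.ext (p.2.symm.trans (map_toBot_bot u p.1.1)) rfl)
      inv_hom_id := rfl }) (fun φ => by ext p; rfl)

/-- The line through the base of the second variable is the nerve of `u`. -/
def lineFstIso : CategoryTheory.Prod.sectL Δp bot ⋙ dbl u v ≅ cech u :=
  NatIso.ofComponents (fun b =>
    { hom := TopCat.ofHom ⟨fun p => p.1.1, continuous_dbl_fst u v b bot⟩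
      inv := TopCat.ofHom ⟨fun y => ⟨(y, ((cech u).map (toBot b) y : S)), (map_toBot_bot v _).symm⟩,
        Continuous.subtype_mk
          (Continuous.prodMk continuous_id ((cech u).map (toBot b)).hom.continuous) _⟩
      hom_inv_id := by
        ext p
        exact Subtype.ext (Prod.ext rfl (p.2.trans (map_toBot_bot v p.1.2)))
      inv_hom_id := rfl }) (fun φ => by ext p; rfl)

/-- Points of a fibre product are determined by their projections. -/
lemma pb_ext {A B C : TopCat.{u}} {f : A ⟶ C} {g : B ⟶ C} {x y : (pullback f g : TopCat.{u})}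
    (h₁ : pullback.fst f g x = pullback.fst f g y) (h₂ : pullback.snd f g x = pullback.snd f g y) :
    x = y := by
  apply (TopCat.homeoOfIso (TopCat.pullbackIsoProdSubtype f g)).injective
  change (TopCat.pullbackIsoProdSubtype f g).hom x = (TopCat.pullbackIsoProdSubtype f g).hom y
  rw [TopCat.pullbackIsoProdSubtype_hom_apply, TopCat.pullbackIsoProdSubtype_hom_apply]
  exact Subtype.ext (Prod.ext h₁ h₂)

section BaseChange

variable {T : TopCat.{u}} (f : X ⟶ S) (g : T ⟶ S)

/-- Tuples of a fibre product. -/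
noncomputable def bcApp : ∀ a : WithInitial SimplexCategory, (cech (pullback.snd f g)).obj (op a) ⟶
    TopCat.of {p : (cech f).obj (op a) × T // ((cech f).map (toBot (op a)) p.1 : S) = g p.2}
  | .of n => TopCat.ofHom
    ⟨fun x => ⟨((⟨fun i => pullback.fst f g (x.1 i), fun i j => by
        rw [← TopCat.comp_app, ← TopCat.comp_app, pullback.condition, TopCat.comp_app,
          TopCat.comp_app, x.2 i j]⟩ : tup f n.len), pullback.snd f g (x.1 0)),
      ConcreteCategory.congr_hom pullback.condition (x.1 0)⟩,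
      Continuous.subtype_mk (Continuous.prodMk
        (Continuous.subtype_mk (continuous_pi fun i =>
          (pullback.fst f g).hom.continuous.comp (continuous_coord (pullback.snd f g) n.len i)) _)
        ((pullback.snd f g).hom.continuous.comp (continuous_coord (pullback.snd f g) n.len 0))) _⟩
  | .star => TopCat.ofHom ⟨fun t => ⟨(g t, t), map_toBot_bot f _⟩,
      Continuous.subtype_mk (Continuous.prodMk g.hom.continuous continuous_id) _⟩

/-- Tuples of a fibre product, as pairs. -/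
noncomputable def bcIso (a : WithInitial SimplexCategory) :
    (cech (pullback.snd f g)).obj (op a) ≅
      TopCat.of {p : (cech f).obj (op a) × T // ((cech f).map (toBot (op a)) p.1 : S) = g p.2} :=
  match a with
  | .of n =>
    let Q := {p : (cech f).obj (op (.of n)) × T //
      ((cech f).map (toBot (op (.of n))) p.1 : S) = g p.2}
    let x' : TopCat.of Q → Fin (n.len + 1) → X := fun p i => (p.1.1 : tup f n.len).1 i
    have hc : ∀ i, Continuous fun p => x' p i := fun i =>
      (continuous_coord f n.len i).comp (continuous_fst.comp continuous_subtype_val)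
    let pr : Fin (n.len + 1) → (TopCat.of Q ⟶ pullback f g) := fun i =>
      pullback.lift (TopCat.ofHom ⟨fun p => x' p i, hc i⟩)
        (TopCat.ofHom ⟨fun p => p.1.2, continuous_snd.comp continuous_subtype_val⟩) (by
          ext p
          exact ((p.1.1 : tup f n.len).2 i 0).trans p.2)
    have hsnd : ∀ i p, pullback.snd f g (pr i p) = p.1.2 := fun i p =>
      ConcreteCategory.congr_hom (pullback.lift_snd _ _ _) p
    have hfst : ∀ i p, pullback.fst f g (pr i p) = x' p i := fun i p =>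
      ConcreteCategory.congr_hom (pullback.lift_fst _ _ _) p
    { hom := bcApp f g (.of n)
      inv := TopCat.ofHom
        ⟨fun p => ⟨fun i => pr i p, fun i j => (hsnd i p).trans (hsnd j p).symm⟩,
          Continuous.subtype_mk (continuous_pi fun i => (pr i).hom.continuous) _⟩
      hom_inv_id := by
        ext x
        refine Subtype.ext (funext fun i => ?_)
        apply pb_ext
        · exact hfst i _
        · exact (hsnd i _).trans (x.2 0 i)
      inv_hom_id := by
        ext p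
        · exact Subtype.ext (funext fun i => hfst i p)
        · exact hsnd 0 p }
  | .star =>
    { hom := bcApp f g .star
      inv := TopCat.ofHom ⟨fun p => p.1.2, continuous_snd.comp continuous_subtype_val⟩
      hom_inv_id := rfl
      inv_hom_id := by
        ext p
        · exact p.2.symm.trans (map_toBot_bot f p.1.1)
        · rfl }

/-- Naturality of `bcApp`. -/
lemma bcApp_natural {a b : Δp} (φ : a ⟶ b) (x : (cech (pullback.snd f g)).obj a) :
    ((bcApp f g b.unop ((cech (pullback.snd f g)).map φ x)).1 : (cech f).obj b × T) =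
      ((cech f).map φ (bcApp f g a.unop x).1.1, (bcApp f g a.unop x).1.2) := by
  obtain ⟨a⟩ := a
  obtain ⟨b⟩ := b
  obtain ⟨φ⟩ := φ
  cases a with
  | of n =>
    cases b with
    | of m => exact Prod.ext rfl (x.2 _ 0)
    | star =>
      refine Prod.ext ?_ rfl
      exact (ConcreteCategory.congr_hom pullback.condition (x.1 0)).symm
  | star =>
    cases b with
    | of m => exact (φ : PEmpty).elim
    | star => rfl

end BaseChange

/-- A line of the bisimplicial space is the nerve of a base change. -/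
noncomputable def lineUIso (b : Δp) :
    cech (pullback.snd u ((cech v).map (toBot b) : (cech v).obj b ⟶ S)) ≅
      CategoryTheory.Prod.sectL Δp b ⋙ dbl u v :=
  NatIso.ofComponents (fun a => bcIso u ((cech v).map (toBot b)) a.unop) (fun {a a'} φ => by
    refine ConcreteCategory.hom_ext _ _ fun x => ?_
    have key := bcApp_natural u ((cech v).map (toBot b) : (cech v).obj b ⟶ S) φ x
    obtain ⟨a⟩ := a
    obtain ⟨a'⟩ := a'
    cases a <;> cases a' <;>
    · have k1 := congrArg Prod.fst key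
      have k2 := congrArg Prod.snd key
      refine Subtype.ext (Prod.ext ?_ ?_)
      · exact k1
      · exact k2.trans (map_id_apply (Y := cech v) b _).symm)

/-- A line in the other direction is a nerve too. -/
noncomputable def lineVIso (a : Δp) :
    cech (pullback.snd v ((cech u).map (toBot a) : (cech u).obj a ⟶ S)) ≅
      CategoryTheory.Prod.sectR a Δp ⋙ dbl u v :=
  NatIso.ofComponents (fun b => bcIso v ((cech u).map (toBot a)) b.unop ≪≫
      { hom := TopCat.ofHom ⟨fun p => ⟨(p.1.2, p.1.1), p.2.symm⟩,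
          Continuous.subtype_mk (Continuous.prodMk (continuous_snd.comp continuous_subtype_val)
            (continuous_fst.comp continuous_subtype_val)) _⟩
        inv := TopCat.ofHom ⟨fun p => ⟨(p.1.2, p.1.1), p.2.symm⟩,
          Continuous.subtype_mk (Continuous.prodMk (continuous_dbl_snd u v a b)
            (continuous_dbl_fst u v a b)) _⟩
        hom_inv_id := rfl
        inv_hom_id := rfl }) (fun {b b'} φ => by
    refine ConcreteCategory.hom_ext _ _ fun x => ?_
    have key := bcApp_natural v ((cech u).map (toBot a) : (cech u).obj a ⟶ S) φ x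
    obtain ⟨b⟩ := b
    obtain ⟨b'⟩ := b'
    cases b <;> cases b' <;>
    · have k1 := congrArg Prod.fst key
      have k2 := congrArg Prod.snd key
      refine Subtype.ext (Prod.ext ?_ ?_)
      · exact k2.trans (map_id_apply (Y := cech u) a _).symm
      · exact k1)

local notation "O" => SimplexCategoryᵒᵖ
local notation "sR" => CategoryTheory.Prod.sectR
local notation "sL" => CategoryTheory.Prod.sectL

/-- The inclusion of the bisimplicial part. -/
abbrev φZ : O × O ⥤ Δp × Δp := toAug.prod toAug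

/-- Descent of the whole bisimplicial space towards the common base. -/
abbrev DescZ : Prop := Desc φZ ((bot, bot) : Δp × Δp) (dbl u v)

/-- First step in the first direction. -/
abbrev DescU : Prop :=
  DescS (bcMor (toAug.prod (𝟭 O)) ((𝟭 Δp).prod toAug ⋙ dbl u v)).functor
    (bcMor (sR bot O) ((𝟭 Δp).prod toAug ⋙ dbl u v)).functor (jt _) (jt _) (jt _)

/-- First step in the second direction. -/
abbrev DescV : Prop :=
  DescS (bcMor ((𝟭 O).prod toAug) (toAug.prod (𝟭 Δp) ⋙ dbl u v)).functor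
    (bcMor (sL O bot) (toAug.prod (𝟭 Δp) ⋙ dbl u v)).functor (jt _) (jt _) (jt _)

/-- Comma categories of a point of the first coordinate. -/
def multiInitSectR : Mor.MultiInit (sR bot O) where
  κ _ := PUnit
  obj {k} _ := k.2
  hom {k} _ := (toBot k.1, 𝟙 k.2)
  exists_fac {k i} b := ⟨⟨⟩, b.2, Prod.ext
    (Quiver.Hom.unop_inj (WithInitial.starInitial.hom_ext _ _)) (Category.id_comp _)⟩
  eq_of_fac _ _ _ := rfl
  hom_ext g g' h := (Category.id_comp g).symm.trans
    ((congrArg Prod.snd h).trans (Category.id_comp g'))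

/-- Comma categories of a point of the second coordinate. -/
def multiInitSectL : Mor.MultiInit (sL O bot) where
  κ _ := PUnit
  obj {k} _ := k.1
  hom {k} _ := (𝟙 k.1, toBot k.2)
  exists_fac {k i} b := ⟨⟨⟩, b.1, Prod.ext
    (Category.id_comp _) (Quiver.Hom.unop_inj (WithInitial.starInitial.hom_ext _ _))⟩
  eq_of_fac _ _ _ := rfl
  hom_ext g g' h := (Category.id_comp g).symm.trans
    ((congrArg Prod.fst h).trans (Category.id_comp g'))

/-- The first step can be checked on lines. -/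
theorem descU_of_lines
    (h : ∀ n : O, Desc toAug bot (cech (pullback.snd u ((cech v).map (toBot (toAug.obj n)) :
      (cech v).obj (toAug.obj n) ⟶ S)))) : DescU u v := by
  let W := (𝟭 Δp).prod toAug ⋙ dbl u v
  refine descS_of_lines (toAug.prod (𝟭 O)) (sR bot O) toAug bot W (fun n => sL Δp n)
    (fun n => bcMor (sL O n) (toAug.prod (𝟭 O) ⋙ W))
    (fun n => bcMor (ptF n) (sR bot O ⋙ W))
    (fun n => Iso.refl _) (fun n => Iso.refl _)
    (fun n i x => map_id_apply (Y := W) _ x) (fun n i x => map_id_apply (Y := W) _ x)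
    (fun n k => ?_) (fun n t => ?_) (fun n => ⟨?_⟩) (fun A => ?_) (fun n => ?_)
  · intro m f
    refine ⟨m.1, (𝟙 m.1, f.2), f.1, ?_, fun n₁ h₁ g₁ e₁ => Or.inl ⟨h₁.1, ?_, ?_⟩⟩
    · refine Prod.ext ?_ ?_
      · change toAug.map (𝟙 m.1) ≫ 𝟙 _ ≫ f.1 = f.1
        rw [toAug.map_id]
        exact (Category.id_comp _).trans (Category.id_comp _)
      · change f.2 ≫ 𝟙 _ ≫ 𝟙 n = f.2
        exact (congrArg (f.2 ≫ ·) (Category.id_comp _)).trans (Category.comp_id _)
    · refine Prod.ext (Category.id_comp _) ?_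
      have := congrArg Prod.snd e₁
      change h₁.2 ≫ 𝟙 _ ≫ 𝟙 n = f.2 at this
      change f.2 ≫ 𝟙 n = h₁.2
      exact (Category.comp_id _).trans (this.symm.trans
        ((congrArg (h₁.2 ≫ ·) (Category.id_comp _)).trans (Category.comp_id _)))
    · have := congrArg Prod.fst e₁
      change toAug.map h₁.1 ≫ 𝟙 _ ≫ g₁ = f.1 at this
      exact (whisker_eq _ (Category.id_comp g₁).symm).trans this
  · intro a f
    refine ⟨⟨⟨⟩⟩, toBot a, f.2, ?_, fun n₁ h₁ g₁ e₁ => Or.inl ⟨𝟙 _, ?_, ?_⟩⟩
    · refine Prod.ext ?_ ?_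
      · exact Quiver.Hom.unop_inj (WithInitial.starInitial.hom_ext _ _)
      · change 𝟙 n ≫ 𝟙 _ ≫ f.2 = f.2
        simp
    · exact Quiver.Hom.unop_inj (WithInitial.starInitial.hom_ext _ _)
    · have := congrArg Prod.snd e₁
      change 𝟙 n ≫ 𝟙 _ ≫ g₁ = f.2 at this
      change 𝟙 n ≫ g₁ = f.2
      exact (whisker_eq _ (Category.id_comp g₁).symm).trans this
  · exact
    { κ := fun k => k.2 ⟶ n
      obj := fun {k} _ => k.1
      hom := fun {k} a => (𝟙 k.1, a)
      exists_fac := fun {k i} b => ⟨b.2, b.1, Prod.ext (Category.id_comp _) (Category.comp_id _)⟩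
      eq_of_fac := fun {k i a a'} g g' e =>
        (Category.comp_id a).symm.trans ((congrArg Prod.snd e).trans (Category.comp_id a'))
      hom_ext := fun g g' e => (Category.id_comp g).symm.trans
        ((congrArg Prod.fst e).trans (Category.id_comp g')) }
  · obtain ⟨n, U⟩ := A
    refine ⟨n, pt ⟨⟨⟩⟩ U, ⟨eqToIso ?_⟩⟩
    change pt (Y := sR bot O ⋙ W) n U =
      pt (Y := sR bot O ⋙ W) n ((bcMor (ptF n) (sR bot O ⋙ W)).img ⟨⟨⟩⟩ U)
    rw [img_bcMor]
  · exact Desc.of_iso (lineUIso u v (toAug.obj n)) (h n)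

/-- The first step in the other direction can be checked on lines. -/
theorem descV_of_lines
    (h : ∀ n : O, Desc toAug bot (cech (pullback.snd v ((cech u).map (toBot (toAug.obj n)) :
      (cech u).obj (toAug.obj n) ⟶ S)))) : DescV u v := by
  let W := toAug.prod (𝟭 Δp) ⋙ dbl u v
  refine descS_of_lines ((𝟭 O).prod toAug) (sL O bot) toAug bot W (fun n => sR n Δp)
    (fun n => bcMor (sR n O) ((𝟭 O).prod toAug ⋙ W))
    (fun n => bcMor (ptF n) (sL O bot ⋙ W))
    (fun n => Iso.refl _) (fun n => Iso.refl _)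
    (fun n i x => map_id_apply (Y := W) _ x) (fun n i x => map_id_apply (Y := W) _ x)
    (fun n k => ?_) (fun n t => ?_) (fun n => ⟨?_⟩) (fun A => ?_) (fun n => ?_)
  · intro m f
    refine ⟨m.2, (f.1, 𝟙 m.2), f.2, ?_, fun n₁ h₁ g₁ e₁ => Or.inl ⟨h₁.2, ?_, ?_⟩⟩
    · refine Prod.ext ?_ ?_
      · change f.1 ≫ 𝟙 _ ≫ 𝟙 n = f.1
        exact (congrArg (f.1 ≫ ·) (Category.id_comp _)).trans (Category.comp_id _)
      · change toAug.map (𝟙 m.2) ≫ 𝟙 _ ≫ f.2 = f.2
        rw [toAug.map_id]
        exact (Category.id_comp _).trans (Category.id_comp _)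
    · refine Prod.ext ?_ (Category.id_comp _)
      have := congrArg Prod.fst e₁
      change h₁.1 ≫ 𝟙 _ ≫ 𝟙 n = f.1 at this
      change f.1 ≫ 𝟙 n = h₁.1
      exact (Category.comp_id _).trans (this.symm.trans
        ((congrArg (h₁.1 ≫ ·) (Category.id_comp _)).trans (Category.comp_id _)))
    · have := congrArg Prod.snd e₁
      change toAug.map h₁.2 ≫ 𝟙 _ ≫ g₁ = f.2 at this
      exact (whisker_eq _ (Category.id_comp g₁).symm).trans this
  · intro a f
    refine ⟨⟨⟨⟩⟩, toBot a, f.1, ?_, fun n₁ h₁ g₁ e₁ => Or.inl ⟨𝟙 _, ?_, ?_⟩⟩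
    · refine Prod.ext ?_ ?_
      · change 𝟙 n ≫ 𝟙 _ ≫ f.1 = f.1
        simp
      · exact Quiver.Hom.unop_inj (WithInitial.starInitial.hom_ext _ _)
    · exact Quiver.Hom.unop_inj (WithInitial.starInitial.hom_ext _ _)
    · have := congrArg Prod.fst e₁
      change 𝟙 n ≫ 𝟙 _ ≫ g₁ = f.1 at this
      change 𝟙 n ≫ g₁ = f.1
      exact (whisker_eq _ (Category.id_comp g₁).symm).trans this
  · exact
    { κ := fun k => k.1 ⟶ n
      obj := fun {k} _ => k.2
      hom := fun {k} a => (a, 𝟙 k.2)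
      exists_fac := fun {k i} b => ⟨b.1, b.2, Prod.ext (Category.comp_id _) (Category.id_comp _)⟩
      eq_of_fac := fun {k i a a'} g g' e =>
        (Category.comp_id a).symm.trans ((congrArg Prod.fst e).trans (Category.comp_id a'))
      hom_ext := fun g g' e => (Category.id_comp g).symm.trans
        ((congrArg Prod.snd e).trans (Category.id_comp g')) }
  · obtain ⟨n, U⟩ := A
    refine ⟨n, pt ⟨⟨⟩⟩ U, ⟨eqToIso ?_⟩⟩
    change pt (Y := sL O bot ⋙ W) n U =
      pt (Y := sL O bot ⋙ W) n ((bcMor (ptF n) (sL O bot ⋙ W)).img ⟨⟨⟩⟩ U)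
    rw [img_bcMor]
  · exact Desc.of_iso (lineVIso u v (toAug.obj n)) (h n)

/-- A line of the bisimplicial space, seen over the partially augmented space. -/
noncomputable def aU : Tot (sR bot O ⋙ (𝟭 Δp).prod toAug ⋙ dbl u v) ⥤ Tot (sR bot Δp ⋙ dbl u v) :=
  (bcMor toAug (sR bot Δp ⋙ dbl u v)).functor

/-- The base change used to compose in the first direction. -/
noncomputable def wU :
    (bcMor (sR bot O) ((𝟭 Δp).prod toAug ⋙ dbl u v)).functor ⋙
        (bcMor ((𝟭 Δp).prod toAug) (dbl u v)).functor ≅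
      aU u v ⋙ (bcMor (sR bot Δp) (dbl u v)).functor :=
  sqW (bcMor ((𝟭 Δp).prod toAug) (dbl u v)) (bcMor toAug (sR bot Δp ⋙ dbl u v))
    (bcMor (sR bot O) ((𝟭 Δp).prod toAug ⋙ dbl u v)) (bcMor (sR bot Δp) (dbl u v))
    (Iso.refl _) (fun i x => map_id_apply (Y := dbl u v) _ x)

instance instUIsContinuous : (aU u v).IsContinuous (jt (sR bot O ⋙ (𝟭 Δp).prod toAug ⋙ dbl u v)) (jt (sR bot Δp ⋙ dbl u v)) :=
  inferInstanceAs ((bcMor toAug (sR bot Δp ⋙ dbl u v)).functor.IsContinuous
    (jt (toAug ⋙ sR bot Δp ⋙ dbl u v)) (jt (sR bot Δp ⋙ dbl u v)))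

instance instUIsCocontinuous : (aU u v).IsCocontinuous (jt (sR bot O ⋙ (𝟭 Δp).prod toAug ⋙ dbl u v)) (jt (sR bot Δp ⋙ dbl u v)) :=
  inferInstanceAs ((bcMor toAug (sR bot Δp ⋙ dbl u v)).functor.IsCocontinuous
    (jt (toAug ⋙ sR bot Δp ⋙ dbl u v)) (jt (sR bot Δp ⋙ dbl u v)))

lemma isIso_wU : IsIso (βR (wU u v) (jt _) (jt _) (jt _) (jt _)) := by
  refine isIso_βR _ _ _ _ _ fun d' => post_initial _ _ _ _ _ _
    (cart_of_surjective (bcMor ((𝟭 Δp).prod toAug) (dbl u v)) (bcMor toAug (sR bot Δp ⋙ dbl u v))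
      (bcMor (sR bot O) ((𝟭 Δp).prod toAug ⋙ dbl u v)) (bcMor (sR bot Δp) (dbl u v)) (Iso.refl _)
      (fun i x => map_id_apply (Y := dbl u v) _ x) (bcMor_surjective toAug _)) d' ?_
  intro m f
  refine ⟨m.2, (toBot m.1, 𝟙 m.2), f.2, ?_, fun n₁ h₁ g₁ e₁ => Or.inl ⟨h₁.2, ?_, ?_⟩⟩
  · refine Prod.ext (Quiver.Hom.unop_inj (WithInitial.starInitial.hom_ext _ _)) ?_
    change toAug.map (𝟙 m.2) ≫ 𝟙 _ ≫ f.2 = f.2
    rw [toAug.map_id]
    exact (Category.id_comp _).trans (Category.id_comp _)
  · exact Prod.ext (Quiver.Hom.unop_inj (WithInitial.starInitial.hom_ext _ _)) (Category.id_comp _)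
  · have := congrArg Prod.snd e₁
    change toAug.map h₁.2 ≫ 𝟙 _ ≫ g₁ = f.2 at this
    exact (whisker_eq _ (Category.id_comp g₁).symm).trans this

/-- A line of the bisimplicial space, seen over the partially augmented space. -/
noncomputable def aV : Tot (sL O bot ⋙ toAug.prod (𝟭 Δp) ⋙ dbl u v) ⥤ Tot (sL Δp bot ⋙ dbl u v) :=
  (bcMor toAug (sL Δp bot ⋙ dbl u v)).functor

/-- The base change used to compose in the second direction. -/
noncomputable def wV :
    (bcMor (sL O bot) (toAug.prod (𝟭 Δp) ⋙ dbl u v)).functor ⋙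
        (bcMor (toAug.prod (𝟭 Δp)) (dbl u v)).functor ≅
      aV u v ⋙ (bcMor (sL Δp bot) (dbl u v)).functor :=
  sqW (bcMor (toAug.prod (𝟭 Δp)) (dbl u v)) (bcMor toAug (sL Δp bot ⋙ dbl u v))
    (bcMor (sL O bot) (toAug.prod (𝟭 Δp) ⋙ dbl u v)) (bcMor (sL Δp bot) (dbl u v))
    (Iso.refl _) (fun i x => map_id_apply (Y := dbl u v) _ x)

instance instVIsContinuous : (aV u v).IsContinuous (jt (sL O bot ⋙ toAug.prod (𝟭 Δp) ⋙ dbl u v)) (jt (sL Δp bot ⋙ dbl u v)) :=
  inferInstanceAs ((bcMor toAug (sL Δp bot ⋙ dbl u v)).functor.IsContinuous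
    (jt (toAug ⋙ sL Δp bot ⋙ dbl u v)) (jt (sL Δp bot ⋙ dbl u v)))

instance instVIsCocontinuous : (aV u v).IsCocontinuous (jt (sL O bot ⋙ toAug.prod (𝟭 Δp) ⋙ dbl u v)) (jt (sL Δp bot ⋙ dbl u v)) :=
  inferInstanceAs ((bcMor toAug (sL Δp bot ⋙ dbl u v)).functor.IsCocontinuous
    (jt (toAug ⋙ sL Δp bot ⋙ dbl u v)) (jt (sL Δp bot ⋙ dbl u v)))

lemma isIso_wV : IsIso (βR (wV u v) (jt _) (jt _) (jt _) (jt _)) := by
  refine isIso_βR _ _ _ _ _ fun d' => post_initial _ _ _ _ _ _
    (cart_of_surjective (bcMor (toAug.prod (𝟭 Δp)) (dbl u v)) (bcMor toAug (sL Δp bot ⋙ dbl u v))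
      (bcMor (sL O bot) (toAug.prod (𝟭 Δp) ⋙ dbl u v)) (bcMor (sL Δp bot) (dbl u v)) (Iso.refl _)
      (fun i x => map_id_apply (Y := dbl u v) _ x) (bcMor_surjective toAug _)) d' ?_
  intro m f
  refine ⟨m.1, (𝟙 m.1, toBot m.2), f.1, ?_, fun n₁ h₁ g₁ e₁ => Or.inl ⟨h₁.1, ?_, ?_⟩⟩
  · refine Prod.ext ?_ (Quiver.Hom.unop_inj (WithInitial.starInitial.hom_ext _ _))
    change toAug.map (𝟙 m.1) ≫ 𝟙 _ ≫ f.1 = f.1
    rw [toAug.map_id]
    exact (Category.id_comp _).trans (Category.id_comp _)
  · exact Prod.ext (Category.id_comp _) (Quiver.Hom.unop_inj (WithInitial.starInitial.hom_ext _ _))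
  · have := congrArg Prod.fst e₁
    change toAug.map h₁.1 ≫ 𝟙 _ ≫ g₁ = f.1 at this
    exact (whisker_eq _ (Category.id_comp g₁).symm).trans this

/-- Base change along a composite. -/
noncomputable def bcC {A B C : Type} [Category.{0} A] [Category.{0} B] [Category.{0} C]
    (φ : A ⥤ B) (ψ : B ⥤ C) (Z : C ⥤ TopCat.{u}) : Tot (φ ⋙ ψ ⋙ Z) ⥤ Tot Z :=
  (bcMor (φ ⋙ ψ) Z).functor

instance {A B C : Type} [Category.{0} A] [Category.{0} B] [Category.{0} C]
    (φ : A ⥤ B) (ψ : B ⥤ C) (Z : C ⥤ TopCat.{u}) :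
    (bcC φ ψ Z).IsContinuous (jt (φ ⋙ ψ ⋙ Z)) (jt Z) :=
  inferInstanceAs ((bcMor (φ ⋙ ψ) Z).functor.IsContinuous (jt ((φ ⋙ ψ) ⋙ Z)) (jt Z))

instance {A B C : Type} [Category.{0} A] [Category.{0} B] [Category.{0} C]
    (φ : A ⥤ B) (ψ : B ⥤ C) (Z : C ⥤ TopCat.{u}) :
    (bcC φ ψ Z).IsCocontinuous (jt (φ ⋙ ψ ⋙ Z)) (jt Z) :=
  inferInstanceAs ((bcMor (φ ⋙ ψ) Z).functor.IsCocontinuous (jt ((φ ⋙ ψ) ⋙ Z)) (jt Z))

/-- Double composite of base changes. -/
noncomputable def bcCompIso {A B C : Type} [Category.{0} A] [Category.{0} B] [Category.{0} C]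
    (φ : A ⥤ B) (ψ : B ⥤ C) (Z : C ⥤ TopCat.{u}) :
    (bcMor φ (ψ ⋙ Z)).functor ⋙ (bcMor ψ Z).functor ≅ bcC φ ψ Z :=
  NatIso.ofComponents (fun A =>
    { hom := mkHom (Y := Z) (A := (bcMor ψ Z).functor.obj ((bcMor φ (ψ ⋙ Z)).functor.obj A))
        (B := (bcC φ ψ Z).obj A) (𝟙 _) fun x hx => mem_id (Y := Z) (by
          obtain ⟨_, ⟨y, hy, rfl⟩, rfl⟩ := hx
          exact ⟨y, hy, rfl⟩)
      inv := mkHom (Y := Z) (A := (bcC φ ψ Z).obj A)
        (B := (bcMor ψ Z).functor.obj ((bcMor φ (ψ ⋙ Z)).functor.obj A)) (𝟙 _) fun x hx =>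
          mem_id (Y := Z) (by
            obtain ⟨y, hy, rfl⟩ := hx
            exact ⟨_, ⟨y, hy, rfl⟩, rfl⟩)
      hom_inv_id := hom_ext _ _ (Category.comp_id _)
      inv_hom_id := hom_ext _ _ (Category.comp_id _) })
    (fun φ => hom_ext _ _ ((Category.comp_id _).trans (Category.id_comp _).symm))

lemma pfl_descU : PreservesFiniteLimits
    (pl (bcMor (toAug.prod (𝟭 O)) ((𝟭 Δp).prod toAug ⋙ dbl u v)).functor
      (bcMor (sR bot O) ((𝟭 Δp).prod toAug ⋙ dbl u v)).functor (jt _) (jt _) (jt _)) := by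
  have := (bcMor (sR bot O) ((𝟭 Δp).prod toAug ⋙ dbl u v)).preservesFiniteLimits_Ls multiInitSectR
  exact comp_preservesFiniteLimits _ _

lemma pfl_descV : PreservesFiniteLimits
    (pl (bcMor ((𝟭 O).prod toAug) (toAug.prod (𝟭 Δp) ⋙ dbl u v)).functor
      (bcMor (sL O bot) (toAug.prod (𝟭 Δp) ⋙ dbl u v)).functor (jt _) (jt _) (jt _)) := by
  have := (bcMor (sL O bot) (toAug.prod (𝟭 Δp) ⋙ dbl u v)).preservesFiniteLimits_Ls multiInitSectL
  exact comp_preservesFiniteLimits _ _

/-- Descent of the bisimplicial space from descent of `v` and of the base changes of `u`. -/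
theorem descZ_of_snd (hv : Desc toAug bot (cech v)) (hu : DescU u v) : DescZ u v := by
  have := pfl_descU u v
  exact descS_of_steps (wU u v) (bcCompIso (toAug.prod (𝟭 O)) ((𝟭 Δp).prod toAug) (dbl u v))
    (bcCompIso (ptF bot) (sR bot Δp) (dbl u v)) (jt _) (jt _) (jt _) (jt _) (jt _) (jt _)
    (isIso_wU u v) (Desc.of_iso (lineSndIso u v).symm hv) hu

/-- Descent of `u` from descent of the bisimplicial space and of the base changes of `v`. -/
theorem desc_fst_of_descZ (hZ : DescZ u v) (hv : DescV u v) : Desc toAug bot (cech u) := by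
  have := pfl_descV u v
  refine Desc.of_iso (lineFstIso u v) ?_
  exact descS_cancel (wV u v) (bcCompIso ((𝟭 O).prod toAug) (toAug.prod (𝟭 Δp)) (dbl u v))
    (bcCompIso (ptF bot) (sL Δp bot) (dbl u v)) (jt _) (jt _) (jt _) (jt _) (jt _) (jt _)
    (isIso_wV u v) hZ hv

end Groth.Agent.FibDescLib
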