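import Groth.Agent.FibDescLib.Levels
import Groth.Agent.FibDescLib.Double
import Groth.Agent.FibDescLib.Bisimp

/-!
# Levels of inverse images from the base of an augmented space
-/

universe u

open CategoryTheory CategoryTheory.Limits Opposite TopologicalSpace Simplicial

namespace Groth.Agent.FibDescLib

variable (Y : Δp ⥤ TopCat.{u}) (k : Δp)

/-- The projection of a level to the base. -/
noncomputable abbrev lvlProj : Y.obj k ⟶ Y.obj bot := Y.map (toBot k)

/-- The part of a level over an open of the base maps to it. -/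
noncomputable def lvlToBot : Opens.map (lvlProj Y k) ⋙ lvl Y k ⟶ lvl Y bot where
  app U := mkHom (Y := Y) (A := (lvl Y k).obj ((Opens.map (lvlProj Y k)).obj U))
    (B := (lvl Y bot).obj U) (toBot k) fun _ hx => hx
  naturality U V g := hom_ext _ _ (Quiver.Hom.unop_inj (WithInitial.starInitial.hom_ext _ _))

/-- The preimage is the smallest index. -/
noncomputable def isInitialPre (U : Opens (Y.obj bot)) :
    IsInitial (StructuredArrow.mk (Y := op ((Opens.map (lvlProj Y k)).obj U))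
      ((lvlToBot Y k).app U).op : StructuredArrow (op ((lvl Y bot).obj U)) (lvl Y k).op) :=
  IsInitial.ofUniqueHom (fun X =>
    StructuredArrow.homMk (homOfLE (X := Opens (Y.obj k)) (x := X.right.unop)
      (y := (Opens.map (lvlProj Y k)).obj U) fun x hx => by
        have h := hom_mem X.hom.unop x hx
        have hb : (X.hom.unop.base : k ⟶ bot) = toBot k :=
          Quiver.Hom.unop_inj (WithInitial.starInitial.hom_ext _ _)
        exact (hb ▸ h : Y.map (toBot k) x ∈ U)).op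
      (Quiver.Hom.unop_inj (hom_ext _ _ (Quiver.Hom.unop_inj (WithInitial.starInitial.hom_ext _ _)))))
    fun X m => StructuredArrow.hom_ext _ _ (Quiver.Hom.unop_inj (Subsingleton.elim _ _))

/-- From the direct image of a level to the push forward. -/
noncomputable def lvlPushHom :
    Rs (lvl Y k) (Opens.grothendieckTopology (Y.obj k)) (jt Y) ⋙
        rs (lvl Y bot) (Opens.grothendieckTopology (Y.obj bot)) (jt Y) ⟶
      rs (Opens.map (lvlProj Y k)) (Opens.grothendieckTopology (Y.obj bot))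
        (Opens.grothendieckTopology (Y.obj k)) :=
  haveI := Functor.isContinuous_comp (Opens.map (lvlProj Y k)) (lvl Y k)
    (Opens.grothendieckTopology (Y.obj bot)) (Opens.grothendieckTopology (Y.obj k)) (jt Y)
  Functor.whiskerLeft _ (Functor.sheafPushforwardContinuousNatTrans (lvlToBot Y k)
      AddCommGrpCat.{u} (Opens.grothendieckTopology (Y.obj bot)) (jt Y) ≫
    (Functor.sheafPushforwardContinuousComp (Opens.map (lvlProj Y k)) (lvl Y k) AddCommGrpCat.{u}
      (Opens.grothendieckTopology (Y.obj bot)) (Opens.grothendieckTopology (Y.obj k)) (jt Y)).inv) ≫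
  (Functor.associator _ _ _).inv ≫
  Functor.whiskerRight (adjR (lvl Y k) (Opens.grothendieckTopology (Y.obj k)) (jt Y)).counit _ ≫
  (Functor.leftUnitor _).hom

theorem isIso_lvlPushHom : IsIso (lvlPushHom Y k) := by
  rw [NatTrans.isIso_iff_isIso_app]
  intro G
  have : IsIso ((sheafToPresheaf _ AddCommGrpCat.{u}).map ((lvlPushHom Y k).app G)) := by
    rw [NatTrans.isIso_iff_isIso_app]
    rintro ⟨U⟩
    have h := IsLimit.isIso_π_app_of_isInitial (isPointwise (lvl Y k)
      (Opens.grothendieckTopology (Y.obj k)) (jt Y) G (op ((lvl Y bot).obj U))) _ (isInitialPre Y k U)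
    convert h using 1
    · rfl
    · rfl
    · refine heq_of_eq ?_
      simp [lvlPushHom]
      rfl
  exact isIso_of_reflects_iso _ (sheafToPresheaf _ AddCommGrpCat.{u})

variable (n : SimplexCategoryᵒᵖ)

/-- A level of the simplicial part is a level of the whole. -/
noncomputable def lvlPartIso :
    lvl (toAug ⋙ Y) n ⋙ (bcMor toAug Y).functor ≅ lvl Y (toAug.obj n) :=
  NatIso.ofComponents (fun U =>
    { hom := mkHom (Y := Y) (A := (bcMor toAug Y).functor.obj (pt (Y := toAug ⋙ Y) n U))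
        (B := pt (Y := Y) (toAug.obj n) U) (𝟙 _) fun x hx =>
          mem_id (Y := Y) ((mem_img_iff toAug Y n U x).1 hx)
      inv := mkHom (Y := Y) (A := pt (Y := Y) (toAug.obj n) U)
        (B := (bcMor toAug Y).functor.obj (pt (Y := toAug ⋙ Y) n U)) (𝟙 _) fun x hx =>
          mem_id (Y := Y) ((mem_img_iff toAug Y n U x).2 hx)
      hom_inv_id := hom_ext _ _ (Category.comp_id _)
      inv_hom_id := hom_ext _ _ (Category.comp_id _) })
    (fun f => hom_ext _ _ ((Category.comp_id _).trans (Category.id_comp _).symm))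

/-- The base, as a level. -/
noncomputable def lvlBaseIso :
    lvl (ptF bot ⋙ Y) ⟨⟨⟩⟩ ⋙ (bcMor (ptF bot) Y).functor ≅ lvl Y bot :=
  NatIso.ofComponents (fun U =>
    { hom := mkHom (Y := Y) (A := (bcMor (ptF bot) Y).functor.obj (pt (Y := ptF bot ⋙ Y) ⟨⟨⟩⟩ U))
        (B := pt (Y := Y) bot U) (𝟙 _) fun x hx =>
          mem_id (Y := Y) ((mem_img_iff (ptF bot) Y ⟨⟨⟩⟩ U x).1 hx)
      inv := mkHom (Y := Y) (A := pt (Y := Y) bot U)
        (B := (bcMor (ptF bot) Y).functor.obj (pt (Y := ptF bot ⋙ Y) ⟨⟨⟩⟩ U)) (𝟙 _) fun x hx =>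
          mem_id (Y := Y) ((mem_img_iff (ptF bot) Y ⟨⟨⟩⟩ U x).2 hx)
      hom_inv_id := hom_ext _ _ (Category.comp_id _)
      inv_hom_id := hom_ext _ _ (Category.comp_id _) })
    (fun f => hom_ext _ _ ((Category.comp_id _).trans (Category.id_comp _).symm))

/-- The base sheaf, on the one-point diagram. -/
noncomputable abbrev fromBase : CohTop.Ab ((ptF bot ⋙ Y).obj ⟨⟨⟩⟩) ⥤ Sheaf (jt (ptF bot ⋙ Y)) AddCommGrpCat.{u} :=
  Ls (lvl (ptF bot ⋙ Y) ⟨⟨⟩⟩) (Opens.grothendieckTopology ((ptF bot ⋙ Y).obj ⟨⟨⟩⟩)) (jt (ptF bot ⋙ Y))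

/-- The base component. -/
noncomputable abbrev toBase : Sheaf (jt (ptF bot ⋙ Y)) AddCommGrpCat.{u} ⥤ CohTop.Ab ((ptF bot ⋙ Y).obj ⟨⟨⟩⟩) :=
  rs (lvl (ptF bot ⋙ Y) ⟨⟨⟩⟩) (Opens.grothendieckTopology ((ptF bot ⋙ Y).obj ⟨⟨⟩⟩)) (jt (ptF bot ⋙ Y))

/-- A component of an inverse image from the base is the inverse image along the projection. -/
noncomputable def lvlPlIso :
    fromBase Y ⋙ pl (bcMor toAug Y).functor (bcMor (ptF bot) Y).functor (jt _) (jt _) (jt Y) ⋙
        rs (lvl (toAug ⋙ Y) n) (Opens.grothendieckTopology ((toAug ⋙ Y).obj n)) (jt (toAug ⋙ Y)) ≅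
      CohTop.pull (lvlProj Y (toAug.obj n)) :=
  let J₀ := Opens.grothendieckTopology ((ptF bot ⋙ Y).obj ⟨⟨⟩⟩)
  let Jn := Opens.grothendieckTopology ((toAug ⋙ Y).obj n)
  haveI : (Opens.map (lvlProj Y (toAug.obj n))).IsContinuous J₀ Jn :=
    inferInstanceAs ((Opens.map (lvlProj Y (toAug.obj n))).IsContinuous
      (Opens.grothendieckTopology (Y.obj bot)) (Opens.grothendieckTopology (Y.obj (toAug.obj n))))
  haveI : (lvl Y bot).IsContinuous J₀ (jt Y) := lvl_isContinuous Y bot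
  haveI : (lvl Y (toAug.obj n)).IsContinuous Jn (jt Y) := lvl_isContinuous Y (toAug.obj n)
  haveI : (lvl Y (toAug.obj n)).IsCocontinuous Jn (jt Y) := lvl_isCocontinuous Y (toAug.obj n)
  let adjA := (adjL (lvl (ptF bot ⋙ Y) ⟨⟨⟩⟩) J₀ (jt (ptF bot ⋙ Y))).comp
    ((adjS (bcMor toAug Y).functor (bcMor (ptF bot) Y).functor (jt _) (jt _) (jt Y)).comp
      (adjR (lvl (toAug ⋙ Y) n) Jn (jt (toAug ⋙ Y))))
  haveI := isIso_lvlPushHom Y (toAug.obj n)
  let e : ((Rs (lvl (toAug ⋙ Y) n) Jn (jt (toAug ⋙ Y))) ⋙ pr (bcMor toAug Y).functor (bcMor (ptF bot) Y).functor (jt _) (jt _) (jt Y)) ⋙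
      toBase Y ≅
      rs (Opens.map (lvlProj Y (toAug.obj n))) J₀ Jn :=
    Functor.associator _ _ _ ≪≫ Functor.isoWhiskerLeft _ (Functor.associator _ _ _ ≪≫
      Functor.isoWhiskerLeft _ (rsComp (lvlBaseIso Y) J₀ (jt (ptF bot ⋙ Y)) (jt Y))) ≪≫
      (Functor.associator _ _ _).symm ≪≫
      Functor.isoWhiskerRight (RsComp (lvlPartIso Y n) Jn (jt (toAug ⋙ Y)) (jt Y)) _ ≪≫
      asIso (lvlPushHom Y (toAug.obj n))
  (adjA.ofNatIsoRight e).leftAdjointUniq
    (adjL (Opens.map (lvlProj Y (toAug.obj n))) J₀ Jn)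

end Groth.Agent.FibDescLib
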