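import Groth.Agent.FibDescLib.Loc

/-!
# An explicit model of the augmented Čech nerve of a continuous map
-/

universe u

open CategoryTheory CategoryTheory.Limits Opposite TopologicalSpace

namespace Groth.Agent.FibDescLib

/-- The augmented simplex category used by the prelude. -/
abbrev Δp : Type := (WithInitial SimplexCategory)ᵒᵖ

/-- Its base point. -/
abbrev bot : Δp := FibDesc.bot SimplexCategory

/-- The inclusion of the simplicial part. -/
abbrev toAug : SimplexCategoryᵒᵖ ⥤ Δp := FibDesc.toAug SimplexCategory

variable {X S : TopCat.{u}} (f : X ⟶ S)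

/-- `(n+1)`-tuples in a common fibre. -/
abbrev tup (n : ℕ) : TopCat.{u} := TopCat.of {x : Fin (n + 1) → X // ∀ i j, f (x i) = f (x j)}

/-- The values of the model. -/
def cechObj : WithInitial SimplexCategory → TopCat.{u}
  | .of n => tup f n.len
  | .star => S

lemma continuous_coord (n : ℕ) (i : Fin (n + 1)) : Continuous fun x : tup f n => x.1 i :=
  (continuous_apply i).comp continuous_subtype_val

/-- A coordinate of a tuple. -/
def coord (n : ℕ) (i : Fin (n + 1)) : tup f n ⟶ X := TopCat.ofHom ⟨fun x => x.1 i, continuous_coord f n i⟩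

/-- Reindexing of tuples. -/
def reindex {m n : ℕ} (σ : Fin (m + 1) → Fin (n + 1)) : tup f n ⟶ tup f m :=
  TopCat.ofHom ⟨fun x => ⟨fun i => x.1 (σ i), fun i j => x.2 _ _⟩,
    Continuous.subtype_mk (continuous_pi fun i => continuous_coord f n (σ i)) _⟩

/-- The augmentation of tuples. -/
def augm (n : ℕ) : tup f n ⟶ S :=
  TopCat.ofHom ⟨fun x => f (x.1 0), f.hom.continuous.comp (continuous_coord f n 0)⟩

/-- The transition maps of the model. -/
def cechMap : ∀ {a b : WithInitial SimplexCategory}, (a ⟶ b) → (cechObj f b ⟶ cechObj f a)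
  | .of _, .of _, φ => reindex f (WithInitial.down φ).toOrderHom
  | .star, .of n, _ => augm f n.len
  | .star, .star, _ => 𝟙 S
  | .of _, .star, φ => (φ : PEmpty).elim

/-- The augmented Čech nerve, explicitly. -/
def cech : Δp ⥤ TopCat.{u} where
  obj a := cechObj f a.unop
  map φ := cechMap f φ.unop
  map_id a := by
    obtain ⟨a⟩ := a
    cases a with
    | of n => rfl
    | star => rfl
  map_comp {a b c} φ ψ := by
    obtain ⟨a⟩ := a
    obtain ⟨b⟩ := b
    obtain ⟨c⟩ := c
    obtain ⟨φ⟩ := φ
    obtain ⟨ψ⟩ := ψ
    cases a <;> cases b <;> cases c <;>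
      first
      | exact (φ : PEmpty).elim
      | exact (ψ : PEmpty).elim
      | rfl
      | (ext x; exact x.2 _ _)

/-- Comparison of wide pullbacks with tuples. -/
noncomputable def wideIso (n : ℕ) :
    widePullback.{0} S (fun _ : Fin (n + 1) => X) (fun _ => f) ≅ tup f n where
  hom := TopCat.ofHom
    ⟨fun w => ⟨fun i => WidePullback.π (fun _ => f) i w, fun i j => by
      rw [← TopCat.comp_app, ← TopCat.comp_app, WidePullback.π_arrow, WidePullback.π_arrow]⟩,
      by fun_prop⟩
  inv := WidePullback.lift (augm f n) (fun i => coord f n i)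
    (fun i => by ext x; exact x.2 i 0)
  hom_inv_id := by
    apply WidePullback.hom_ext
    · intro i
      rw [Category.assoc, WidePullback.lift_π, Category.id_comp]
      rfl
    · rw [Category.assoc, WidePullback.lift_base, Category.id_comp]
      ext w
      exact ConcreteCategory.congr_hom (WidePullback.π_arrow (fun _ : Fin (n + 1) => f) 0) w
  inv_hom_id := by
    ext x i
    exact ConcreteCategory.congr_hom (WidePullback.lift_π (fun _ : Fin (n + 1) => f) _
      (fun i => coord f n i) _ i) x

/-- The components of the comparison with the prelude's nerve. -/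
noncomputable def cechAugIsoApp :
    ∀ a : WithInitial SimplexCategory, (FibDesc.cechAug f).obj (op a) ≅ (cech f).obj (op a)
  | .of n => wideIso f n.len
  | .star => Iso.refl S

/-- Comparison with the prelude's nerve. -/
noncomputable def cechAugIso : FibDesc.cechAug f ≅ cech f :=
  NatIso.ofComponents (fun a => cechAugIsoApp f a.unop) (fun {a b} φ => by
    obtain ⟨a⟩ := a
    obtain ⟨b⟩ := b
    obtain ⟨φ⟩ := φ
    cases a with
    | of n =>
      cases b with
      | of m =>
        ext w
        refine Subtype.ext (funext fun i => ?_)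
        exact ConcreteCategory.congr_hom (WidePullback.lift_π
          (fun _ : Fin (m.len + 1) => f) (WidePullback.base (fun _ : Fin (n.len + 1) => f))
          (fun i => WidePullback.π (fun _ : Fin (n.len + 1) => f)
            ((WithInitial.down φ).toOrderHom i))
          (fun i => WidePullback.π_arrow _ _) i) w
      | star =>
        ext w
        exact (ConcreteCategory.congr_hom
          (WidePullback.π_arrow (fun _ : Fin (n.len + 1) => f) 0) w).symm
    | star =>
      cases b with
      | of m => exact (φ : PEmpty).elim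
      | star => rfl)

/-- Descent is invariant under isomorphisms of diagrams. -/
theorem Desc.of_iso {S₁ S₀ : Type} [Category.{0} S₁] [Category.{0} S₀] {φ : S₀ ⥤ S₁} {k : S₁}
    {Y Y' : S₁ ⥤ TopCat.{u}} (e : Y' ≅ Y) (h : Desc φ k Y') : Desc φ k Y := by
  have hs : ∀ s, Function.Surjective (e.hom.app s) := fun s y =>
    ⟨e.inv.app s y, ConcreteCategory.congr_hom (e.inv_hom_id_app s) y⟩
  exact desc_of_local φ k (fun _ : PUnit.{u + 1} => Y') (fun _ => e.hom)
    (fun _ s => (TopCat.homeoOfIso (e.app s)).isOpenEmbedding)
    (fun _ {s t} b y _ => hs s y) (fun x => ⟨⟨⟩, hs k x⟩) (fun _ => h)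

/-- The prelude's notion in terms of the model. -/
theorem isCohDescentMap_iff : FibDesc.IsCohDescentMap f ↔ Desc toAug bot (cech f) :=
  (isCohDescentTop_iff (FibDesc.cechAug f)).trans
    ⟨Desc.of_iso (cechAugIso f), Desc.of_iso (cechAugIso f).symm⟩

/-- Functoriality of the model in the map. -/
def cechMapHom {X' S' : TopCat.{u}} {f' : X' ⟶ S'} (p : X' ⟶ X) (q : S' ⟶ S)
    (w : f' ≫ q = p ≫ f) : cech f' ⟶ cech f where
  app a := match a with
    | ⟨.of n⟩ => TopCat.ofHom ⟨fun x => ⟨fun i => p (x.1 i), fun i j => by
        have hw : ∀ z, q (f' z) = f (p z) := fun z => ConcreteCategory.congr_hom w z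
        rw [← hw, ← hw, x.2 i j]⟩, by
        refine Continuous.subtype_mk (continuous_pi fun i => ?_) _
        exact p.hom.continuous.comp ((continuous_apply i).comp continuous_subtype_val)⟩
    | ⟨.star⟩ => q
  naturality {a b} φ := by
    obtain ⟨a⟩ := a
    obtain ⟨b⟩ := b
    obtain ⟨φ⟩ := φ
    cases a <;> cases b <;>
      first
      | exact (φ : PEmpty).elim
      | rfl
      | (ext x; exact ConcreteCategory.congr_hom w (x.1 0))

end Groth.Agent.FibDescLib
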