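import Groth.Agent.FibDescLib.Sect

/-!
# Locality on the base for Čech nerves
-/

universe u

open CategoryTheory CategoryTheory.Limits Opposite TopologicalSpace

namespace Groth.Agent.FibDescLib

variable {X S X' S' : TopCat.{u}} {f : X ⟶ S} {f' : X' ⟶ S'} (p : X' ⟶ X) (q : S' ⟶ S)
  (w : f' ≫ q = p ≫ f)

/-- The unique map to the base point. -/
def toBot (a : Δp) : a ⟶ bot := (WithInitial.starInitial.to a.unop).op

lemma comp_toBot {a b : Δp} (φ : a ⟶ b) : φ ≫ toBot b = toBot a :=
  Quiver.Hom.unop_inj (WithInitial.starInitial.hom_ext _ _)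

variable (hq : Topology.IsOpenEmbedding q) (hp : Topology.IsOpenEmbedding p)
  (hr : Set.range p = f ⁻¹' Set.range q)

include hr hq in
lemma range_cechMapHom (a : Δp) (y : (cech f).obj a) :
    y ∈ Set.range ((cechMapHom f p q w).app a) ↔ (cech f).map (toBot a) y ∈ Set.range q := by
  obtain ⟨a⟩ := a
  cases a with
  | of n =>
    constructor
    · rintro ⟨z, rfl⟩
      exact ⟨f' (z.1 0), ConcreteCategory.congr_hom w (z.1 0)⟩
    · intro h
      have h' : f (y.1 0) ∈ Set.range q := h
      have : ∀ i, y.1 i ∈ Set.range p := fun i => by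
        rw [hr]
        show f (y.1 i) ∈ Set.range q
        rw [y.2 i 0]
        exact h'
      choose z hz using this
      refine ⟨⟨z, fun i j => hq.injective ?_⟩, Subtype.ext (funext hz)⟩
      have hw : ∀ u, q (f' u) = f (p u) := fun u => ConcreteCategory.congr_hom w u
      rw [hw, hw, hz, hz]
      exact y.2 i j
  | star =>
    constructor
    · rintro ⟨z, rfl⟩
      exact ⟨z, rfl⟩
    · rintro ⟨z, hz⟩
      exact ⟨z, hz⟩

include hp hq hr in
lemma isOpenEmbedding_cechMapHom (a : Δp) :
    Topology.IsOpenEmbedding ((cechMapHom f p q w).app a) := by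
  have hr' := range_cechMapHom p q w hq hr a
  obtain ⟨a⟩ := a
  cases a with
  | star => exact hq
  | of n =>
    have hemb : Topology.IsEmbedding fun x : Fin (n.len + 1) → X' => fun i => p (x i) :=
      Topology.IsEmbedding.piMap (f := fun _ => (p : X' → X)) fun _ => hp.isEmbedding
    refine ⟨?_, ?_⟩
    · refine Topology.IsEmbedding.of_comp ?_ (g := Subtype.val) continuous_subtype_val
        (hemb.comp Topology.IsEmbedding.subtypeVal)
      exact ((cechMapHom f p q w).app ⟨.of n⟩).hom.continuous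
    · have : Set.range ((cechMapHom f p q w).app ⟨.of n⟩) =
          (cech f).map (toBot ⟨.of n⟩) ⁻¹' Set.range q := Set.ext hr'
      rw [this]
      exact hq.isOpen_range.preimage ((cech f).map (toBot ⟨.of n⟩)).hom.continuous

include hr hq in
lemma cart_cechMapHom {a b : Δp} (φ : a ⟶ b) (y : (cech f).obj a)
    (h : (cech f).map φ y ∈ Set.range ((cechMapHom f p q w).app b)) :
    y ∈ Set.range ((cechMapHom f p q w).app a) := by
  rw [range_cechMapHom p q w hq hr] at h ⊢
  rw [← comp_toBot φ]
  rwa [map_comp_apply]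

/-- Cohomological descent is local on the base. -/
theorem desc_cech_of_cover {ι : Type u} (f : X ⟶ S) {X' S' : ι → TopCat.{u}}
    (f' : ∀ i, X' i ⟶ S' i) (p : ∀ i, X' i ⟶ X) (q : ∀ i, S' i ⟶ S)
    (w : ∀ i, f' i ≫ q i = p i ≫ f) (hq : ∀ i, Topology.IsOpenEmbedding (q i))
    (hp : ∀ i, Topology.IsOpenEmbedding (p i)) (hr : ∀ i, Set.range (p i) = f ⁻¹' Set.range (q i))
    (hcov : ∀ x : S, ∃ i, x ∈ Set.range (q i)) (h : ∀ i, Desc toAug bot (cech (f' i))) :
    Desc toAug bot (cech f) :=
  desc_of_local toAug bot (fun i => cech (f' i)) (fun i => cechMapHom f (p i) (q i) (w i))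
    (fun i => isOpenEmbedding_cechMapHom (p i) (q i) (w i) (hq i) (hp i) (hr i))
    (fun i {_ _} φ y => cart_cechMapHom (p i) (q i) (w i) (hq i) (hr i) φ y) hcov h

/-- Cohomological descent is local on the base, through base changes. -/
theorem desc_cech_of_openCover {ι : Type u} (f : X ⟶ S) {S' : ι → TopCat.{u}}
    (q : ∀ i, S' i ⟶ S) (hq : ∀ i, Topology.IsOpenEmbedding (q i))
    (hcov : ∀ x : S, ∃ i, x ∈ Set.range (q i))
    (h : ∀ i, Desc toAug bot (cech (pullback.snd f (q i)))) : Desc toAug bot (cech f) :=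
  desc_cech_of_cover f (fun i => pullback.snd f (q i)) (fun i => pullback.fst f (q i)) q
    (fun i => pullback.condition.symm) hq
    (fun i => TopCat.fst_isOpenEmbedding_of_right f (hq i))
    (fun i => TopCat.pullback_fst_range f (q i) ▸ Set.ext fun x =>
      ⟨fun ⟨y, hy⟩ => ⟨y, hy.symm⟩, fun ⟨y, hy⟩ => ⟨y, hy.symm⟩⟩)
    hcov h

end Groth.Agent.FibDescLib
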