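import Groth.Agent.FibDescLib.InjExact

/-!
# Simplicial objects with a cone and injective sheaves
-/

universe u

open CategoryTheory CategoryTheory.Limits Opposite Simplicial

namespace Groth.Agent.FibDescLib

variable {T : Type u} [Category.{u} T] (C : SimplicialObject T)

/-- The free presheaf on a term. -/
noncomputable def freeT (n : ℕ) : Tᵒᵖ ⥤ AddCommGrpCat.{u} where
  obj d := AddCommGrpCat.of (FreeAbelianGroup (d.unop ⟶ C _⦋n⦌))
  map f := AddCommGrpCat.ofHom (FreeAbelianGroup.lift fun g => FreeAbelianGroup.of (f.unop ≫ g))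
  map_id d := by
    ext1
    refine FreeAbelianGroup.lift_ext _ _ fun g => ?_
    exact (FreeAbelianGroup.lift_apply_of _ _).trans (congrArg _ (Category.id_comp g))
  map_comp f f' := by
    ext1
    refine FreeAbelianGroup.lift_ext _ _ fun g => ?_
    show FreeAbelianGroup.lift _ (FreeAbelianGroup.of g) =
      FreeAbelianGroup.lift _ (FreeAbelianGroup.lift _ (FreeAbelianGroup.of g))
    simp only [FreeAbelianGroup.lift_apply_of, unop_comp, Category.assoc]

/-- The boundary of a generator. -/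
noncomputable def bdGenT (n : ℕ) {d : T} (g : d ⟶ C _⦋n + 1⦌) :
    FreeAbelianGroup (d ⟶ C _⦋n⦌) :=
  ∑ i : Fin (n + 2), (-1 : ℤ) ^ (i : ℕ) • FreeAbelianGroup.of (g ≫ C.δ i)

/-- The boundary of the free presheaves. -/
noncomputable def bdT (n : ℕ) : freeT C (n + 1) ⟶ freeT C n where
  app d := AddCommGrpCat.ofHom (FreeAbelianGroup.lift (bdGenT C n (d := d.unop)))
  naturality d d' f := by
    ext1
    refine FreeAbelianGroup.lift_ext _ _ fun g => ?_
    show FreeAbelianGroup.lift _ (FreeAbelianGroup.lift _ (FreeAbelianGroup.of g)) =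
      FreeAbelianGroup.lift _ (FreeAbelianGroup.lift _ (FreeAbelianGroup.of g))
    simp only [bdGenT, map_sum, map_zsmul, FreeAbelianGroup.lift_apply_of, Category.assoc]
    rfl

/-- A map out of a free presheaf. -/
noncomputable def freeDescT {n : ℕ} {K : Tᵒᵖ ⥤ AddCommGrpCat.{u}}
    (t : K.obj (op (C _⦋n⦌))) : freeT C n ⟶ K where
  app d := AddCommGrpCat.ofHom (FreeAbelianGroup.lift fun g => K.map g.op t)
  naturality d d' f := by
    ext1
    refine FreeAbelianGroup.lift_ext _ _ fun g => ?_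
    show FreeAbelianGroup.lift _ (FreeAbelianGroup.lift _ (FreeAbelianGroup.of g)) =
      K.map f (FreeAbelianGroup.lift _ (FreeAbelianGroup.of g))
    simp only [FreeAbelianGroup.lift_apply_of]
    exact ConcreteCategory.congr_hom (K.map_comp g.op f) t

variable {C} (cone : ∀ {n : ℕ} {d : T}, (d ⟶ C _⦋n⦌) → (d ⟶ C _⦋n + 1⦌))
  (h0 : ∀ {n : ℕ} {d : T} (g : d ⟶ C _⦋n⦌), cone g ≫ C.δ 0 = g)
  (hs : ∀ {n : ℕ} {d : T} (g : d ⟶ C _⦋n + 1⦌) (i : Fin (n + 2)),
    cone g ≫ C.δ i.succ = cone (g ≫ C.δ i))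

include h0 hs in
lemma bd_coneT {n : ℕ} {d : T} (y : FreeAbelianGroup (d ⟶ C _⦋n + 1⦌)) :
    FreeAbelianGroup.lift (bdGenT C (n + 1))
        (FreeAbelianGroup.lift (fun g => FreeAbelianGroup.of (cone g)) y) +
      FreeAbelianGroup.lift (fun g => FreeAbelianGroup.of (cone g))
        (FreeAbelianGroup.lift (bdGenT C n) y) = y := by
  let hc : ∀ k : ℕ, FreeAbelianGroup (d ⟶ C _⦋k⦌) →+ FreeAbelianGroup (d ⟶ C _⦋k + 1⦌) :=
    fun k => FreeAbelianGroup.lift fun g => FreeAbelianGroup.of (cone g)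
  have h : (FreeAbelianGroup.lift (bdGenT C (n + 1))).comp (hc (n + 1)) +
      (hc n).comp (FreeAbelianGroup.lift (bdGenT C n)) = AddMonoidHom.id _ := by
    refine FreeAbelianGroup.lift_ext _ _ fun g => ?_
    simp only [AddMonoidHom.add_apply, AddMonoidHom.comp_apply, AddMonoidHom.id_apply, hc,
      FreeAbelianGroup.lift_apply_of]
    simp only [bdGenT, map_sum, map_zsmul, FreeAbelianGroup.lift_apply_of]
    rw [Fin.sum_univ_succ (n := n + 2), h0]
    simp only [hs, Fin.val_zero, pow_zero, one_smul, Fin.val_succ, pow_succ, mul_neg,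
      mul_one, neg_smul, Finset.sum_neg_distrib]
    exact neg_add_cancel_right _ _
  exact DFunLike.congr_fun h y

include h0 hs in
/-- Injective sheaves have exact sections on a simplicial object with a cone. -/
theorem exact_of_cone {J : GrothendieckTopology T} [HasSheafify J AddCommGrpCat.{u}]
    (K : Sheaf J AddCommGrpCat.{u}) [Injective K] (n : ℕ) (t : K.obj.obj (op (C _⦋n + 1⦌)))
    (ht : ∑ i : Fin (n + 3), (-1 : ℤ) ^ (i : ℕ) • K.obj.map (C.δ i).op t = 0) :
    ∃ w : K.obj.obj (op (C _⦋n⦌)),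
      ∑ i : Fin (n + 2), (-1 : ℤ) ^ (i : ℕ) • K.obj.map (C.δ i).op w = t := by
  have : (sheafToPresheaf J AddCommGrpCat.{u}).PreservesInjectiveObjects :=
    Functor.preservesInjectiveObjects_of_adjunction_of_preservesMonomorphisms
      (sheafificationAdjunction J AddCommGrpCat.{u})
  have : Injective K.obj := (sheafToPresheaf J AddCommGrpCat.{u}).injective_obj K
  let Φ : freeT C (n + 1) ⟶ K.obj := freeDescT C t
  have hΦ : ∀ (d : T) (y : FreeAbelianGroup (d ⟶ C _⦋n + 1 + 1⦌)),
      FreeAbelianGroup.lift (fun g => K.obj.map (Quiver.Hom.op g) t)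
        (FreeAbelianGroup.lift (bdGenT C (n + 1)) y) = 0 := by
    intro d y
    have h : (FreeAbelianGroup.lift fun g : d ⟶ C _⦋n + 1⦌ => K.obj.map g.op t).comp
        (FreeAbelianGroup.lift (bdGenT C (n + 1))) = 0 := by
      refine FreeAbelianGroup.lift_ext _ _ fun g => ?_
      simp only [AddMonoidHom.comp_apply, FreeAbelianGroup.lift_apply_of, bdGenT, map_sum,
        map_zsmul, AddMonoidHom.zero_apply]
      refine Eq.trans ?_ ((congrArg (K.obj.map g.op) ht).trans (map_zero _))
      refine Eq.trans ?_ (map_sum (K.obj.map g.op).hom _ _).symm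
      refine Finset.sum_congr rfl fun i _ => ?_
      refine Eq.trans ?_ (map_zsmul (K.obj.map g.op).hom _ _).symm
      exact congrArg _ (ConcreteCategory.congr_hom (K.obj.map_comp (C.δ i).op g.op) t)
    exact DFunLike.congr_fun h y
  have hker : kernel.ι (Abelian.factorThruImage (bdT C n)) ≫ Φ = 0 := by
    ext d k
    let y := (kernel.ι (Abelian.factorThruImage (bdT C n))).app d k
    have hy : (bdT C n).app d y = 0 := by
      have h0 : kernel.ι (Abelian.factorThruImage (bdT C n)) ≫ bdT C n = 0 := by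
        refine (whisker_eq _ (Abelian.image.fac (bdT C n)).symm).trans ?_
        rw [kernel.condition_assoc, zero_comp]
      exact ConcreteCategory.congr_hom (NatTrans.congr_app h0 d) k
    show Φ.app d y = 0
    have hb := bd_coneT cone h0 hs (d := d.unop) y
    rw [show FreeAbelianGroup.lift (bdGenT C n) y = 0 from hy, map_zero, add_zero] at hb
    exact (congrArg (Φ.app d) hb.symm).trans (hΦ d.unop _)
  let ψ := Injective.factorThru (Abelian.epiDesc _ Φ hker) (Abelian.image.ι (bdT C n))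
  have hψ : bdT C n ≫ ψ = Φ := by
    refine (eq_whisker (Abelian.image.fac (bdT C n)).symm ψ).trans ?_
    rw [Category.assoc, Injective.comp_factorThru, Abelian.comp_epiDesc]
  refine ⟨ψ.app (op _) (FreeAbelianGroup.of (𝟙 (C _⦋n⦌))), ?_⟩
  have h1 : Φ.app _ (FreeAbelianGroup.of (𝟙 (C _⦋n + 1⦌))) = t :=
    (FreeAbelianGroup.lift_apply_of _ _).trans (ConcreteCategory.congr_hom (K.obj.map_id _) t)
  refine Eq.trans ?_ h1
  rw [← hψ]
  show _ = ψ.app (op _) ((bdT C n).app (op _) (FreeAbelianGroup.of (𝟙 _)))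
  refine Eq.trans ?_ (congrArg (ψ.app (op _))
    (show _ = bdGenT C n (𝟙 _) from FreeAbelianGroup.lift_apply_of _ _)).symm
  rw [bdGenT]
  refine Eq.trans ?_ (map_sum (ψ.app (op _)).hom _ _).symm
  refine Finset.sum_congr rfl fun i _ => ?_
  refine Eq.trans ?_ (map_zsmul (ψ.app (op _)).hom _ _).symm
  refine congrArg ((-1 : ℤ) ^ (i : ℕ) • ·) ?_
  refine (ConcreteCategory.congr_hom (ψ.naturality (C.δ i).op) _).symm.trans ?_
  exact congrArg (ψ.app (op _)) ((FreeAbelianGroup.lift_apply_of _ _).trans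
    (congrArg _ ((Category.comp_id _).trans (Category.id_comp _).symm)))

end Groth.Agent.FibDescLib
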