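import Groth.Agent.FibDescLib.CechLocal

/-!
# Direct images from augmented simplicial spaces, on elements
-/

universe u

open CategoryTheory CategoryTheory.Limits Opposite TopologicalSpace Simplicial

namespace Groth.Agent.FibDescLib

variable (Y : Δp ⥤ TopCat.{u})

/-- The part of the `n`th space over an open of the base. -/
def preV (V : Opens (Y.obj bot)) (n : SimplexCategoryᵒᵖ) : Opens ((toAug ⋙ Y).obj n) :=
  (Opens.map (Y.map (toBot (toAug.obj n)))).obj V

lemma map_toBot {a b : Δp} (f : a ⟶ b) (x : Y.obj a) :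
    Y.map (toBot b) (Y.map f x) = Y.map (toBot a) x := by
  rw [← map_comp_apply, comp_toBot]

/-- The simplicial object of the parts over an open of the base. -/
noncomputable def cObj (V : Opens (Y.obj bot)) : SimplexCategoryᵒᵖ ⥤ Tot (toAug ⋙ Y) where
  obj n := pt n (preV Y V n)
  map {n m} f := mkHom (A := pt n (preV Y V n)) (B := pt m (preV Y V m)) f fun x hx => by
    show Y.map (toBot (toAug.obj m)) (Y.map (toAug.map f) x) ∈ V
    rw [← map_comp_apply, comp_toBot]
    exact hx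
  map_id n := hom_ext _ _ rfl
  map_comp f g := hom_ext _ _ rfl

variable (K L : Sheaf (jt (toAug ⋙ Y)) AddCommGrpCat.{u})

/-- The cosimplicial group of sections over an open of the base. -/
noncomputable def coS (V : Opens (Y.obj bot)) : CosimplicialObject AddCommGrpCat.{u} :=
  (cObj Y V).rightOp ⋙ K.obj

variable {Y} {K}

/-- A face map. -/
noncomputable abbrev face (V : Opens (Y.obj bot)) {n : ℕ} (i : Fin (n + 2))
    (t : (coS Y K V).obj ⦋n⦌) : (coS Y K V).obj ⦋n + 1⦌ :=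
  (coS Y K V).δ i t

/-- The differential. -/
noncomputable abbrev dC (V : Opens (Y.obj bot)) {n : ℕ} (t : (coS Y K V).obj ⦋n⦌) :
    (coS Y K V).obj ⦋n + 1⦌ :=
  AlgebraicTopology.AlternatingCofaceMapComplex.objD (coS Y K V) n t

lemma dC_dC (V : Opens (Y.obj bot)) {n : ℕ} (t : (coS Y K V).obj ⦋n⦌) : dC V (dC V t) = 0 :=
  ConcreteCategory.congr_hom (AlgebraicTopology.AlternatingCofaceMapComplex.d_squared (coS Y K V) n) t

lemma dC_eq_sum (V : Opens (Y.obj bot)) {n : ℕ} (t : (coS Y K V).obj ⦋n⦌) :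
    dC V t = ∑ i : Fin (n + 2), (-1 : ℤ) ^ (i : ℕ) • face V i t := by
  have h := congrArg (fun F => F t) (map_sum (AddCommGrpCat.homAddEquiv
    (M := (coS Y K V).obj ⦋n⦌) (N := (coS Y K V).obj ⦋n + 1⦌))
    (fun i : Fin (n + 2) => (-1 : ℤ) ^ (i : ℕ) • (coS Y K V).δ i) Finset.univ)
  exact h.trans (AddMonoidHom.finsetSum_apply _ _ _)

lemma dC_zero (V : Opens (Y.obj bot)) (t : (coS Y K V).obj ⦋0⦌) :
    dC V t = face V 0 t - face V 1 t := by
  have h : AlgebraicTopology.AlternatingCofaceMapComplex.objD (coS Y K V) 0 =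
      (coS Y K V).δ 0 - (coS Y K V).δ 1 := by
    rw [AlgebraicTopology.AlternatingCofaceMapComplex.objD, Fin.sum_univ_two]
    simp [sub_eq_add_neg]
  exact ConcreteCategory.congr_hom h t

/-- Exactness in positive degrees over every open of the base. -/
def CExact (K : Sheaf (jt (toAug ⋙ Y)) AddCommGrpCat.{u}) : Prop :=
  ∀ (V : Opens (Y.obj bot)) (n : ℕ) (t : (coS Y K V).obj ⦋n + 1⦌), dC V t = 0 →
    ∃ w : (coS Y K V).obj ⦋n⦌, dC V w = t

variable (Y) in
/-- Sections of the direct image. -/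
noncomputable abbrev dirIm (K : Sheaf (jt (toAug ⋙ Y)) AddCommGrpCat.{u})
    (V : Opens (Y.obj bot)) : AddCommGrpCat.{u} :=
  ((pr (bcMor toAug Y).functor (bcMor (ptF bot) Y).functor (jt _) (jt _) (jt Y)).obj K).obj.obj
    (op (pt (Y := ptF bot ⋙ Y) ⟨⟨⟩⟩ V))

/-- The tautological map from a part of a level to the base. -/
noncomputable def legHom (V : Opens (Y.obj bot)) (n : SimplexCategoryᵒᵖ) :
    (bcMor toAug Y).functor.obj ((cObj Y V).obj n) ⟶
      (bcMor (ptF bot) Y).functor.obj (pt (Y := ptF bot ⋙ Y) ⟨⟨⟩⟩ V) :=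
  mkHom (Y := Y) (A := (bcMor toAug Y).functor.obj ((cObj Y V).obj n))
    (B := (bcMor (ptF bot) Y).functor.obj (pt (Y := ptF bot ⋙ Y) ⟨⟨⟩⟩ V))
    (toBot (toAug.obj n)) fun x hx => by
      obtain ⟨y, hy, rfl⟩ := hx
      exact ⟨Y.map (toBot (toAug.obj n)) y, (hy : Y.map (toBot (toAug.obj n)) y ∈ V), rfl⟩

variable (Y K) in
/-- Restriction of a section of the direct image to a level. -/
noncomputable def ev (V : Opens (Y.obj bot)) (n : SimplexCategoryᵒᵖ) :
    dirIm Y K V ⟶ K.obj.obj (op ((cObj Y V).obj n)) :=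
  ((Rs (bcMor toAug Y).functor (jt _) (jt Y)).obj K).obj.map (legHom V n).op ≫
    ((adjR (bcMor toAug Y).functor (jt _) (jt Y)).counit.app K).hom.app (op ((cObj Y V).obj n))

lemma ev_natural (V : Opens (Y.obj bot)) {n m : SimplexCategoryᵒᵖ} (f : n ⟶ m)
    (s : dirIm Y K V) : K.obj.map ((cObj Y V).map f).op (ev Y K V m s) = ev Y K V n s := by
  have h : ev Y K V m ≫ K.obj.map ((cObj Y V).map f).op = ev Y K V n := by
    rw [ev, ev, Category.assoc]
    refine (congrArg (_ ≫ ·) (((adjR (bcMor toAug Y).functor (jt _) (jt Y)).counit.app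
      K).hom.naturality ((cObj Y V).map f).op).symm).trans ?_
    refine (Category.assoc _ _ _).symm.trans (congrArg (· ≫ _) ?_)
    refine (((Rs (bcMor toAug Y).functor (jt _) (jt Y)).obj K).obj.map_comp _ _).symm.trans
      (congrArg _ (Quiver.Hom.unop_inj (hom_ext _ _ ?_)))
    exact comp_toBot (toAug.map f)
  exact ConcreteCategory.congr_hom h s

lemma face_ev (V : Opens (Y.obj bot)) {n : ℕ} (i : Fin (n + 2)) (s : dirIm Y K V) :
    face V i (ev Y K V (op ⦋n⦌) s) = ev Y K V (op ⦋n + 1⦌) s :=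
  ev_natural V (SimplexCategory.δ i).op s

/-- A map from a part of some level to the part of level zero over `V`. -/
lemma map_eq_of_faces (V : Opens (Y.obj bot)) (t : (coS Y K V).obj ⦋0⦌)
    (ht : face V 0 t = face V 1 t) {A : Tot (toAug ⋙ Y)}
    (g g' : A ⟶ (cObj Y V).obj (op ⦋0⦌)) : K.obj.map g.op t = K.obj.map g'.op t := by
  obtain ⟨⟨m⟩, U⟩ := A
  suffices h : ∀ (g g' : pt (Y := toAug ⋙ Y) (op m) U ⟶ (cObj Y V).obj (op ⦋0⦌))
      (a b : Fin (m.len + 1)), a ≤ b → g.base = (SimplexCategory.const ⦋0⦌ m a).op →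
        g'.base = (SimplexCategory.const ⦋0⦌ m b).op → K.obj.map g.op t = K.obj.map g'.op t by
    obtain ⟨a, ha⟩ := SimplexCategory.exists_eq_const_of_zero (g.base.unop : ⦋0⦌ ⟶ m)
    obtain ⟨b, hb⟩ := SimplexCategory.exists_eq_const_of_zero (g'.base.unop : ⦋0⦌ ⟶ m)
    have ha' : g.base = (SimplexCategory.const ⦋0⦌ m a).op := Quiver.Hom.unop_inj ha
    have hb' : g'.base = (SimplexCategory.const ⦋0⦌ m b).op := Quiver.Hom.unop_inj hb
    rcases le_total a b with hab | hab
    · exact h g g' a b hab ha' hb'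
    · exact (h g' g b a hab hb' ha').symm
  intro g g' a b hab ha hb
  let q : op m ⟶ op ⦋1⦌ := (SimplexCategory.mkOfLe (n := m.len) a b hab : ⦋1⦌ ⟶ m).op
  have hU : ∀ x ∈ opn (pt (Y := toAug ⋙ Y) (op m) U), (toAug ⋙ Y).map q x ∈ preV Y V (op ⦋1⦌) := fun x hx => by
    show Y.map (toBot (toAug.obj (op ⦋1⦌))) (Y.map (toAug.map q) x) ∈ V
    refine (congrArg (fun y => y ∈ V) (map_toBot Y (toAug.map q) x)).mpr ?_
    exact (congrArg (fun y => y ∈ V) (map_toBot Y (toAug.map g.base) x)).mp (hom_mem g x hx)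
  let φ : pt (Y := toAug ⋙ Y) (op m) U ⟶ (cObj Y V).obj (op ⦋1⦌) :=
    mkHom (A := pt (Y := toAug ⋙ Y) (op m) U) (B := (cObj Y V).obj (op ⦋1⦌)) q hU
  have e₁ : g = φ ≫ (cObj Y V).map (SimplexCategory.δ (1 : Fin 2)).op := hom_ext _ _ (by
    rw [ha]
    refine Quiver.Hom.unop_inj (SimplexCategory.Hom.ext _ _ (OrderHom.ext _ _ (funext fun j => ?_)))
    fin_cases j
    rfl)
  have e₀ : g' = φ ≫ (cObj Y V).map (SimplexCategory.δ (0 : Fin 2)).op := hom_ext _ _ (by
    rw [hb]
    refine Quiver.Hom.unop_inj (SimplexCategory.Hom.ext _ _ (OrderHom.ext _ _ (funext fun j => ?_)))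
    fin_cases j
    rfl)
  rw [e₁, e₀, op_comp, op_comp, K.obj.map_comp, K.obj.map_comp]
  exact congrArg (K.obj.map φ.op) ht.symm

section Legs

variable (V : Opens (Y.obj bot))

/-- The part of level zero receives every leg. -/
lemma exists_leg (X : StructuredArrow (op ((bcMor (ptF bot) Y).functor.obj
    (pt (Y := ptF bot ⋙ Y) ⟨⟨⟩⟩ V))) (bcMor toAug Y).functor.op) :
    ∃ g : X.right.unop ⟶ (cObj Y V).obj (op ⦋0⦌),
      (bcMor toAug Y).functor.map g ≫ legHom V (op ⦋0⦌) = X.hom.unop := by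
  let c := X.right.unop
  refine ⟨mkHom (A := c) (B := (cObj Y V).obj (op ⦋0⦌))
    (SimplexCategory.const ⦋0⦌ c.base.unop 0).op fun x hx => ?_, hom_ext _ _
      (Quiver.Hom.unop_inj (WithInitial.starInitial.hom_ext _ _))⟩
  show Y.map (toBot (toAug.obj (op ⦋0⦌)))
    (Y.map (toAug.map (SimplexCategory.const ⦋0⦌ c.base.unop 0).op) x) ∈ V
  rw [← map_comp_apply, comp_toBot]
  obtain ⟨z, hz, hze⟩ := hom_mem X.hom.unop x ⟨x, hx, rfl⟩
  have : (X.hom.unop.base : toAug.obj c.base ⟶ bot) = toBot (toAug.obj c.base) :=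
    Quiver.Hom.unop_inj (WithInitial.starInitial.hom_ext _ _)
  rw [← this]
  exact (hze : _ = Y.map X.hom.unop.base x) ▸ hz

lemma leg_eq (X : StructuredArrow (op ((bcMor (ptF bot) Y).functor.obj
    (pt (Y := ptF bot ⋙ Y) ⟨⟨⟩⟩ V))) (bcMor toAug Y).functor.op)
    (g : X.right.unop ⟶ (cObj Y V).obj (op ⦋0⦌))
    (hg : (bcMor toAug Y).functor.map g ≫ legHom V (op ⦋0⦌) = X.hom.unop) (s : dirIm Y K V) :
    (((Rs (bcMor toAug Y).functor (jt _) (jt Y)).obj K).obj.map X.hom ≫
      ((adjR (bcMor toAug Y).functor (jt _) (jt Y)).counit.app K).hom.app X.right) s =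
        K.obj.map g.op (ev Y K V (op ⦋0⦌) s) := by
  suffices h : ((Rs (bcMor toAug Y).functor (jt _) (jt Y)).obj K).obj.map X.hom ≫
      ((adjR (bcMor toAug Y).functor (jt _) (jt Y)).counit.app K).hom.app X.right =
        ev Y K V (op ⦋0⦌) ≫ K.obj.map g.op from ConcreteCategory.congr_hom h s
  rw [ev, Category.assoc]
  refine Eq.trans ?_ (congrArg (_ ≫ ·) (((adjR (bcMor toAug Y).functor (jt _) (jt Y)).counit.app
      K).hom.naturality g.op))
  refine Eq.trans ?_ (Category.assoc _ _ _)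
  refine congrArg (· ≫ _) (Eq.trans (congrArg _ ?_)
    (((Rs (bcMor toAug Y).functor (jt _) (jt Y)).obj K).obj.map_comp _ _))
  exact Quiver.Hom.unop_inj hg.symm

/-- Sections of the direct image are determined at level zero. -/
theorem ev_injective : Function.Injective (ev Y K V (op ⦋0⦌)) := by
  intro s s' h
  refine Concrete.isLimit_ext _ (isPointwise (bcMor toAug Y).functor (jt _) (jt Y) K
    (op ((bcMor (ptF bot) Y).functor.obj (pt (Y := ptF bot ⋙ Y) ⟨⟨⟩⟩ V)))) _ _ fun X => ?_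
  obtain ⟨g, hg⟩ := exists_leg V X
  exact (leg_eq V X g hg s).trans ((congrArg _ h).trans (leg_eq V X g hg s').symm)

/-- Compatible families at level zero are sections of the direct image. -/
theorem exists_ev_eq (t : (coS Y K V).obj ⦋0⦌) (ht : face V 0 t = face V 1 t) :
    ∃ s, ev Y K V (op ⦋0⦌) s = t := by
  choose g hg using exists_leg V
  let hl := isLimitOfPreserves (forget AddCommGrpCat.{u})
    (isPointwise (bcMor toAug Y).functor (jt _) (jt Y) K
      (op ((bcMor (ptF bot) Y).functor.obj (pt (Y := ptF bot ⋙ Y) ⟨⟨⟩⟩ V))))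
  let s := (Types.isLimitEquivSections hl).symm ⟨fun X => K.obj.map (g X).op t, fun {X X'} φ => by
    refine (ConcreteCategory.congr_hom (K.obj.map_comp (g X).op φ.right).symm t : _).trans ?_
    exact map_eq_of_faces V t ht (φ.right.unop ≫ g X) (g X')⟩
  refine ⟨s, ?_⟩
  let X₀ : StructuredArrow (op ((bcMor (ptF bot) Y).functor.obj
      (pt (Y := ptF bot ⋙ Y) ⟨⟨⟩⟩ V))) (bcMor toAug Y).functor.op :=
    StructuredArrow.mk (Y := op ((cObj Y V).obj (op ⦋0⦌))) (legHom V (op ⦋0⦌)).op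
  have h := Types.isLimitEquivSections_symm_apply hl ⟨fun X => K.obj.map (g X).op t, fun {X X'} φ => by
    refine (ConcreteCategory.congr_hom (K.obj.map_comp (g X).op φ.right).symm t : _).trans ?_
    exact map_eq_of_faces V t ht (φ.right.unop ≫ g X) (g X')⟩ X₀
  exact h.trans ((map_eq_of_faces V t ht (g X₀) (𝟙 _)).trans
    (ConcreteCategory.congr_hom (K.obj.map_id _) t))

end Legs

end Groth.Agent.FibDescLib
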