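import Groth.Agent.FibDescLib.BaseChange
import Groth.Agent.ModShf.AcyclicRes

/-!
# Acyclicity for direct images from compact augmented simplicial spaces over a point
-/

universe u

open CategoryTheory CategoryTheory.Limits Opposite TopologicalSpace Simplicial

namespace Groth.Agent.FibDescLib

open Groth.Agent.CohTop.Proper.Extend (Sep)
open Groth.Agent.CohTop.Proper.Soft
open Groth.Agent.ModShf.AcyclicRes (GoodClass)

/-- Restriction to a level is componentwise flat. -/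
noncomputable def lvlFlat {S : Type} [Category.{0} S] (Y : S ⥤ TopCat.{u}) (k : S) :
    CompFlat (lvl Y k) where
  κ d := ULift.{u} (d.base ⟶ k)
  idx φ := ⟨φ.base⟩
  idx_comp φ g := ULift.ext _ _ (Category.comp_id φ.base)
  bound {d x y} f g h := by
    have hb : f.base = g.base := congrArg ULift.down h
    have hz : ∀ v ∈ opn d, Y.map f.base v ∈ (x ⊓ y : Opens (Y.obj k)) :=
      fun v hv => ⟨hom_mem f v hv, hb ▸ hom_mem g v hv⟩
    exact ⟨x ⊓ y, mkHom (A := d) (B := pt k (x ⊓ y)) f.base hz, homOfLE inf_le_left,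
      homOfLE inf_le_right, hom_ext _ _ (Category.comp_id f.base),
      hom_ext _ _ ((Category.comp_id f.base).trans hb)⟩
  equalize {d x y} f g g' _ := ⟨x, f, 𝟙 x,
    hom_ext _ _ (Category.comp_id f.base), Subsingleton.elim _ _⟩

lemma preservesInjectiveObjects_atLvl {S : Type} [Category.{0} S] (Y : S ⥤ TopCat.{u}) (k : S) :
    (rs (lvl Y k) (Opens.grothendieckTopology (Y.obj k)) (jt Y)).PreservesInjectiveObjects :=
  (lvlFlat Y k).preservesInjectiveObjects_rs _ _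

lemma isSoft_of_iso {Z : TopCat.{u}} {F G : CohTop.Ab Z} (φ : F ⟶ G) [IsIso φ] (hF : IsSoft F) :
    IsSoft G := by
  intro C hC b hb
  obtain ⟨a, ha⟩ := hF C hC (fun z => stk (inv φ) z (b z)) fun z hz => by
    obtain ⟨W, hW, t, ht⟩ := hb z hz
    refine ⟨W, hW, (inv φ).hom.app (op W) t, fun z' hz' h => ?_⟩
    exact (gm_app (inv φ) t z' h).symm.trans (congrArg (stk (inv φ) z') (ht z' hz' h))
  refine ⟨φ.hom.app (op ⊤) a, fun z hz => ?_⟩
  refine (gm_app φ a z trivial).symm.trans ((congrArg (stk φ z) (ha z hz)).trans ?_)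
  have h : stk (inv φ) z ≫ stk φ z = 𝟙 _ :=
    ((TopCat.Presheaf.stalkFunctor AddCommGrpCat.{u} z).map_comp (inv φ).hom φ.hom).symm.trans
      ((congrArg (fun ψ : G ⟶ G => (TopCat.Presheaf.stalkFunctor AddCommGrpCat.{u} z).map ψ.hom)
        (IsIso.inv_hom_id φ)).trans ((TopCat.Presheaf.stalkFunctor AddCommGrpCat.{u} z).map_id _))
  exact ConcreteCategory.congr_hom h (b z)

variable (Y' : Δp ⥤ TopCat.{u})

/-- Levelwise soft sheaves with exact groups of global sections. -/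
def FibP : ObjectProperty (Sheaf (jt (toAug ⋙ Y')) AddCommGrpCat.{u}) := fun K =>
  (∀ n : SimplexCategoryᵒᵖ, IsSoft (atLvl (Y := toAug ⋙ Y') n K)) ∧
    ∀ (n : ℕ) (t : (coS Y' K ⊤).obj ⦋n + 1⦌), dC ⊤ t = 0 →
      ∃ w : (coS Y' K ⊤).obj ⦋n⦌, dC ⊤ w = t

section Seq

variable [∀ n : SimplexCategoryᵒᵖ, CompactSpace (Y'.obj (toAug.obj n))]
  [∀ n : SimplexCategoryᵒᵖ, T2Space (Y'.obj (toAug.obj n))]

variable {Y'} (T : ShortComplex (Sheaf (jt (toAug ⋙ Y')) AddCommGrpCat.{u})) (hT : T.ShortExact)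
  (h₁ : FibP Y' T.X₁) (n : ℕ)

include hT h₁ in
lemma fibre_sections :
    Function.Injective (fun x : (coS Y' T.X₁ ⊤).obj ⦋n⦌ =>
        (T.f.hom.app _ x : (coS Y' T.X₂ ⊤).obj ⦋n⦌)) ∧
      (∀ y : (coS Y' T.X₂ ⊤).obj ⦋n⦌, (T.g.hom.app _ y : (coS Y' T.X₃ ⊤).obj ⦋n⦌) = 0 →
        ∃ x : (coS Y' T.X₁ ⊤).obj ⦋n⦌, T.f.hom.app _ x = y) ∧
      Function.Surjective (fun y : (coS Y' T.X₂ ⊤).obj ⦋n⦌ =>
        (T.g.hom.app _ y : (coS Y' T.X₃ ⊤).obj ⦋n⦌)) := by
  have : CompactSpace ((toAug ⋙ Y').obj (op ⦋n⦌)) :=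
    inferInstanceAs (CompactSpace (Y'.obj (toAug.obj (op ⦋n⦌))))
  have : T2Space ((toAug ⋙ Y').obj (op ⦋n⦌)) :=
    inferInstanceAs (T2Space (Y'.obj (toAug.obj (op ⦋n⦌))))
  let L := rs (lvl (toAug ⋙ Y') (op ⦋n⦌)) (Opens.grothendieckTopology _) (jt (toAug ⋙ Y'))
  have hL : (T.map L).ShortExact := hT.map_of_exact L
  have hG := goodClass_soft (Z := (toAug ⋙ Y').obj (op ⦋n⦌))
  have hS := Groth.Agent.ModShf.AcyclicRes.map_shortExact hG _ hL (h₁.1 (op ⦋n⦌))
  refine ⟨(AddCommGrpCat.mono_iff_injective _).1 hS.mono_f, fun y hy => ?_,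
    (AddCommGrpCat.epi_iff_surjective _).1 hS.epi_g⟩
  exact (ShortComplex.ab_exact_iff _).1 hS.exact y hy

end Seq

variable [Subsingleton (Y'.obj bot)] [Nonempty (Y'.obj bot)]
  [∀ n : SimplexCategoryᵒᵖ, CompactSpace (Y'.obj (toAug.obj n))]
  [∀ n : SimplexCategoryᵒᵖ, T2Space (Y'.obj (toAug.obj n))]

/-- The class is good for the direct image to the point. -/
theorem goodClass_fibP : GoodClass (prY Y') (FibP Y') where
  of_injective K hK := by
    have : Injective K := hK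
    refine ⟨fun n => ?_, fun n t ht => cExact_of_injective Y' K ⊤ n t ht⟩
    have : CompactSpace ((toAug ⋙ Y').obj n) :=
      inferInstanceAs (CompactSpace (Y'.obj (toAug.obj n)))
    have : T2Space ((toAug ⋙ Y').obj n) := inferInstanceAs (T2Space (Y'.obj (toAug.obj n)))
    have := preservesInjectiveObjects_atLvl (toAug ⋙ Y') n
    have : Injective (atLvl (Y := toAug ⋙ Y') n K) := Functor.injective_obj _ K
    have := Groth.Agent.CohTop.Flasque.isFlasque_of_injective (atLvl (Y := toAug ⋙ Y') n K)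
    exact isSoft_of_flasque _
  coker T hT h₁ h₂ := by
    refine ⟨fun n => ?_, fun n t ht => ?_⟩
    · have : CompactSpace ((toAug ⋙ Y').obj n) :=
        inferInstanceAs (CompactSpace (Y'.obj (toAug.obj n)))
      have : T2Space ((toAug ⋙ Y').obj n) := inferInstanceAs (T2Space (Y'.obj (toAug.obj n)))
      exact (goodClass_soft (Z := (toAug ⋙ Y').obj n)).coker _
        (hT.map_of_exact (rs (lvl (toAug ⋙ Y') n) (Opens.grothendieckTopology _)
          (jt (toAug ⋙ Y')))) (h₁.1 n) (h₂.1 n)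
    · obtain ⟨y, rfl⟩ := (fibre_sections T hT h₁ (n + 1)).2.2 t
      obtain ⟨z, hz⟩ := (fibre_sections T hT h₁ (n + 1 + 1)).2.1 (dC ⊤ y)
        ((dC_hom T.g y).trans ht)
      have hz0 : dC ⊤ z = 0 := by
        refine (fibre_sections T hT h₁ (n + 1 + 1 + 1)).1 ?_
        exact ((dC_hom T.f z).trans ((congrArg (dC ⊤) hz).trans (dC_dC ⊤ y))).trans
          (map_zero _).symm
      obtain ⟨w, rfl⟩ := h₁.2 (n + 1) z hz0
      obtain ⟨v, hv⟩ := h₂.2 n
        (y - (show (coS Y' T.X₂ ⊤).obj ⦋n + 1⦌ from T.f.hom.app _ w)) (by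
        show (AlgebraicTopology.AlternatingCofaceMapComplex.objD (coS Y' T.X₂ ⊤) (n + 1)) _ = 0
        rw [map_sub, sub_eq_zero]
        exact hz.symm.trans (dC_hom T.f w))
      refine ⟨T.g.hom.app _ v, (dC_hom T.g v).symm.trans ((congrArg _ hv).trans ?_)⟩
      refine (map_sub _ _ _).trans ?_
      rw [sub_eq_self]
      exact ConcreteCategory.congr_hom (congrArg (fun φ => φ.hom.app _) T.zero) w
  epi T hT h₁ := by
    have : Epi ((sheafToPresheaf _ AddCommGrpCat.{u}).map ((prY Y').map T.g)) := by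
      rw [NatTrans.epi_iff_epi_app]
      rintro ⟨⟨⟨⟨⟩⟩⟩, U⟩
      obtain ⟨U, rfl⟩ : ∃ U' : Opens (Y'.obj bot), U' = U := ⟨U, rfl⟩
      rcases (isEmpty_or_nonempty (U : Opens (Y'.obj bot))) with hU | hU
      · obtain rfl : (U : Opens (Y'.obj bot)) = ⊥ := Opens.ext (Set.eq_empty_iff_forall_notMem.2
          fun x hx => hU.false ⟨x, hx⟩)
        have := isIso_of_isTerminal'
          (TopCat.Sheaf.isTerminalOfEqEmpty (X := (ptF bot ⋙ Y').obj ⟨⟨⟩⟩)
            (atLvl ⟨⟨⟩⟩ ((prY Y').obj T.X₂)) rfl)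
          (TopCat.Sheaf.isTerminalOfEqEmpty (X := (ptF bot ⋙ Y').obj ⟨⟨⟩⟩)
            (atLvl ⟨⟨⟩⟩ ((prY Y').obj T.X₃)) rfl)
          (((sheafToPresheaf _ AddCommGrpCat.{u}).map ((prY Y').map T.g)).app
            (op (pt (Y := ptF bot ⋙ Y') ⟨⟨⟩⟩ ⊥)))
        exact @IsIso.epi_of_iso _ _ _ _ _ this
      · obtain rfl : (U : Opens (Y'.obj bot)) = ⊤ := Opens.ext (Set.eq_univ_iff_forall.2 fun x => by
          obtain ⟨⟨y, hy⟩⟩ := hU
          exact Subsingleton.elim y x ▸ hy)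
        refine (AddCommGrpCat.epi_iff_surjective _).2 fun s => ?_
        obtain ⟨y, hy⟩ := (fibre_sections T hT h₁ 0).2.2 (ev Y' T.X₃ ⊤ (op ⦋0⦌) s)
        obtain ⟨z, hz⟩ := (fibre_sections T hT h₁ (0 + 1)).2.1 (dC ⊤ y) (by
          refine (dC_hom T.g y).trans ((congrArg (dC ⊤) hy).trans ?_)
          rw [dC_zero, face_ev, face_ev, sub_self]
          rfl)
        have hz0 : dC ⊤ z = 0 := by
          refine (fibre_sections T hT h₁ (0 + 1 + 1)).1 ?_
          exact ((dC_hom T.f z).trans ((congrArg (dC ⊤) hz).trans (dC_dC ⊤ y))).trans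
            (map_zero _).symm
        obtain ⟨w, rfl⟩ := h₁.2 0 z hz0
        have h0 : dC (K := T.X₂) ⊤
            (y - (show (coS Y' T.X₂ ⊤).obj ⦋0⦌ from T.f.hom.app _ w)) = 0 := by
          show (AlgebraicTopology.AlternatingCofaceMapComplex.objD (coS Y' T.X₂ ⊤) 0) _ = 0
          rw [map_sub, sub_eq_zero]
          exact hz.symm.trans (dC_hom T.f w)
        rw [dC_zero, sub_eq_zero] at h0
        obtain ⟨x, hx⟩ := exists_ev_eq ⊤ _ h0
        refine ⟨x, ev_injective ⊤ ?_⟩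
        refine (ev_hom ⊤ (op ⦋0⦌) T.g x).trans ((congrArg _ hx).trans ?_)
        refine (map_sub _ _ _).trans ?_
        refine (sub_eq_self.2 ?_).trans hy
        exact ConcreteCategory.congr_hom (congrArg (fun φ => φ.hom.app _) T.zero) w
    exact (sheafToPresheaf _ AddCommGrpCat.{u}).epi_of_epi_map this

variable {Y'} {Y : Δp ⥤ TopCat.{u}} (e : Y' ⟶ Y)
  (hind : ∀ n : SimplexCategoryᵒᵖ, Topology.IsInducing (e.app (toAug.obj n)))
  (hsep : ∀ n : SimplexCategoryᵒᵖ, Sep (e.app (toAug.obj n)))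
  (hcl : ∀ n : SimplexCategoryᵒᵖ, IsClosedMap (Y.map (toBot (toAug.obj n))))
  (hfib : ∀ (n : SimplexCategoryᵒᵖ) (v : Y.obj (toAug.obj n)),
    Y.map (toBot (toAug.obj n)) v ∈ Set.range (e.app bot) → v ∈ Set.range (e.app (toAug.obj n)))

include hind hsep hcl hfib in
omit [∀ n : SimplexCategoryᵒᵖ, T2Space (Y'.obj (toAug.obj n))] in
/-- Inverse images of injective sheaves are in the class. -/
theorem fibP_pS (H : Sheaf (jt (toAug ⋙ Y)) AddCommGrpCat.{u}) (hH : Injective H) :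
    FibP Y' ((pS e).obj H) := by
  refine ⟨fun n => ?_, cExact_pS e H hind hsep hcl hfib (cExact_of_injective Y H)⟩
  have : CompactSpace ((toAug ⋙ Y').obj n) := inferInstanceAs (CompactSpace (Y'.obj (toAug.obj n)))
  have := preservesInjectiveObjects_atLvl (toAug ⋙ Y) n
  have : Injective (atLvl (Y := toAug ⋙ Y) n H) := Functor.injective_obj _ H
  have := Groth.Agent.CohTop.Flasque.isFlasque_of_injective (atLvl (Y := toAug ⋙ Y) n H)
  exact isSoft_of_iso (lvlCmp (eS e) n H) (isSoft_pull _ _ (hind n) (hsep n))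

end Groth.Agent.FibDescLib
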