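import Groth.Agent.FibDescLib.BaseLevel
import Groth.Agent.FibDescLib.FibreAcyclic
import Groth.Agent.CohTop.Descent.Compute
import Groth.Agent.CohTop.Descent.TotExact
import Mathlib.AlgebraicTopology.AlternatingFaceMapComplex

/-!
# The spectral sequence of an augmented space of cohomological descent
-/

universe u

open CategoryTheory CategoryTheory.Limits Opposite TopologicalSpace Simplicial

namespace Groth.Agent.FibDescLib

open Groth.Agent.CohTop.Descent
open Groth.Agent.ModShf.AcyclicRes (Res)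

variable {Y : Δp ⥤ TopCat.{u}}
  (I : CochainComplex (Sheaf (jt (toAug ⋙ Y)) AddCommGrpCat.{u}) ℕ)

/-- Sections of a complex of sheaves, as a functor to complexes. -/
noncomputable def sectCx : (Tot (toAug ⋙ Y))ᵒᵖ ⥤ CochainComplex AddCommGrpCat.{u} ℕ where
  obj A :=
    { X := fun q => (I.X q).obj.obj A
      d := fun q q' => (I.d q q').hom.app A
      shape := fun q q' h => by rw [I.shape q q' h]; rfl
      d_comp_d' := fun q q' q'' _ _ => congrArg (fun φ => φ.hom.app A) (I.d_comp_d q q' q'') }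
  map f :=
    { f := fun q => (I.X q).obj.map f
      comm' := fun q q' _ => (I.d q q').hom.naturality f }
  map_id A := HomologicalComplex.hom_ext _ _ fun q => (I.X q).obj.map_id A
  map_comp f g := HomologicalComplex.hom_ext _ _ fun q => (I.X q).obj.map_comp f g

/-- The double complex of sections. -/
noncomputable def dblI : CochainComplex (CochainComplex AddCommGrpCat.{u} ℕ) ℕ :=
  AlgebraicTopology.AlternatingCofaceMapComplex.obj ((cObj Y ⊤).rightOp ⋙ sectCx I)

theorem dblI_d_apply (p q : ℕ) (x : (coS Y (I.X q) ⊤).obj ⦋p⦌) :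
    ((dblI I).d p (p + 1)).f q x = dC ⊤ x := by
  rw [dC_eq_sum]
  let Z : CosimplicialObject (CochainComplex AddCommGrpCat.{u} ℕ) :=
    (cObj Y ⊤).rightOp ⋙ sectCx I
  have h : ((dblI I).d p (p + 1)).f q =
      ∑ i : Fin (p + 2), (-1 : ℤ) ^ (i : ℕ) • (Z.δ i).f q := by
    refine (congrArg (fun φ : Z.obj ⦋p⦌ ⟶ Z.obj ⦋p + 1⦌ => φ.f q) (CochainComplex.of_d
      (fun n => Z.obj ⦋n⦌) (AlgebraicTopology.AlternatingCofaceMapComplex.objD Z) p)).trans ?_
    exact (map_sum (HomologicalComplex.Hom.fAddMonoidHom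
      (C₁ := Z.obj ⦋p⦌) (C₂ := Z.obj ⦋p + 1⦌) q) _ _).trans
        (Finset.sum_congr rfl fun i _ => map_zsmul (HomologicalComplex.Hom.fAddMonoidHom
          (C₁ := Z.obj ⦋p⦌) (C₂ := Z.obj ⦋p + 1⦌) q) _ _)
  rw [h]
  exact map_sum (AddMonoidHom.mk' (fun g : ((dblI I).X p).X q ⟶ ((dblI I).X (p + 1)).X q => g x)
    (fun _ _ => rfl)) _ _

/-- Global sections over the base of the direct image. -/
noncomputable abbrev baseG : Sheaf (jt (toAug ⋙ Y)) AddCommGrpCat.{u} ⥤
    CohTop.Ab ((ptF bot ⋙ Y).obj ⟨⟨⟩⟩) := prY Y ⋙ toBase Y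

/-- The augmentation. -/
noncomputable def augI :
    ((baseG (Y := Y) ⋙ Compute.Γt _).mapHomologicalComplex _).obj I ⟶ (dblI I).X 0 where
  f q := ev Y (I.X q) ⊤ (op ⦋0⦌)
  comm' q q' _ := by
    refine ConcreteCategory.hom_ext _ _ fun s => ?_
    exact (ev_hom ⊤ (op ⦋0⦌) (I.d q q') s).symm

/-- The descent spectral sequence. -/
theorem exists_descent_ss (hY : Desc toAug bot Y) (F : CohTop.Ab ((ptF bot ⋙ Y).obj ⟨⟨⟩⟩)) :
    ∃ (E : CohomologicalSpectralSequence AddCommGrpCat.{u} 1)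
      (a : SpSeq.Abutment E (fun n : ℤ =>
        if 0 ≤ n then AddCommGrpCat.of (CohTop.H F n.toNat) else AddCommGrpCat.of PUnit.{u + 1})),
      (∀ n, a.IsFinite n) ∧ SpSeq.IsBounded E ∧
      ∀ p q : ℤ, Nonempty ((E.page 1 le_rfl).X (p, q) ≅
        (if 0 ≤ p ∧ 0 ≤ q then
          AddCommGrpCat.of (CohTop.H ((CohTop.pull
            (lvlProj Y (toAug.obj (op ⦋p.toNat⦌)))).obj F) q.toNat)
         else AddCommGrpCat.of PUnit.{u + 1})) := by
  let B := (ptF bot ⋙ Y).obj ⟨⟨⟩⟩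
  let J₀ := Opens.grothendieckTopology B
  let pY := pl (bcMor toAug Y).functor (bcMor (ptF bot) Y).functor (jt _) (jt _) (jt Y)
  let adj := adjS (bcMor toAug Y).functor (bcMor (ptF bot) Y).functor (jt _) (jt _) (jt Y)
  have hess : (lvl (ptF bot ⋙ Y) ⟨⟨⟩⟩).EssSurj := ⟨fun A => ⟨A.fiber, ⟨eqToIso (by
    obtain ⟨⟨⟨⟩⟩, U⟩ := A
    rfl)⟩⟩⟩
  have hfaith : (lvl (ptF bot ⋙ Y) ⟨⟨⟩⟩).Faithful := ⟨fun {U V} f g _ => Subsingleton.elim _ _⟩
  have hfull : (lvl (ptF bot ⋙ Y) ⟨⟨⟩⟩).Full := ⟨fun {U V} f => ⟨homOfLE (fun x hx => by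
      have := hom_mem f x hx
      exact (map_id_apply (Y := ptF bot ⋙ Y) ⟨⟨⟩⟩ x) ▸ this),
    hom_ext _ _ (Subsingleton.elim _ _)⟩⟩
  have : (toBase Y).IsEquivalence := isEquivalence_rs _ _ _
  have : (fromBase Y).IsEquivalence := isEquivalence_Ls _ _ _
  have hinj : (toBase Y).PreservesInjectiveObjects :=
    preservesInjectiveObjects_atLvl (ptF bot ⋙ Y) ⟨⟨⟩⟩
  have : PreservesFiniteLimits pY := pl_preservesFiniteLimits toAug bot Y
  have hprinj : (prY Y).PreservesInjectiveObjects := preservesInjectiveObjects_right adj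
  have : PreservesFiniteLimits (prY Y) := by
    have : (prY Y).IsRightAdjoint := adj.isRightAdjoint
    exact ⟨fun J _ _ => inferInstance⟩
  have : PreservesFiniteLimits (baseG (Y := Y)) := comp_preservesFiniteLimits _ _
  have : (baseG (Y := Y)).PreservesInjectiveObjects :=
    ⟨fun {X} hX => (toBase Y).injective_obj_of_injective ((prY Y).injective_obj_of_injective hX)⟩
  let FS := (fromBase Y).obj F
  let R := injectiveResolution (pY.obj FS)
  have hacy : CohDerLib.Acyclic.Acy (baseG (Y := Y)) (pY.obj FS) := fun k hk =>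
    IsZero.of_iso ((toBase Y).map_isZero (hY.acy FS k hk))
      (DerFun.rightDerivedPostIso (toBase Y) (prY Y) k (pY.obj FS))
  let J := mapAcyRes (baseG (Y := Y)) R hacy
  have hu : IsIso ((adjL (lvl (ptF bot ⋙ Y) ⟨⟨⟩⟩) J₀ (jt (ptF bot ⋙ Y))).unit.app F) :=
    inferInstance
  have hu' := hY.isIso_unit
  let eF : F ≅ (baseG (Y := Y)).obj (pY.obj FS) :=
    asIso ((adjL (lvl (ptF bot ⋙ Y) ⟨⟨⟩⟩) J₀ (jt (ptF bot ⋙ Y))).unit.app F) ≪≫
      (toBase Y).mapIso (asIso (adj.unit.app FS))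
  have htot : ∀ n : ℤ, Nonempty ((TotCx.tot (dblI R.cocomplex)).homology n ≅
      if 0 ≤ n then AddCommGrpCat.of (CohTop.H F n.toNat) else AddCommGrpCat.of PUnit.{u + 1}) := by
    intro n
    by_cases hn : 0 ≤ n
    · obtain ⟨k, rfl⟩ := Int.eq_ofNat_of_zero_le hn
      have hR : ∀ q, Injective (R.cocomplex.X q) := R.injective
      obtain ⟨e₁⟩ := TotExact.nonempty_homology_iso (K := dblI R.cocomplex)
        (fun p q z hz => by
          have := hR q
          obtain ⟨w, hw⟩ := cExact_of_injective Y (R.cocomplex.X q) ⊤ p z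
            ((dblI_d_apply R.cocomplex (p + 1) q z).symm.trans hz)
          exact ⟨w, (dblI_d_apply R.cocomplex p q w).trans hw⟩)
        (((baseG (Y := Y) ⋙ Compute.Γt _).mapHomologicalComplex _).obj R.cocomplex)
        (augI R.cocomplex)
        (fun q y => by
          refine (dblI_d_apply R.cocomplex 0 q (ev Y (R.cocomplex.X q) ⊤ (op ⦋0⦌) y)).trans ?_
          refine (dC_zero ⊤ _).trans (sub_eq_zero.2 ?_)
          exact (face_ev ⊤ 0 y).trans (face_ev ⊤ 1 y).symm)
        (fun q => ev_injective ⊤)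
        (fun q z hz => exists_ev_eq ⊤ z (sub_eq_zero.1
          ((dC_zero ⊤ z).symm.trans ((dblI_d_apply R.cocomplex 0 q z).symm.trans hz)))) k
      obtain ⟨e₂⟩ := Compute.nonempty_homology_iso_H (X := B)
        (⟨J.cocomplex, J.ι, J.quasiIso⟩ : Res ((baseG (Y := Y)).obj (pY.obj FS)))
        (fun m => by
          have := J.injective m
          exact Groth.Agent.CohTop.Flasque.isFlasque_of_injective _) k
      have hk : (k : ℤ).toNat = k := Int.toNat_natCast k
      let e₀ : ((baseG (Y := Y) ⋙ Compute.Γt B).mapHomologicalComplex _).obj R.cocomplex ≅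
          ((Compute.Γt B).mapHomologicalComplex _).obj J.cocomplex :=
        HomologicalComplex.Hom.isoOfComponents (fun m => Iso.refl _)
          (fun i j _ => (Category.id_comp _).trans (Category.comp_id _).symm)
      exact ⟨e₁ ≪≫ (HomologicalComplex.homologyFunctor _ _ k).mapIso e₀ ≪≫ e₂ ≪≫
        (Abelian.extFunctorObj _ k).mapIso eF.symm ≪≫ eqToIso (by rw [if_pos hn, hk]; rfl)⟩
    · rw [if_neg hn]
      exact ⟨(TotExact.isZero_homology_of_neg (by omega)).iso
        (AddCommGrpCat.isZero_of_subsingleton _)⟩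
  obtain ⟨a, ha'⟩ := TotCx.exists_abutment (dblI R.cocomplex) _ fun n => (htot n).some
  refine ⟨TotCx.ss (dblI R.cocomplex), a, ha', TotCx.isBounded_ss _, fun p q => ?_⟩
  by_cases hpq : 0 ≤ p ∧ 0 ≤ q
  · rw [if_pos hpq]
    obtain ⟨p, rfl⟩ := Int.eq_ofNat_of_zero_le hpq.1
    obtain ⟨q, rfl⟩ := Int.eq_ofNat_of_zero_le hpq.2
    obtain ⟨e₁⟩ := TotCx.nonempty_page_one_iso (dblI R.cocomplex) p q
    let Z := (toAug ⋙ Y).obj (op ⦋p⦌)
    let L := rs (lvl (toAug ⋙ Y) (op ⦋p⦌)) (Opens.grothendieckTopology Z) (jt (toAug ⋙ Y))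
    have : L.PreservesInjectiveObjects := preservesInjectiveObjects_atLvl (toAug ⋙ Y) (op ⦋p⦌)
    let Jp := DerFun.mapInjRes L R
    obtain ⟨e₂⟩ := Compute.nonempty_homology_iso_H (X := Z)
      (⟨Jp.cocomplex, Jp.ι, Jp.quasiIso⟩ : Res (L.obj (pY.obj FS)))
      (fun m => by
        have := Jp.injective m
        exact Groth.Agent.CohTop.Flasque.isFlasque_of_injective _) q
    let e₀ : (dblI R.cocomplex).X p ≅ ((Compute.Γt Z).mapHomologicalComplex _).obj Jp.cocomplex :=
      HomologicalComplex.Hom.isoOfComponents (fun m => Iso.refl _)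
        (fun i j _ => (Category.id_comp _).trans (Category.comp_id _).symm)
    exact ⟨e₁ ≪≫ (HomologicalComplex.homologyFunctor _ _ q).mapIso e₀ ≪≫ e₂ ≪≫
      (Abelian.extFunctorObj _ q).mapIso ((lvlPlIso Y (op ⦋p⦌)).app F)⟩
  · rw [if_neg hpq]
    exact ⟨(TotCx.isZero_page_one _ p q hpq).iso (AddCommGrpCat.isZero_of_subsingleton _)⟩

end Groth.Agent.FibDescLib
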