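import Groth.Agent.FibDescLib.Bisimp

/-!
# Descent of a doubly augmented diagram from descent of its lines
-/

universe u

open CategoryTheory CategoryTheory.Limits Opposite TopologicalSpace

namespace Groth.Agent.FibDescLib

variable (Zg : Δp × Δp ⥤ TopCat.{u})

local notation "O" => SimplexCategoryᵒᵖ
local notation "sR" => CategoryTheory.Prod.sectR
local notation "sL" => CategoryTheory.Prod.sectL

/-- First step in the second direction. -/
abbrev GridV : Prop :=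
  DescS (bcMor ((𝟭 O).prod toAug) (toAug.prod (𝟭 Δp) ⋙ Zg)).functor
    (bcMor (sL O bot) (toAug.prod (𝟭 Δp) ⋙ Zg)).functor (jt _) (jt _) (jt _)
/-- The first step in the other direction can be checked on lines. -/
theorem gridV_of_lines
    (h : ∀ n : O, Desc toAug bot (sR (toAug.obj n) Δp ⋙ Zg)) : GridV Zg := by
  let W := toAug.prod (𝟭 Δp) ⋙ Zg
  refine descS_of_lines ((𝟭 O).prod toAug) (sL O bot) toAug bot W (fun n => sR n Δp)
    (fun n => bcMor (sR n O) ((𝟭 O).prod toAug ⋙ W))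
    (fun n => bcMor (ptF n) (sL O bot ⋙ W))
    (fun n => Iso.refl _) (fun n => Iso.refl _)
    (fun n i x => map_id_apply (Y := W) _ x) (fun n i x => map_id_apply (Y := W) _ x)
    (fun n k => ?_) (fun n t => ?_) (fun n => ⟨?_⟩) (fun A => ?_) (fun n => ?_)
  · intro m f
    refine ⟨m.2, (f.1, 𝟙 m.2), f.2, ?_, fun n₁ h₁ g₁ e₁ => Or.inl ⟨h₁.2, ?_, ?_⟩⟩
    · refine Prod.ext ?_ ?_
      · change f.1 ≫ 𝟙 _ ≫ 𝟙 n = f.1
        exact (congrArg (f.1 ≫ ·) (Category.id_comp _)).trans (Category.comp_id _)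
      · change toAug.map (𝟙 m.2) ≫ 𝟙 _ ≫ f.2 = f.2
        rw [toAug.map_id]
        exact (Category.id_comp _).trans (Category.id_comp _)
    · refine Prod.ext ?_ (Category.id_comp _)
      have := congrArg Prod.fst e₁
      change h₁.1 ≫ 𝟙 _ ≫ 𝟙 n = f.1 at this
      change f.1 ≫ 𝟙 n = h₁.1
      exact (Category.comp_id _).trans (this.symm.trans
        ((congrArg (h₁.1 ≫ ·) (Category.id_comp _)).trans (Category.comp_id _)))
    · have := congrArg Prod.snd e₁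
      change toAug.map h₁.2 ≫ 𝟙 _ ≫ g₁ = f.2 at this
      exact (whisker_eq _ (Category.id_comp g₁).symm).trans this
  · intro a f
    refine ⟨⟨⟨⟩⟩, toBot a, f.1, ?_, fun n₁ h₁ g₁ e₁ => Or.inl ⟨𝟙 _, ?_, ?_⟩⟩
    · refine Prod.ext ?_ ?_
      · change 𝟙 n ≫ 𝟙 _ ≫ f.1 = f.1
        simp
      · exact Quiver.Hom.unop_inj (WithInitial.starInitial.hom_ext _ _)
    · exact Quiver.Hom.unop_inj (WithInitial.starInitial.hom_ext _ _)
    · have := congrArg Prod.fst e₁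
      change 𝟙 n ≫ 𝟙 _ ≫ g₁ = f.1 at this
      change 𝟙 n ≫ g₁ = f.1
      exact (whisker_eq _ (Category.id_comp g₁).symm).trans this
  · exact
    { κ := fun k => k.1 ⟶ n
      obj := fun {k} _ => k.2
      hom := fun {k} a => (a, 𝟙 k.2)
      exists_fac := fun {k i} b => ⟨b.1, b.2, Prod.ext (Category.comp_id _) (Category.id_comp _)⟩
      eq_of_fac := fun {k i a a'} g g' e =>
        (Category.comp_id a).symm.trans ((congrArg Prod.fst e).trans (Category.comp_id a'))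
      hom_ext := fun g g' e => (Category.id_comp g).symm.trans
        ((congrArg Prod.snd e).trans (Category.id_comp g')) }
  · obtain ⟨n, U⟩ := A
    refine ⟨n, pt ⟨⟨⟩⟩ U, ⟨eqToIso ?_⟩⟩
    change pt (Y := sL O bot ⋙ W) n U =
      pt (Y := sL O bot ⋙ W) n ((bcMor (ptF n) (sL O bot ⋙ W)).img ⟨⟨⟩⟩ U)
    rw [img_bcMor]
  · exact h n

/-- A line of the bisimplicial space, seen over the partially augmented space. -/
noncomputable def aVG : Tot (sL O bot ⋙ toAug.prod (𝟭 Δp) ⋙ Zg) ⥤ Tot (sL Δp bot ⋙ Zg) :=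
  (bcMor toAug (sL Δp bot ⋙ Zg)).functor

/-- The base change used to compose in the second direction. -/
noncomputable def wVG :
    (bcMor (sL O bot) (toAug.prod (𝟭 Δp) ⋙ Zg)).functor ⋙
        (bcMor (toAug.prod (𝟭 Δp)) Zg).functor ≅
      aVG Zg ⋙ (bcMor (sL Δp bot) Zg).functor :=
  sqW (bcMor (toAug.prod (𝟭 Δp)) Zg) (bcMor toAug (sL Δp bot ⋙ Zg))
    (bcMor (sL O bot) (toAug.prod (𝟭 Δp) ⋙ Zg)) (bcMor (sL Δp bot) Zg)
    (Iso.refl _) (fun i x => map_id_apply (Y := Zg) _ x)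

instance instVIsContinuousG : (aVG Zg).IsContinuous (jt (sL O bot ⋙ toAug.prod (𝟭 Δp) ⋙ Zg)) (jt (sL Δp bot ⋙ Zg)) :=
  inferInstanceAs ((bcMor toAug (sL Δp bot ⋙ Zg)).functor.IsContinuous
    (jt (toAug ⋙ sL Δp bot ⋙ Zg)) (jt (sL Δp bot ⋙ Zg)))

instance instVIsCocontinuousG : (aVG Zg).IsCocontinuous (jt (sL O bot ⋙ toAug.prod (𝟭 Δp) ⋙ Zg)) (jt (sL Δp bot ⋙ Zg)) :=
  inferInstanceAs ((bcMor toAug (sL Δp bot ⋙ Zg)).functor.IsCocontinuous
    (jt (toAug ⋙ sL Δp bot ⋙ Zg)) (jt (sL Δp bot ⋙ Zg)))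

lemma isIso_wVG : IsIso (βR (wVG Zg) (jt _) (jt _) (jt _) (jt _)) := by
  refine isIso_βR _ _ _ _ _ fun d' => post_initial _ _ _ _ _ _
    (cart_of_surjective (bcMor (toAug.prod (𝟭 Δp)) Zg) (bcMor toAug (sL Δp bot ⋙ Zg))
      (bcMor (sL O bot) (toAug.prod (𝟭 Δp) ⋙ Zg)) (bcMor (sL Δp bot) Zg) (Iso.refl _)
      (fun i x => map_id_apply (Y := Zg) _ x) (bcMor_surjective toAug _)) d' ?_
  intro m f
  refine ⟨m.1, (𝟙 m.1, toBot m.2), f.1, ?_, fun n₁ h₁ g₁ e₁ => Or.inl ⟨h₁.1, ?_, ?_⟩⟩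
  · refine Prod.ext ?_ (Quiver.Hom.unop_inj (WithInitial.starInitial.hom_ext _ _))
    change toAug.map (𝟙 m.1) ≫ 𝟙 _ ≫ f.1 = f.1
    rw [toAug.map_id]
    exact (Category.id_comp _).trans (Category.id_comp _)
  · exact Prod.ext (Category.id_comp _) (Quiver.Hom.unop_inj (WithInitial.starInitial.hom_ext _ _))
  · have := congrArg Prod.fst e₁
    change toAug.map h₁.1 ≫ 𝟙 _ ≫ g₁ = f.1 at this
    exact (whisker_eq _ (Category.id_comp g₁).symm).trans this

lemma pfl_descVG : PreservesFiniteLimits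
    (pl (bcMor ((𝟭 O).prod toAug) (toAug.prod (𝟭 Δp) ⋙ Zg)).functor
      (bcMor (sL O bot) (toAug.prod (𝟭 Δp) ⋙ Zg)).functor (jt _) (jt _) (jt _)) := by
  have := (bcMor (sL O bot) (toAug.prod (𝟭 Δp) ⋙ Zg)).preservesFiniteLimits_Ls multiInitSectL
  exact comp_preservesFiniteLimits _ _


/-- Descent of the grid from descent of the line through the base and of the other lines. -/
theorem descGrid (h0 : Desc toAug bot (sL Δp bot ⋙ Zg))
    (h : ∀ n : O, Desc toAug bot (sR (toAug.obj n) Δp ⋙ Zg)) :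
    Desc φZ ((bot, bot) : Δp × Δp) Zg := by
  have := pfl_descVG Zg
  exact descS_of_steps (wVG Zg) (bcCompIso ((𝟭 O).prod toAug) (toAug.prod (𝟭 Δp)) Zg)
    (bcCompIso (ptF bot) (sL Δp bot) Zg) (jt _) (jt _) (jt _) (jt _) (jt _) (jt _)
    (isIso_wVG Zg) h0 (gridV_of_lines Zg h)

end Groth.Agent.FibDescLib
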