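import Groth.Agent.FibDescLib.Formal

/-!
# Operations on adjunctions satisfying descent
-/

universe v₁ v₂ v₃ v₄ u₁ u₂ u₃ u₄

open CategoryTheory CategoryTheory.Limits

namespace Groth.Agent.FibDescLib

open Groth.Agent.CohDerLib.Acyclic

section Comp

variable {E : Type u₁} [Category.{v₁} E] [Abelian E] [HasInjectiveResolutions E]
  {D : Type u₁} [Category.{v₁} D] [Abelian D] [HasInjectiveResolutions D]
  {C : Type u₁} [Category.{v₁} C] [Abelian C]
  (G : E ⥤ D) [G.Additive] [PreservesFiniteLimits G] [G.PreservesInjectiveObjects]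
  (F : D ⥤ C) [F.Additive]

/-- A left exact functor preserving injectives carries an injective resolution of an acyclic
object to an injective resolution. -/
noncomputable def mapAcyRes {K : E} (R : InjectiveResolution K) (hK : Acy G K) :
    InjectiveResolution (G.obj K) where
  cocomplex := (G.mapHomologicalComplex _).obj R.cocomplex
  injective n := G.injective_obj (R.cocomplex.X n)
  ι := RDer.mapAug G R.ι
  quasiIso := ⟨fun n => by
    cases n with
    | zero =>
      rw [CochainComplex.quasiIsoAt₀_iff, ShortComplex.quasiIso_iff_of_zeros]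
      rotate_left
      · exact ((CochainComplex.single₀ D).obj (G.obj K)).shape _ _ (by simp)
      · rfl
      · exact ((G.mapHomologicalComplex _).obj R.cocomplex).shape _ _ (by simp)
      have h : (ShortComplex.mk (R.ι.f 0) (R.cocomplex.d 0 1)
          R.ι_f_zero_comp_complex_d).Exact ∧ Mono (R.ι.f 0) :=
        ⟨R.exact₀, _root_.RDer.res_mono R.cocomplex R.ι⟩
      obtain ⟨h₁, h₂⟩ := h
      have hk := KernelFork.mapIsLimit _
        (haveI := h₂; h₁.fIsKernel) G
      have hmono : Mono (G.map (R.ι.f 0)) := inferInstance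
      have hex : (ShortComplex.mk (G.map (R.ι.f 0)) (G.map (R.cocomplex.d 0 1))
          ((G.map_comp _ _).symm.trans ((congrArg G.map R.ι_f_zero_comp_complex_d).trans (G.map_zero _ _)))).Exact :=
        ShortComplex.exact_of_f_is_kernel _ hk
      have e : (RDer.mapAug G R.ι).f 0 =
          ((HomologicalComplex.singleMapHomologicalComplex G (ComplexShape.up ℕ) 0).inv.app K).f 0 ≫
            G.map (R.ι.f 0) := rfl
      let κ : ((CochainComplex.single₀ D).obj (G.obj K)).X 0 ≅
          G.obj (((CochainComplex.single₀ E).obj K).X 0) :=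
        (HomologicalComplex.eval D (ComplexShape.up ℕ) 0).mapIso
          ((HomologicalComplex.singleMapHomologicalComplex G (ComplexShape.up ℕ) 0).app K).symm
      have e' : κ.hom ≫ G.map (R.ι.f 0) = (RDer.mapAug G R.ι).f 0 := e.symm
      have w : (RDer.mapAug G R.ι).f 0 ≫ G.map (R.cocomplex.d 0 1) = 0 := by
        rw [← e']
        refine (Category.assoc _ _ _).trans ?_
        exact (congrArg (κ.hom ≫ ·) ((G.map_comp _ _).symm.trans
          ((congrArg G.map R.ι_f_zero_comp_complex_d).trans (G.map_zero _ _)))).trans comp_zero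
      refine ⟨?_, ?_⟩
      · change (ShortComplex.mk ((RDer.mapAug G R.ι).f 0) (G.map (R.cocomplex.d 0 1)) w).Exact
        refine ShortComplex.exact_of_iso ?_ hex
        refine ShortComplex.isoMk κ.symm (Iso.refl _) (Iso.refl _) ?_ ?_
        · change κ.inv ≫ (RDer.mapAug G R.ι).f 0 = G.map (R.ι.f 0) ≫ 𝟙 _
          exact ((Iso.inv_comp_eq κ).2 e'.symm).trans (Category.comp_id _).symm
        · exact (Category.id_comp _).trans (Category.comp_id _).symm
      · change Mono ((RDer.mapAug G R.ι).f 0)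
        rw [← e']
        exact mono_comp κ.hom (G.map (R.ι.f 0))
    | succ n =>
      rw [quasiIsoAt_iff_exactAt (hK := CochainComplex.exactAt_succ_single_obj _ _)]
      rw [HomologicalComplex.exactAt_iff_isZero_homology]
      exact (hK (n + 1) n.succ_pos).of_iso (R.isoRightDerivedObj G (n + 1)).symm⟩

/-- `R^k (G ⋙ F) = R^k F ∘ G` at `G`-acyclic objects. -/
noncomputable def rightDerivedAtAcyIso {K : E} (hK : Acy G K) (k : ℕ) :
    ((G ⋙ F).rightDerived k).obj K ≅ (F.rightDerived k).obj (G.obj K) :=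
  (injectiveResolution K).isoRightDerivedObj (G ⋙ F) k ≪≫
    ((mapAcyRes G (injectiveResolution K) hK).isoRightDerivedObj F k).symm

end Comp

section Ops

variable {C : Type u₁} [Category.{v₁} C] [Abelian C]
  {D : Type u₁} [Category.{v₁} D] [Abelian D] [HasInjectiveResolutions D]
  {E : Type u₁} [Category.{v₁} E] [Abelian E] [HasInjectiveResolutions E]
  {p₁ : C ⥤ D} {q₁ : D ⥤ C} {adj₁ : p₁ ⊣ q₁} {p₂ : D ⥤ E} {q₂ : E ⥤ D} {adj₂ : p₂ ⊣ q₂}
  [p₁.Additive] [q₁.Additive] [p₂.Additive] [q₂.Additive]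
  [PreservesFiniteLimits p₂]

include adj₂ in
lemma preservesFiniteLimits_right [PreservesFiniteLimits p₂] : PreservesFiniteLimits q₂ := by
  have : q₂.IsRightAdjoint := adj₂.isRightAdjoint
  exact ⟨fun J _ _ => inferInstance⟩

lemma isZero_iff_comp (h₂ : DescAdj adj₂) (X : C) (k : ℕ) (hk : 0 < k) :
    IsZero (((q₂ ⋙ q₁).rightDerived k).obj ((p₁ ⋙ p₂).obj X)) ↔
      IsZero ((q₁.rightDerived k).obj (p₁.obj X)) := by
  have := preservesFiniteLimits_right (adj₂ := adj₂)
  have := preservesInjectiveObjects_right adj₂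
  have := h₂.isIso_unit
  exact Iso.isZero_iff (rightDerivedAtAcyIso q₂ q₁ (h₂.acy (p₁.obj X)) k ≪≫
    (q₁.rightDerived k).mapIso (asIso (adj₂.unit.app (p₁.obj X))).symm)

/-- Composition. -/
theorem DescAdj.comp (h₁ : DescAdj adj₁) (h₂ : DescAdj adj₂) : DescAdj (adj₁.comp adj₂) where
  isIso_unit := by
    have := h₁.isIso_unit
    have := h₂.isIso_unit
    rw [NatTrans.isIso_iff_isIso_app]
    intro X
    rw [Adjunction.comp_unit_app]
    infer_instance
  acy X k hk := (isZero_iff_comp h₂ X k hk).2 (h₁.acy X k hk)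

/-- Cancellation. -/
theorem DescAdj.cancel (h : DescAdj (adj₁.comp adj₂)) (h₂ : DescAdj adj₂) : DescAdj adj₁ where
  isIso_unit := by
    have := h.isIso_unit
    have := h₂.isIso_unit
    rw [NatTrans.isIso_iff_isIso_app]
    intro X
    have : IsIso (adj₁.unit.app X ≫ q₁.map (adj₂.unit.app (p₁.obj X))) := by
      have hc : IsIso ((adj₁.comp adj₂).unit.app X) := inferInstance
      rw [Adjunction.comp_unit_app] at hc
      exact hc
    exact IsIso.of_isIso_comp_right _ (q₁.map (adj₂.unit.app (p₁.obj X)))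
  acy X k hk := (isZero_iff_comp h₂ X k hk).1 (h.acy X k hk)

end Ops

section Congr

variable {C : Type u₁} [Category.{v₁} C] [Abelian C]
  {E : Type u₁} [Category.{v₁} E] [Abelian E] [HasInjectiveResolutions E]

/-- Invariance under an isomorphism of the left adjoints. -/
theorem DescAdj.congr {p p' : C ⥤ E} {q q' : E ⥤ C} [p.Additive] [p'.Additive] [q.Additive]
    [q'.Additive] {adj : p ⊣ q} {adj' : p' ⊣ q'} (e : p ≅ p') (h : DescAdj adj) :
    DescAdj adj' := by
  have := h.isIso_unit
  have ff : p.FullyFaithful := adj.fullyFaithfulLOfIsIsoUnit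
  have := (ff.ofIso e).full
  have := (ff.ofIso e).faithful
  refine ⟨inferInstance, fun X k hk => ?_⟩
  refine ((h.acy X k hk).of_iso ?_)
  exact (Groth.Agent.BigBC.rightDerivedCongr ((adj.ofNatIsoLeft e).rightAdjointUniq adj') k).symm.app
    _ ≪≫ (q.rightDerived k).mapIso (e.app X).symm

/-- Invariance under an isomorphism of the right adjoints. -/
theorem DescAdj.congrRight {p p' : C ⥤ E} {q q' : E ⥤ C} [p.Additive] [p'.Additive] [q.Additive]
    [q'.Additive] {adj : p ⊣ q} {adj' : p' ⊣ q'} (e : q ≅ q') (h : DescAdj adj) :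
    DescAdj adj' :=
  DescAdj.congr ((adj.ofNatIsoRight e).leftAdjointUniq adj') h

end Congr

section Local

variable {C : Type u₁} [Category.{v₁} C] [Abelian C]
  {E : Type u₁} [Category.{v₁} E] [Abelian E] [HasInjectiveResolutions E]
  {p : C ⥤ E} {q : E ⥤ C} (adj : p ⊣ q) [p.Additive] [q.Additive]
  {ι : Type*} {C' : ι → Type u₁} [∀ i, Category.{v₁} (C' i)] [∀ i, Abelian (C' i)]
  {E' : ι → Type u₁} [∀ i, Category.{v₁} (E' i)] [∀ i, Abelian (E' i)]
  [∀ i, HasInjectiveResolutions (E' i)]
  {p' : ∀ i, C' i ⥤ E' i} {q' : ∀ i, E' i ⥤ C' i} (adj' : ∀ i, p' i ⊣ q' i)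
  [∀ i, (p' i).Additive] [∀ i, (q' i).Additive]
  (a : ∀ i, C ⥤ C' i) (b : ∀ i, E ⥤ E' i)
  [∀ i, (a i).Additive] [∀ i, (b i).Additive]
  [∀ i, PreservesFiniteLimits (a i)] [∀ i, PreservesFiniteColimits (a i)]
  [∀ i, PreservesFiniteLimits (b i)] [∀ i, PreservesFiniteColimits (b i)]
  [∀ i, (b i).PreservesInjectiveObjects]

/-- Descent can be checked after exact, jointly conservative restrictions compatible with both
adjoints. -/
theorem DescAdj.of_local (ha : ∀ {X Y : C} (f : X ⟶ Y), (∀ i, IsIso ((a i).map f)) → IsIso f)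
    (M : ∀ i, TwoSquare (a i) p (p' i) (b i)) (hM : ∀ i, IsIso (M i).natTrans)
    (hβ : ∀ i, IsIso (mateEquiv adj (adj' i) (M i)).natTrans)
    (h : ∀ i, DescAdj (adj' i)) : DescAdj adj where
  isIso_unit := by
    rw [NatTrans.isIso_iff_isIso_app]
    intro X
    refine ha _ fun i => ?_
    have := (h i).isIso_unit
    have := hM i
    have := hβ i
    have e := unit_mateEquiv adj (adj' i) (M i) X
    have : IsIso ((a i).map (adj.unit.app X) ≫
        (mateEquiv adj (adj' i) (M i)).natTrans.app (p.obj X)) := by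
      erw [e]
      exact inferInstanceAs (IsIso ((adj' i).unit.app ((a i).obj X) ≫
        (q' i).map ((M i).natTrans.app X)))
    exact IsIso.of_isIso_comp_right _ ((mateEquiv adj (adj' i) (M i)).natTrans.app (p.obj X))
  acy X k hk := by
    rw [IsZero.iff_id_eq_zero]
    have hz : ∀ i, IsZero ((a i).obj ((q.rightDerived k).obj (p.obj X))) := fun i => by
      have := hM i
      have := hβ i
      refine IsZero.of_iso ((h i).acy ((a i).obj X) k hk) ?_
      exact (DerFun.rightDerivedPostIso (a i) q k (p.obj X)).symm ≪≫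
        (Groth.Agent.BigBC.rightDerivedCongr
          (asIso (mateEquiv adj (adj' i) (M i)).natTrans) k).app (p.obj X) ≪≫
        DerFun.rightDerivedCompIso (b i) (q' i) k (p.obj X) ≪≫
        ((q' i).rightDerived k).mapIso (asIso ((M i).natTrans.app X)).symm
    have : IsIso (0 : (q.rightDerived k).obj (p.obj X) ⟶ (q.rightDerived k).obj (p.obj X)) :=
      ha _ fun i => ⟨0, (hz i).eq_of_src _ _, (hz i).eq_of_src _ _⟩
    exact (isIsoZeroEquiv _ _ this).1

end Local

end Groth.Agent.FibDescLib
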