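import Groth.Agent.FibDescLib.SiteBC
import Mathlib

/-!
# Exactness of extension along a componentwise flat functor of small sites

If the comma categories of a functor `T` between small sites decompose into pieces which are empty
or cofiltered, the left adjoint of restriction on abelian sheaves is exact, so restriction
preserves injectives.
-/

universe u

open CategoryTheory CategoryTheory.Limits Functor Opposite

namespace Groth.Agent.FibDescLib

/-- A functor to a discrete category all of whose fibres are empty or filtered makes `colim` exact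
on abelian groups. -/
theorem preservesFiniteLimits_colim_of_fibres {K : Type u} [Category.{u} K] {κ : Type u}
    (π : K ⥤ Discrete κ) (h : ∀ a, IsFilteredOrEmpty (CostructuredArrow π a)) :
    PreservesFiniteLimits (colim : (K ⥤ AddCommGrpCat.{u}) ⥤ AddCommGrpCat.{u}) := by
  have hlan : PreservesFiniteLimits (π.lan : (K ⥤ AddCommGrpCat.{u}) ⥤ _) := by
    apply preservesFiniteLimits_of_preservesFiniteLimitsOfSize.{u}
    intro J _ _
    apply preservesLimitsOfShape_of_evaluation (π.lan : (K ⥤ AddCommGrpCat.{u}) ⥤ _) J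
    intro a
    have := h a
    have : PreservesLimitsOfShape J
        (colim : (CostructuredArrow π a ⥤ AddCommGrpCat.{u}) ⥤ AddCommGrpCat.{u}) := by
      by_cases hne : Nonempty (CostructuredArrow π a)
      · have : IsFiltered (CostructuredArrow π a) := ⟨⟩
        infer_instance
      · have : IsEmpty (CostructuredArrow π a) := not_nonempty_iff.1 hne
        refine Functor.preservesLimitsOfShape_of_isZero _ ?_ J
        exact (Functor.isZero_iff _).2 fun G => (IsZero.iff_id_eq_zero _).2
          (colimit.hom_ext fun j => isEmptyElim j)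
    exact preservesLimitsOfShape_of_natIso (lanEvaluationIsoColim _ π a).symm
  have e : (π.lan ⋙ colim : (K ⥤ AddCommGrpCat.{u}) ⥤ AddCommGrpCat.{u}) ≅ colim :=
    (((π.lanAdjunction AddCommGrpCat.{u}).comp colimConstAdj).ofNatIsoRight
      (NatIso.ofComponents fun X => Iso.refl _)).leftAdjointUniq colimConstAdj
  exact preservesFiniteLimits_of_natIso e

variable {C D : Type u} [Category.{u} C] [Category.{u} D]

/-- A decomposition of the comma categories of `T` into pieces which are empty or cofiltered. -/
structure CompFlat (T : C ⥤ D) where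
  /-- index of the pieces -/
  κ : D → Type u
  /-- the piece of an object -/
  idx : ∀ {d : D} {x : C}, (d ⟶ T.obj x) → κ d
  idx_comp : ∀ {d : D} {x y : C} (f : d ⟶ T.obj x) (g : x ⟶ y), idx (f ≫ T.map g) = idx f
  bound : ∀ {d : D} {x y : C} (f : d ⟶ T.obj x) (g : d ⟶ T.obj y), idx f = idx g →
    ∃ (z : C) (h : d ⟶ T.obj z) (p : z ⟶ x) (q : z ⟶ y), h ≫ T.map p = f ∧ h ≫ T.map q = g
  equalize : ∀ {d : D} {x y : C} (f : d ⟶ T.obj x) (g g' : x ⟶ y), f ≫ T.map g = f ≫ T.map g' →
    ∃ (z : C) (h : d ⟶ T.obj z) (k : z ⟶ x), h ≫ T.map k = f ∧ k ≫ g = k ≫ g'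

variable {T : C ⥤ D} (hT : CompFlat T)

/-- The decomposition, as a functor. -/
def CompFlat.π (d : D) : CostructuredArrow T.op (op d) ⥤ Discrete (hT.κ d) where
  obj X := ⟨hT.idx X.hom.unop⟩
  map {X Y} φ := eqToHom (congrArg Discrete.mk (by
    have hw : Y.hom.unop ≫ T.map φ.left.unop = X.hom.unop :=
      congrArg Quiver.Hom.unop (CostructuredArrow.w φ)
    rw [← hw, hT.idx_comp]))

include hT in
theorem CompFlat.isFilteredOrEmpty (d : D) (a : Discrete (hT.κ d)) :
    IsFilteredOrEmpty (CostructuredArrow (hT.π d) a) where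
  cocone_objs X Y := by
    have hX : hT.idx X.left.hom.unop = a.as := Discrete.eq_of_hom X.hom
    have hY : hT.idx Y.left.hom.unop = a.as := Discrete.eq_of_hom Y.hom
    obtain ⟨z, h, p, q, hp, hq⟩ := hT.bound X.left.hom.unop Y.left.hom.unop (hX.trans hY.symm)
    have hz : hT.idx h = a.as := by rw [← hT.idx_comp h p, hp, hX]
    let Z : CostructuredArrow T.op (op d) := CostructuredArrow.mk (Y := op z) h.op
    refine ⟨CostructuredArrow.mk (Y := Z) (S := hT.π d) (eqToHom (Discrete.ext hz)),
      CostructuredArrow.homMk (CostructuredArrow.homMk p.op (Quiver.Hom.unop_inj hp))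
        (Subsingleton.elim _ _),
      CostructuredArrow.homMk (CostructuredArrow.homMk q.op (Quiver.Hom.unop_inj hq))
        (Subsingleton.elim _ _), trivial⟩
  cocone_maps X Y φ ψ := by
    have hY : hT.idx Y.left.hom.unop = a.as := Discrete.eq_of_hom Y.hom
    have hφ : Y.left.hom.unop ≫ T.map φ.left.left.unop = X.left.hom.unop :=
      congrArg Quiver.Hom.unop (CostructuredArrow.w φ.left)
    have hψ : Y.left.hom.unop ≫ T.map ψ.left.left.unop = X.left.hom.unop :=
      congrArg Quiver.Hom.unop (CostructuredArrow.w ψ.left)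
    obtain ⟨z, h, k, hk, hk'⟩ := hT.equalize Y.left.hom.unop _ _ (hφ.trans hψ.symm)
    have hz : hT.idx h = a.as := by rw [← hT.idx_comp h k, hk, hY]
    let Z : CostructuredArrow T.op (op d) := CostructuredArrow.mk (Y := op z) h.op
    refine ⟨CostructuredArrow.mk (Y := Z) (S := hT.π d) (eqToHom (Discrete.ext hz)),
      CostructuredArrow.homMk (CostructuredArrow.homMk k.op (Quiver.Hom.unop_inj hk))
        (Subsingleton.elim _ _), ?_⟩
    ext
    exact Quiver.Hom.unop_inj hk'

include hT in
/-- Presheaf extension along `T` is left exact. -/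
theorem CompFlat.preservesFiniteLimits_lan :
    PreservesFiniteLimits (T.op.lan : (Cᵒᵖ ⥤ AddCommGrpCat.{u}) ⥤ _) := by
  apply preservesFiniteLimits_of_preservesFiniteLimitsOfSize.{u}
  intro J _ _
  apply preservesLimitsOfShape_of_evaluation (T.op.lan : (Cᵒᵖ ⥤ AddCommGrpCat.{u}) ⥤ _) J
  intro d
  have := preservesFiniteLimits_colim_of_fibres (hT.π d.unop) (hT.isFilteredOrEmpty d.unop)
  have : PreservesLimitsOfShape J
      (colim : (CostructuredArrow T.op d ⥤ AddCommGrpCat.{u}) ⥤ AddCommGrpCat.{u}) :=
    inferInstanceAs (PreservesLimitsOfShape J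
      (colim : (CostructuredArrow T.op (op d.unop) ⥤ AddCommGrpCat.{u}) ⥤ AddCommGrpCat.{u}))
  exact preservesLimitsOfShape_of_natIso (lanEvaluationIsoColim _ _ _).symm

variable (J : GrothendieckTopology C) (K : GrothendieckTopology D) [T.IsContinuous J K]

include hT in
/-- Extension along `T` is left exact. -/
theorem CompFlat.preservesFiniteLimits_Ls : PreservesFiniteLimits (Ls T J K) := by
  have := hT.preservesFiniteLimits_lan
  have : PreservesFiniteLimits ((T.op.lan : (Cᵒᵖ ⥤ AddCommGrpCat.{u}) ⥤ _) ⋙
      presheafToSheaf K AddCommGrpCat.{u}) := comp_preservesFiniteLimits _ _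
  have : PreservesFiniteLimits (sheafPullbackConstruction.sheafPullback T AddCommGrpCat.{u} J K) :=
    comp_preservesFiniteLimits _ _
  exact preservesFiniteLimits_of_natIso
    (sheafPullbackConstruction.sheafPullbackIso T AddCommGrpCat.{u} J K).symm

include hT in
/-- Restriction along `T` preserves injectives. -/
theorem CompFlat.preservesInjectiveObjects_rs : (rs T J K).PreservesInjectiveObjects := by
  have := hT.preservesFiniteLimits_Ls J K
  exact Functor.preservesInjectiveObjects_of_adjunction_of_preservesMonomorphisms (adjL T J K)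

end Groth.Agent.FibDescLib
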