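import Groth.Agent.FibDescLib.SiteBC
import Groth.Agent.FibDescLib.InjPres
import Groth.Agent.FibDescLib.Formal2

/-!
# Descent along a cospan of small sites

For functors of sites `a : C ⥤ D` and `b : B ⥤ D` the adjunction `pl ⊣ pr` with
`pl = rs a ∘ Ls b` and `pr = rs b ∘ Rs a` is the abstract form of the adjunction `θ^* ⊣ θ_*`.
-/

universe u

open CategoryTheory CategoryTheory.Limits Functor Opposite
open scoped CategoryTheory.TwoSquare

namespace Groth.Agent.FibDescLib

variable {B C D : Type u} [Category.{u} B] [Category.{u} C] [Category.{u} D]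
  (a : C ⥤ D) (b : B ⥤ D)
  (JB : GrothendieckTopology B) (JC : GrothendieckTopology C) (JD : GrothendieckTopology D)
  [a.IsContinuous JC JD] [b.IsContinuous JB JD]

instance rs_preservesFiniteLimits : PreservesFiniteLimits (rs b JB JD) := by
  have : (rs b JB JD).IsRightAdjoint := (adjL b JB JD).isRightAdjoint
  exact ⟨fun J _ _ => inferInstance⟩

instance rs_preservesFiniteColimits [b.IsCocontinuous JB JD] :
    PreservesFiniteColimits (rs b JB JD) := by
  have : (rs b JB JD).IsLeftAdjoint := (adjR b JB JD).isLeftAdjoint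
  exact ⟨fun J _ _ => inferInstance⟩

instance rs_additive : (rs b JB JD).Additive :=
  have : PreservesBinaryBiproducts (rs b JB JD) := preservesBinaryBiproducts_of_preservesBinaryProducts _
  Functor.additive_of_preservesBinaryBiproducts _

variable [a.IsCocontinuous JC JD]

/-- The inverse image of the cospan. -/
noncomputable abbrev pl : Sheaf JB AddCommGrpCat.{u} ⥤ Sheaf JC AddCommGrpCat.{u} :=
  Ls b JB JD ⋙ rs a JC JD

/-- The direct image of the cospan. -/
noncomputable abbrev pr : Sheaf JC AddCommGrpCat.{u} ⥤ Sheaf JB AddCommGrpCat.{u} :=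
  Rs a JC JD ⋙ rs b JB JD

/-- The adjunction of the cospan. -/
noncomputable abbrev adjS : pl a b JB JC JD ⊣ pr a b JB JC JD :=
  (adjL b JB JD).comp (adjR a JC JD)

instance Ls_additive : (Ls b JB JD).Additive := by
  have : (Ls b JB JD).IsLeftAdjoint := (adjL b JB JD).isLeftAdjoint
  exact (adjL b JB JD).left_adjoint_additive

instance Rs_additive : (Rs a JC JD).Additive :=
  (adjR a JC JD).right_adjoint_additive

instance pl_additive : (pl a b JB JC JD).Additive := inferInstance

instance pr_additive : (pr a b JB JC JD).Additive := inferInstance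

/-- Descent along the cospan. -/
abbrev DescS : Prop := DescAdj (adjS a b JB JC JD)

section Square

variable {B' C' D' : Type u} [Category.{u} B'] [Category.{u} C'] [Category.{u} D']
  {a' : C' ⥤ D'} {b' : B' ⥤ D'}
  {P : C' ⥤ C} {Pb : B' ⥤ B} {Q : D' ⥤ D}
  {a b} (wa : P ⋙ a ≅ a' ⋙ Q) (wb : Pb ⋙ b ≅ b' ⋙ Q)
  (JB' : GrothendieckTopology B') (JC' : GrothendieckTopology C') (JD' : GrothendieckTopology D')
  [a'.IsContinuous JC' JD'] [b'.IsContinuous JB' JD']
  [a'.IsCocontinuous JC' JD']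
  [P.IsContinuous JC' JC] [Pb.IsContinuous JB' JB] [Q.IsContinuous JD' JD]
  [Pb.IsCocontinuous JB' JB] [Q.IsCocontinuous JD' JD]

/-- Compatibility of the inverse images. -/
noncomputable def sqM : TwoSquare (rs Pb JB' JB) (pl a b JB JC JD) (pl a' b' JB' JC' JD')
    (rs P JC' JC) :=
  (TwoSquare.mk _ _ _ _ (βL wb JB JB' JD JD')) ≫ᵥ (sqCell wa JC JC' JD JD')

theorem isIso_sqM (hb : IsIso (βR wb.symm JD' JB' JD JB)) :
    IsIso (sqM JB JC JD wa wb JB' JC' JD').natTrans := by
  have := isIso_βL wb JB JB' JD JD' hb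
  have : IsIso (sqCell wa JC JC' JD JD').natTrans :=
    inferInstanceAs (IsIso (sqIso wa JC JC' JD JD').hom)
  rw [NatTrans.isIso_iff_isIso_app]
  intro X
  change IsIso (𝟙 _ ≫ (rs a' JC' JD').map ((βL wb JB JB' JD JD').app X) ≫ 𝟙 _ ≫
    (sqCell wa JC JC' JD JD').natTrans.app ((Ls b JB JD).obj X) ≫ 𝟙 _)
  infer_instance

theorem isIso_mate_sqM (ha : IsIso (βR wa JC JC' JD JD')) :
    IsIso (mateEquiv (adjS a b JB JC JD) (adjS a' b' JB' JC' JD')
      (sqM JB JC JD wa wb JB' JC' JD')).natTrans := by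
  have e := mateEquiv_hcomp (adjL b JB JD) (adjL b' JB' JD') (adjR a JC JD) (adjR a' JC' JD')
    (TwoSquare.mk _ _ _ _ (βL wb JB JB' JD JD')) (sqCell wa JC JC' JD JD')
  rw [sqM, e]
  have hm : mateEquiv (adjL b JB JD) (adjL b' JB' JD')
      (TwoSquare.mk _ _ _ _ (βL wb JB JB' JD JD')) =
        TwoSquare.mk (rs b JB JD) (rs Q JD' JD) (rs Pb JB' JB) (rs b' JB' JD')
          (sqIso wb JB JB' JD JD').inv :=
    Equiv.apply_symm_apply _ _
  rw [hm]
  rw [NatTrans.isIso_iff_isIso_app]
  intro X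
  change IsIso (𝟙 _ ≫ (sqIso wb JB JB' JD JD').inv.app ((Rs a JC JD).obj X) ≫ 𝟙 _ ≫
    (rs b' JB' JD').map ((βR wa JC JC' JD JD').app X) ≫ 𝟙 _)
  infer_instance

end Square

end Groth.Agent.FibDescLib
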