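import Groth.Agent.FibDescLib.SpaceSq
import Groth.Agent.FibDescLib.SiteDesc

/-!
# Initiality of comparison functors through connected categories of factorisations
-/

universe u

open CategoryTheory CategoryTheory.Limits Opposite TopologicalSpace

namespace Groth.Agent.FibDescLib

variable {Sc Sd Sc' Sd' : Type} [Category.{0} Sc] [Category.{0} Sd] [Category.{0} Sc']
  [Category.{0} Sd']
  {Yc : Sc ⥤ TopCat.{u}} {Yd : Sd ⥤ TopCat.{u}} {Yc' : Sc' ⥤ TopCat.{u}} {Yd' : Sd' ⥤ TopCat.{u}}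
  (a : Mor Yc Yd) (a' : Mor Yc' Yd') (P : Mor Yc' Yc) (Q : Mor Yd' Yd)
  (σ : P.ψ ⋙ a.ψ ≅ a'.ψ ⋙ Q.ψ)
  (he : ∀ (i : Sc') (x : Yc'.obj i),
    Yd.map (σ.hom.app i) (a.e.app (P.ψ.obj i) (P.e.app i x)) =
      Q.e.app (a'.ψ.obj i) (a'.e.app i x))

/-- A factorisation of a map on indices. -/
structure SqFac (k : Sd') (n : Sc) (f : a.ψ.obj n ⟶ Q.ψ.obj k) where
  /-- the middle index -/
  idx : Sc'
  /-- the first map -/
  h : n ⟶ P.ψ.obj idx
  /-- the second map -/
  g : a'.ψ.obj idx ⟶ k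
  eq : a.ψ.map h ≫ σ.hom.app idx ≫ Q.ψ.map g = f

/-- Elementary moves between factorisations. -/
def SqFac.Step {k : Sd'} {n : Sc} {f : a.ψ.obj n ⟶ Q.ψ.obj k}
    (X Y : SqFac a a' P Q σ k n f) : Prop :=
  ∃ m : X.idx ⟶ Y.idx, X.h ≫ P.ψ.map m = Y.h ∧ a'.ψ.map m ≫ Y.g = X.g

/-- Factorisations exist and are connected. -/
def SqConn (k : Sd') : Prop :=
  ∀ (n : Sc) (f : a.ψ.obj n ⟶ Q.ψ.obj k), ∃ X₀ : SqFac a a' P Q σ k n f,
    ∀ X, Relation.EqvGen (SqFac.Step a a' P Q σ) X₀ X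

include he in
/-- The comparison of comma categories is initial. -/
theorem post_initial' (hz : ∀ (i : Sc') (y : Yc.obj (P.ψ.obj i)),
      Yd.map (σ.hom.app i) (a.e.app (P.ψ.obj i) y) ∈ Set.range (Q.e.app (a'.ψ.obj i)) →
        y ∈ Set.range (P.e.app i))
    (d' : Tot Yd') (H : SqConn a a' P Q σ d'.base) :
    (post (sqW a a' P Q σ he) d').Initial := by
  refine initial_of_zigzag _ fun X => ?_
  let c := X.right.unop
  let f : a.functor.obj c ⟶ Q.functor.obj d' := X.hom.unop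
  let top : ∀ {n₁ : Sc'} (_ : a'.ψ.obj n₁ ⟶ d'.base), Opens (Yc'.obj n₁) := fun {n₁} g₁ =>
    (Opens.map (a'.e.app n₁)).obj ((Opens.map (Yd'.map g₁)).obj (opn d'))
  have hh : ∀ (F : SqFac a a' P Q σ d'.base c.base f.base), ∀ x ∈ opn c,
      Yc.map F.h x ∈ opn (P.functor.obj (pt F.idx (top F.g))) := by
    intro F x hx
    obtain ⟨u, hu', hue⟩ := hom_mem f (a.e.app c.base x) ⟨x, hx, rfl⟩
    let y := Yd.map (σ.hom.app F.idx) (a.e.app (P.ψ.obj F.idx) (Yc.map F.h x))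
    have hy : Yd.map (Q.ψ.map F.g) y = Q.e.app d'.base u := by
      rw [hue]
      show _ = Yd.map f.base (a.e.app c.base x)
      refine Eq.trans ?_ (congrArg (fun (φ : a.ψ.obj c.base ⟶ Q.ψ.obj d'.base) =>
        Yd.map φ (a.e.app c.base x)) F.eq)
      refine Eq.trans ?_ (map_comp_apply (Y := Yd) _ _ _).symm
      refine Eq.trans ?_ (map_comp_apply (Y := Yd) _ _ _).symm
      exact congrArg (fun w => Yd.map (Q.ψ.map F.g) (Yd.map (σ.hom.app F.idx) w))
        (a.nat_apply F.h x).symm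
    obtain ⟨z', hz'⟩ := hz F.idx (Yc.map F.h x) (Q.cart F.g y ⟨u, hy.symm⟩)
    refine ⟨z', ?_, hz'⟩
    show Yd'.map F.g (a'.e.app F.idx z') ∈ opn d'
    have hy' : y = Q.e.app (a'.ψ.obj F.idx) (a'.e.app F.idx z') := by
      rw [← he F.idx z', hz']
    rw [hy', Q.nat_apply] at hy
    rw [(Q.isOpenEmbedding _).injective hy]
    exact hu'
  let Z : ∀ {n₁ : Sc'} (g₁ : a'.ψ.obj n₁ ⟶ d'.base), StructuredArrow (op d') a'.functor.op :=
    fun {n₁} g₁ => StructuredArrow.mk (Y := op (pt n₁ (top g₁)))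
      (mkHom (A := a'.functor.obj (pt n₁ (top g₁))) (B := d') g₁ fun y hy => by
        obtain ⟨x, hx, rfl⟩ := hy
        exact hx).op
  let W' : SqFac a a' P Q σ d'.base c.base f.base →
      CostructuredArrow (post (sqW a a' P Q σ he) d') X := fun F =>
    CostructuredArrow.mk (Y := Z F.g) (StructuredArrow.homMk
      (mkHom (A := c) (B := P.functor.obj (pt F.idx (top F.g))) F.h (hh F)).op
      (Quiver.Hom.unop_inj (hom_ext _ _ F.eq)))
  have hstep : ∀ F G, Relation.EqvGen (SqFac.Step a a' P Q σ) F G → Zigzag (W' F) (W' G) := by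
    intro F G hFG
    induction hFG with
    | rel F G hFG =>
      obtain ⟨m, hm, hm'⟩ := hFG
      refine Zigzag.of_inv (show W' G ⟶ W' F from CostructuredArrow.homMk (StructuredArrow.homMk
        (mkHom (A := pt F.idx (top F.g)) (B := pt G.idx (top G.g)) m fun x hx => ?_).op
        (Quiver.Hom.unop_inj (hom_ext _ _ hm')))
        (StructuredArrow.hom_ext _ _ (Quiver.Hom.unop_inj (hom_ext _ _ hm))))
      show Yd'.map G.g (a'.e.app G.idx (Yc'.map m x)) ∈ opn d'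
      rw [← a'.nat_apply]
      exact (map_comp_apply (Y := Yd') (a'.ψ.map m) G.g _) ▸ (hm'.symm ▸ hx :
        Yd'.map (a'.ψ.map m ≫ G.g) (a'.e.app F.idx x) ∈ opn d')
    | refl F => exact Zigzag.refl _
    | symm F G _ ih => exact ih.symm
    | trans F G H _ _ ih₁ ih₂ => exact ih₁.trans ih₂
  obtain ⟨F₀, hF₀⟩ := H c.base f.base
  refine ⟨W' F₀, fun W => ?_⟩
  let c₁ := W.left.right.unop
  let g₁ : a'.functor.obj c₁ ⟶ d' := W.left.hom.unop
  let h₁ : c ⟶ P.functor.obj c₁ := W.hom.right.unop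
  let F₁ : SqFac a a' P Q σ d'.base c.base f.base :=
    ⟨c₁.base, h₁.base, g₁.base, congrArg (fun φ => φ.base) (congrArg Quiver.Hom.unop (StructuredArrow.w W.hom))⟩
  have htop : ∀ x ∈ opn c₁, Yc'.map (𝟙 c₁.base) x ∈ top g₁.base := fun x hx => by
    show Yd'.map g₁.base (a'.e.app c₁.base (Yc'.map (𝟙 c₁.base) x)) ∈ opn d'
    rw [map_id_apply]
    exact hom_mem g₁ _ ⟨x, hx, rfl⟩
  refine (Zigzag.of_inv (show W' F₁ ⟶ W from CostructuredArrow.homMk (StructuredArrow.homMk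
    (mkHom (A := c₁) (B := pt c₁.base (top g₁.base)) (𝟙 c₁.base) htop).op
    (Quiver.Hom.unop_inj (hom_ext _ _ (by
      show a'.ψ.map (𝟙 c₁.base) ≫ g₁.base = g₁.base
      rw [CategoryTheory.Functor.map_id, Category.id_comp]))))
    (StructuredArrow.hom_ext _ _ (Quiver.Hom.unop_inj (hom_ext _ _ (by
      show h₁.base ≫ P.ψ.map (𝟙 c₁.base) = h₁.base
      rw [CategoryTheory.Functor.map_id]; exact Category.comp_id _)))))).trans ?_
  exact (hstep F₀ F₁ (hF₀ F₁)).symm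

section Mate

open scoped CategoryTheory.TwoSquare

variable {B C D B' C' D' : Type u} [Category.{u} B] [Category.{u} C] [Category.{u} D]
  [Category.{u} B'] [Category.{u} C'] [Category.{u} D']
  {a : C ⥤ D} {b : B ⥤ D} {a' : C' ⥤ D'} {b' : B' ⥤ D'}
  {P : C' ⥤ C} {Pb : B' ⥤ B} {Q : D' ⥤ D} (wa : P ⋙ a ≅ a' ⋙ Q) (wb : Pb ⋙ b ≅ b' ⋙ Q)
  (JB : GrothendieckTopology B) (JC : GrothendieckTopology C) (JD : GrothendieckTopology D)
  (JB' : GrothendieckTopology B') (JC' : GrothendieckTopology C') (JD' : GrothendieckTopology D')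
  [a.IsContinuous JC JD] [b.IsContinuous JB JD] [a.IsCocontinuous JC JD]
  [a'.IsContinuous JC' JD'] [b'.IsContinuous JB' JD'] [a'.IsCocontinuous JC' JD']
  [P.IsContinuous JC' JC] [Pb.IsContinuous JB' JB] [Q.IsContinuous JD' JD]
  [Pb.IsCocontinuous JB' JB] [Q.IsCocontinuous JD' JD]

/-- The mate is invertible if the right base change is so on the image of the base. -/
theorem isIso_mate_sqM' (ha : ∀ (H : Sheaf JC AddCommGrpCat.{u}) (c : B'),
    IsIso (((βR wa JC JC' JD JD').app H).hom.app (op (b'.obj c)))) :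
    IsIso (mateEquiv (adjS a b JB JC JD) (adjS a' b' JB' JC' JD')
      (sqM JB JC JD wa wb JB' JC' JD')).natTrans := by
  have e := mateEquiv_hcomp (adjL b JB JD) (adjL b' JB' JD') (adjR a JC JD) (adjR a' JC' JD')
    (TwoSquare.mk _ _ _ _ (βL wb JB JB' JD JD')) (sqCell wa JC JC' JD JD')
  rw [sqM, e]
  have hm : mateEquiv (adjL b JB JD) (adjL b' JB' JD')
      (TwoSquare.mk _ _ _ _ (βL wb JB JB' JD JD')) =
        TwoSquare.mk (rs b JB JD) (rs Q JD' JD) (rs Pb JB' JB) (rs b' JB' JD')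
          (sqIso wb JB JB' JD JD').inv :=
    Equiv.apply_symm_apply _ _
  rw [hm]
  rw [NatTrans.isIso_iff_isIso_app]
  intro X
  have : IsIso ((rs b' JB' JD').map ((βR wa JC JC' JD JD').app X)) := by
    have : IsIso ((sheafToPresheaf JB' AddCommGrpCat.{u}).map
        ((rs b' JB' JD').map ((βR wa JC JC' JD JD').app X))) := by
      rw [NatTrans.isIso_iff_isIso_app]
      intro c
      exact ha X c.unop
    exact isIso_of_reflects_iso _ (sheafToPresheaf JB' AddCommGrpCat.{u})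
  change IsIso (𝟙 _ ≫ (sqIso wb JB JB' JD JD').inv.app ((Rs a JC JD).obj X) ≫ 𝟙 _ ≫
    (rs b' JB' JD').map ((βR wa JC JC' JD JD').app X) ≫ 𝟙 _)
  infer_instance

end Mate

end Groth.Agent.FibDescLib
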