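import Groth.Agent.FibDescLib.LevelClass
import Groth.Agent.FibDescLib.PostZigzag
import Groth.Agent.FibDescLib.ConeExact
import Groth.Agent.FibDescLib.Grid

/-!
# Descent of the diagonal of a doubly augmented diagram
-/

universe u

open CategoryTheory CategoryTheory.Limits Opposite TopologicalSpace Simplicial

namespace Groth.Agent.FibDescLib

section Restrict

variable {C : Type (u + 1)} [Category.{u} C] [Abelian C]
  {E : Type (u + 1)} [Category.{u} E] [Abelian E] [HasInjectiveResolutions E]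
  {p : C ⥤ E} {q : E ⥤ C} (adj : p ⊣ q) [p.Additive] [q.Additive]
  {C' : Type (u + 1)} [Category.{u} C'] [Abelian C']
  {E' : Type (u + 1)} [Category.{u} E'] [Abelian E'] [EnoughInjectives E']
  {p' : C' ⥤ E'} {q' : E' ⥤ C'} (adj' : p' ⊣ q') [p'.Additive] [q'.Additive]
  [PreservesFiniteLimits q'] (a : C ⥤ C') (b : E ⥤ E') [a.Additive] [b.Additive]
  [PreservesFiniteLimits a] [PreservesFiniteColimits a]
  [PreservesFiniteLimits b] [PreservesFiniteColimits b]

/-- Descent passes to an exact restriction which is essentially surjective on the base. -/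
theorem DescAdj.restrict (P : ObjectProperty E')
    (hP : Groth.Agent.ModShf.AcyclicRes.GoodClass q' P)
    (hb : ∀ X : E, Injective X → P (b.obj X)) (ha : ∀ X' : C', ∃ X, Nonempty (a.obj X ≅ X'))
    (M : TwoSquare a p p' b) (hM : IsIso M.natTrans)
    (hβ : IsIso (mateEquiv adj adj' M).natTrans) (h : DescAdj adj) : DescAdj adj' where
  isIso_unit := by
    rw [NatTrans.isIso_iff_isIso_app]
    intro X'
    obtain ⟨X, ⟨i⟩⟩ := ha X'
    refine (NatTrans.isIso_app_iff_of_iso adj'.unit i).1 ?_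
    have := h.isIso_unit
    have e := unit_mateEquiv adj adj' M X
    have : IsIso (adj'.unit.app (a.obj X) ≫ q'.map (M.natTrans.app X)) := by
      erw [← e]
      exact inferInstanceAs (IsIso (a.map (adj.unit.app X) ≫
        (mateEquiv adj adj' M).natTrans.app (p.obj X)))
    exact IsIso.of_isIso_comp_right _ (q'.map (M.natTrans.app X))
  acy X' k hk := by
    obtain ⟨X, ⟨i⟩⟩ := ha X'
    refine IsZero.of_iso (a.map_isZero (h.acy X k hk)) ?_
    exact ((q'.rightDerived k).mapIso (p'.mapIso i.symm ≪≫ asIso (M.natTrans.app X))) ≪≫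
      ((Groth.Agent.ModShf.AcyclicRes.compareIso b q' hP hb k).app (p.obj X)).symm ≪≫
        ((Groth.Agent.BigBC.rightDerivedCongr
          (asIso (mateEquiv adj adj' M).natTrans) k).app (p.obj X)).symm ≪≫
        DerFun.rightDerivedPostIso a q k (p.obj X)

end Restrict

variable (Zg : Δp × Δp ⥤ TopCat.{u})

local notation "O" => SimplexCategoryᵒᵖ

/-- The diagonal. -/
abbrev diagD : Δp ⥤ TopCat.{u} := Functor.diag Δp ⋙ Zg

/-- The diagonal of the bisimplicial part. -/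
noncomputable def diagP : Mor (toAug ⋙ diagD Zg) (φZ ⋙ Zg) :=
  bcMor (Functor.diag O) (φZ ⋙ Zg)

/-- The base of the diagonal. -/
noncomputable def diagB : Mor (ptF bot ⋙ diagD Zg) (ptF ((bot, bot) : Δp × Δp) ⋙ Zg) :=
  bcMor (𝟭 (Discrete PUnit.{1})) (ptF ((bot, bot) : Δp × Δp) ⋙ Zg)

/-- The indices commute on the simplicial part. -/
noncomputable def diagσ : (diagP Zg).ψ ⋙ φZ ≅ toAug ⋙ Functor.diag Δp :=
  NatIso.ofComponents (fun _ => Iso.refl _) (fun f => (Category.comp_id _).trans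
    ((Category.id_comp _).trans rfl).symm)

/-- The indices commute on the base. -/
noncomputable def diagτ : (diagB Zg).ψ ⋙ ptF ((bot, bot) : Δp × Δp) ≅ ptF bot ⋙ Functor.diag Δp :=
  NatIso.ofComponents (fun _ => Iso.refl _) (fun f => (Category.comp_id _).trans
    ((Category.id_comp _).trans rfl).symm)

instance : (diagB Zg).functor.Faithful := ⟨fun {A B} f g _ => hom_ext f g (Subsingleton.elim _ _)⟩

instance : (diagB Zg).functor.Full := ⟨fun {A B} f =>
  ⟨mkHom (A := A) (B := B) (eqToHom (Subsingleton.elim _ _)) fun x hx => by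
    have h := (mem_img_iff (𝟭 (Discrete PUnit.{1})) (ptF ((bot, bot) : Δp × Δp) ⋙ Zg) B.base
      (opn B) _).1 (hom_mem f x ((mem_img_iff (𝟭 (Discrete PUnit.{1}))
        (ptF ((bot, bot) : Δp × Δp) ⋙ Zg) A.base (opn A) x).2 hx))
    exact h,
  hom_ext _ _ (Subsingleton.elim _ _)⟩⟩

instance : (diagB Zg).functor.EssSurj := ⟨fun A => ⟨pt (Y := ptF bot ⋙ diagD Zg) A.base A.fiber,
  ⟨eqToIso (congrArg (pt (Y := ptF ((bot, bot) : Δp × Δp) ⋙ Zg) A.base)
    (img_bcMor (𝟭 (Discrete PUnit.{1})) (ptF ((bot, bot) : Δp × Δp) ⋙ Zg) A.base A.fiber))⟩⟩⟩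

lemma bot_hom_eq {a : Δp × Δp} (f g : a ⟶ ((bot, bot) : Δp × Δp)) : f = g :=
  Prod.ext (Quiver.Hom.unop_inj (WithInitial.starInitial.hom_ext _ _))
    (Quiver.Hom.unop_inj (WithInitial.starInitial.hom_ext _ _))

lemma sqConn_diag : SqConn (bcMor φZ Zg) (bcMor toAug (diagD Zg)) (diagP Zg)
    (bcMor (Functor.diag Δp) Zg) (diagσ Zg) bot := by
  intro n f
  let mk : ∀ (i : O) (h : n ⟶ (i, i)),
      SqFac (bcMor φZ Zg) (bcMor toAug (diagD Zg)) (diagP Zg) (bcMor (Functor.diag Δp) Zg)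
        (diagσ Zg) bot n f := fun i h => ⟨i, h, toBot _, bot_hom_eq _ _⟩
  let v : Fin (n.1.unop.len + 1) → Fin (n.2.unop.len + 1) → (n ⟶ (op ⦋0⦌, op ⦋0⦌)) := fun i j =>
    ((SimplexCategory.const ⦋0⦌ n.1.unop i).op, (SimplexCategory.const ⦋0⦌ n.2.unop j).op)
  refine ⟨mk (op ⦋0⦌) (v 0 0), fun X => ?_⟩
  have hstep : ∀ (X Y : SqFac (bcMor φZ Zg) (bcMor toAug (diagD Zg)) (diagP Zg)
      (bcMor (Functor.diag Δp) Zg) (diagσ Zg) bot n f) (m : X.idx ⟶ Y.idx),
      X.h ≫ (diagP Zg).ψ.map m = Y.h → Relation.EqvGen (SqFac.Step _ _ _ _ _) X Y := fun X Y m hm =>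
    .rel _ _ ⟨m, hm, Quiver.Hom.unop_inj (WithInitial.starInitial.hom_ext _ _)⟩
  obtain ⟨⟨i⟩, h, g, e⟩ := X
  let m₀ : op i ⟶ op ⦋0⦌ := (SimplexCategory.const ⦋0⦌ i 0).op
  let a := (h.1.unop : i ⟶ n.1.unop).toOrderHom 0
  let b := (h.2.unop : i ⟶ n.2.unop).toOrderHom 0
  have h₁ := hstep ⟨op i, h, g, e⟩ (mk (op ⦋0⦌) (v a b)) m₀
    (Prod.ext (Quiver.Hom.unop_inj (SimplexCategory.Hom.ext _ _ (OrderHom.ext _ _ rfl)))
      (Quiver.Hom.unop_inj (SimplexCategory.Hom.ext _ _ (OrderHom.ext _ _ rfl))))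
  let E := mk (op ⦋1⦌) ((SimplexCategory.mkOfLe (n := n.1.unop.len) 0 a (Fin.zero_le _) :
      ⦋1⦌ ⟶ n.1.unop).op, (SimplexCategory.mkOfLe (n := n.2.unop.len) 0 b (Fin.zero_le _) :
      ⦋1⦌ ⟶ n.2.unop).op)
  have h₂ := hstep E (mk (op ⦋0⦌) (v a b)) (SimplexCategory.δ (0 : Fin 2)).op
    (Prod.ext (Quiver.Hom.unop_inj (SimplexCategory.Hom.ext _ _ (OrderHom.ext _ _ (funext fun j => by
        fin_cases j; rfl))))
      (Quiver.Hom.unop_inj (SimplexCategory.Hom.ext _ _ (OrderHom.ext _ _ (funext fun j => by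
        fin_cases j; rfl)))))
  have h₃ := hstep E (mk (op ⦋0⦌) (v 0 0)) (SimplexCategory.δ (1 : Fin 2)).op
    (Prod.ext (Quiver.Hom.unop_inj (SimplexCategory.Hom.ext _ _ (OrderHom.ext _ _ (funext fun j => by
        fin_cases j; rfl))))
      (Quiver.Hom.unop_inj (SimplexCategory.Hom.ext _ _ (OrderHom.ext _ _ (funext fun j => by
        fin_cases j; rfl)))))
  exact (h₃.symm.trans _ _ _ h₂).trans _ _ _ h₁.symm

/-- A level of the diagonal is a level of the bisimplicial part. -/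
noncomputable def diagLvlIso (n : O) :
    lvl (toAug ⋙ diagD Zg) n ⋙ (diagP Zg).functor ≅ lvl (φZ ⋙ Zg) ((n, n) : O × O) :=
  NatIso.ofComponents (fun U =>
    { hom := mkHom (Y := φZ ⋙ Zg) (A := (diagP Zg).functor.obj (pt (Y := toAug ⋙ diagD Zg) n U))
        (B := pt (Y := φZ ⋙ Zg) ((n, n) : O × O) U) (𝟙 _) fun x hx =>
          mem_id (Y := φZ ⋙ Zg) ((mem_img_iff (Functor.diag O) (φZ ⋙ Zg) n U x).1 hx)
      inv := mkHom (Y := φZ ⋙ Zg) (A := pt (Y := φZ ⋙ Zg) ((n, n) : O × O) U)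
        (B := (diagP Zg).functor.obj (pt (Y := toAug ⋙ diagD Zg) n U)) (𝟙 _) fun x hx =>
          mem_id (Y := φZ ⋙ Zg) ((mem_img_iff (Functor.diag O) (φZ ⋙ Zg) n U x).2 hx)
      hom_inv_id := hom_ext _ _ (Category.comp_id _)
      inv_hom_id := hom_ext _ _ (Category.comp_id _) })
    (fun f => hom_ext _ _ ((Category.comp_id _).trans (Category.id_comp _).symm))

/-- Prepending zero. -/
def preZero {n : ℕ} {a : SimplexCategory} (σ : ⦋n⦌ ⟶ a) : ⦋n + 1⦌ ⟶ a :=
  SimplexCategory.Hom.mk (a := ⦋n + 1⦌) (b := a)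
    ⟨Fin.cases 0 fun j => σ.toOrderHom j, fun x y hxy => by
      induction x using Fin.cases with
      | zero => exact Fin.zero_le _
      | succ x =>
        induction y using Fin.cases with
        | zero => exact absurd hxy (by simp)
        | succ y =>
          simp only [Fin.cases_succ]
          exact σ.toOrderHom.monotone (Fin.succ_le_succ_iff.1 hxy)⟩

lemma δ_zero_preZero {n : ℕ} {a : SimplexCategory} (σ : ⦋n⦌ ⟶ a) :
    SimplexCategory.δ 0 ≫ preZero σ = σ :=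
  SimplexCategory.Hom.ext _ _ (OrderHom.ext _ _ (funext fun (j : Fin (n + 1)) => by
    show Fin.cases (motive := fun _ => Fin (a.len + 1)) 0 (fun j => σ.toOrderHom j)
      (Fin.succAbove 0 j) = σ.toOrderHom j
    rw [Fin.succAbove_zero, Fin.cases_succ]))

lemma δ_succ_preZero {n : ℕ} {a : SimplexCategory} (σ : ⦋n + 1⦌ ⟶ a) (i : Fin (n + 2)) :
    SimplexCategory.δ i.succ ≫ preZero σ = preZero (SimplexCategory.δ i ≫ σ) := by
  refine SimplexCategory.Hom.ext _ _ (OrderHom.ext _ _ (funext fun (j : Fin (n + 2)) => ?_))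
  show (Fin.cases (motive := fun _ => Fin (a.len + 1)) 0 (fun j => σ.toOrderHom j)
      (Fin.succAbove i.succ j)) = Fin.cases (motive := fun _ => Fin (a.len + 1)) 0
      (fun j => σ.toOrderHom (Fin.succAbove i j)) j
  induction j using Fin.cases with
  | zero => exact congrArg (Fin.cases (motive := fun _ => Fin (a.len + 1)) 0
      (fun j => σ.toOrderHom j)) (Fin.succ_succAbove_zero i)
  | succ j => exact congrArg (Fin.cases (motive := fun _ => Fin (a.len + 1)) 0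
      (fun j => σ.toOrderHom j)) (Fin.succ_succAbove_succ i j)

/-- Restrictions of injective sheaves to the diagonal have exact sections. -/
theorem cExact_diag (I : Sheaf (jt (φZ ⋙ Zg)) AddCommGrpCat.{u}) [Injective I] :
    CExact ((rs (diagP Zg).functor (jt (toAug ⋙ diagD Zg)) (jt (φZ ⋙ Zg))).obj I) := by
  intro V n t ht
  let C : SimplicialObject (Tot (φZ ⋙ Zg)) := cObj (diagD Zg) V ⋙ (diagP Zg).functor
  let cone : ∀ {k : ℕ} {d : Tot (φZ ⋙ Zg)}, (d ⟶ C _⦋k⦌) → (d ⟶ C _⦋k + 1⦌) := fun {k d} g =>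
    mkHom (A := d) (B := C _⦋k + 1⦌)
      ((preZero g.base.1.unop).op, (preZero g.base.2.unop).op) fun x hx => by
        obtain ⟨y, hy, hye⟩ := hom_mem g x hx
        refine ⟨_, ?_, rfl⟩
        have hy' : (diagD Zg).map (toBot (toAug.obj (op ⦋k⦌))) y ∈ V := hy
        refine (congrArg (fun z => z ∈ V) ?_).mpr hy'
        refine Eq.trans ?_ (congrArg ((diagD Zg).map (toBot (toAug.obj (op ⦋k⦌)))) hye).symm
        refine (map_comp_apply (Y := Zg) _ _ _).symm.trans ?_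
        refine Eq.trans ?_ (map_comp_apply (Y := Zg) _ _ _)
        exact congrArg (fun φ => Zg.map φ x) (bot_hom_eq _ _)
  have h0 : ∀ {k : ℕ} {d : Tot (φZ ⋙ Zg)} (g : d ⟶ C _⦋k⦌), cone g ≫ C.δ 0 = g := fun g =>
    hom_ext _ _ (Prod.ext (Quiver.Hom.unop_inj (δ_zero_preZero g.base.1.unop))
      (Quiver.Hom.unop_inj (δ_zero_preZero g.base.2.unop)))
  have hs : ∀ {k : ℕ} {d : Tot (φZ ⋙ Zg)} (g : d ⟶ C _⦋k + 1⦌) (i : Fin (k + 2)),
      cone g ≫ C.δ i.succ = cone (g ≫ C.δ i) := fun g i =>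
    hom_ext _ _ (Prod.ext (Quiver.Hom.unop_inj (δ_succ_preZero g.base.1.unop i))
      (Quiver.Hom.unop_inj (δ_succ_preZero g.base.2.unop i)))
  rw [dC_eq_sum] at ht
  obtain ⟨w, hw⟩ := exact_of_cone cone h0 hs I n t ht
  exact ⟨w, (dC_eq_sum V _).trans hw⟩

/-- Restrictions of injective sheaves to the diagonal lie in the class. -/
theorem lQ_diag (I : Sheaf (jt (φZ ⋙ Zg)) AddCommGrpCat.{u}) [Injective I] (j : ℕ) :
    LQ (diagD Zg) j ((rs (diagP Zg).functor (jt (toAug ⋙ diagD Zg)) (jt (φZ ⋙ Zg))).obj I) := by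
  refine ⟨fun n _ => ?_, fun V n _ => cExact_diag Zg I V n⟩
  have := preservesInjectiveObjects_atLvl (φZ ⋙ Zg) ((op ⦋n⦌, op ⦋n⦌) : O × O)
  have hI : Injective (atLvl (Y := φZ ⋙ Zg) ((op ⦋n⦌, op ⦋n⦌) : O × O) I) :=
    Functor.injective_obj _ I
  haveI : (lvl (toAug ⋙ diagD Zg) (op ⦋n⦌)).IsContinuous
      (Opens.grothendieckTopology ((φZ ⋙ Zg).obj ((op ⦋n⦌, op ⦋n⦌) : O × O)))
      (jt (toAug ⋙ diagD Zg)) := lvl_isContinuous (toAug ⋙ diagD Zg) (op ⦋n⦌)
  exact Injective.of_iso ((Functor.sheafPushforwardContinuousComp' (diagLvlIso Zg (op ⦋n⦌))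
    AddCommGrpCat.{u} (Opens.grothendieckTopology ((φZ ⋙ Zg).obj ((op ⦋n⦌, op ⦋n⦌) : O × O))) (jt (toAug ⋙ diagD Zg)) (jt (φZ ⋙ Zg))).symm.app I) hI

/-- Descent of a doubly augmented diagram gives descent of its diagonal. -/
theorem desc_diag (h : Desc φZ ((bot, bot) : Δp × Δp) Zg) : Desc toAug bot (diagD Zg) := by
  let a := bcMor φZ Zg
  let b := bcMor (ptF ((bot, bot) : Δp × Δp)) Zg
  let a' := bcMor toAug (diagD Zg)
  let b' := bcMor (ptF bot) (diagD Zg)
  let Q := bcMor (Functor.diag Δp) Zg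
  have hea : ∀ (i : O) (x : (toAug ⋙ diagD Zg).obj i),
      Zg.map ((diagσ Zg).hom.app i) (a.e.app ((diagP Zg).ψ.obj i) ((diagP Zg).e.app i x)) =
        Q.e.app (a'.ψ.obj i) (a'.e.app i x) := fun i x => map_id_apply (Y := Zg) _ x
  have heb : ∀ (i : Discrete PUnit.{1}) (x : (ptF bot ⋙ diagD Zg).obj i),
      Zg.map ((diagτ Zg).hom.app i) (b.e.app ((diagB Zg).ψ.obj i) ((diagB Zg).e.app i x)) =
        Q.e.app (b'.ψ.obj i) (b'.e.app i x) := fun i x => map_id_apply (Y := Zg) _ x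
  let wa := sqW a a' (diagP Zg) Q (diagσ Zg) hea
  let wb := sqW b b' (diagB Zg) Q (diagτ Zg) heb
  have hA : ∀ (H : Sheaf (jt (φZ ⋙ Zg)) AddCommGrpCat.{u}) (c : Tot (ptF bot ⋙ diagD Zg)),
      IsIso (((βR wa (jt (φZ ⋙ Zg)) (jt (toAug ⋙ diagD Zg)) (jt Zg) (jt (diagD Zg))).app H).hom.app
        (op (b'.functor.obj c))) := fun H c => by
    have : (post wa (b'.functor.obj c)).Initial :=
      post_initial' a a' (diagP Zg) Q (diagσ Zg) hea
        (cart_of_surjective a a' (diagP Zg) Q (diagσ Zg) hea (bcMor_surjective _ _)) _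
        (sqConn_diag Zg)
    exact isIso_βR_app_app wa _ _ _ _ H _
  have heb' := he_symm b b' (diagB Zg) Q (diagτ Zg) heb
  have hB : IsIso (βR wb.symm (jt (diagD Zg)) (jt (ptF bot ⋙ diagD Zg)) (jt Zg)
      (jt (ptF ((bot, bot) : Δp × Δp) ⋙ Zg))) := by
    have hw : wb.symm = sqW Q (diagB Zg) b' b (diagτ Zg).symm heb' :=
      Iso.ext (NatTrans.ext (funext fun A => hom_ext (Y := Zg) _ _ rfl))
    rw [hw]
    refine isIso_βR (sqW Q (diagB Zg) b' b (diagτ Zg).symm heb') _ _ _ _ fun d' =>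
      post_initial Q (diagB Zg) b' b (diagτ Zg).symm heb' (fun s y _ => ⟨y, rfl⟩) d' ?_
    intro x f
    exact ⟨⟨⟨⟩⟩, toBot x, eqToHom (Subsingleton.elim _ _), bot_hom_eq _ _, fun n₁ h₁ g₁ _ =>
      Or.inl ⟨eqToHom (Subsingleton.elim _ _),
        Quiver.Hom.unop_inj (WithInitial.starInitial.hom_ext _ _), Subsingleton.elim _ _⟩⟩
  have := preservesFiniteLimits_prY (diagD Zg)
  refine DescAdj.restrict _ (adjS a'.functor b'.functor (jt _) (jt _) (jt (diagD Zg)))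
    (rs (diagB Zg).functor (jt _) (jt _)) (rs (diagP Zg).functor (jt _) (jt _))
    (fun K => ∀ j, LQ (diagD Zg) j K) (goodClass_lQ _)
    (fun I hI j => @lQ_diag Zg I hI j) (fun X' => ?_)
    (sqM (jt _) (jt _) (jt Zg) wa wb (jt _) (jt _) (jt (diagD Zg)))
    (isIso_sqM _ _ _ wa wb _ _ _ hB)
    (isIso_mate_sqM' wa wb _ _ _ _ _ _ hA) h
  have : (rs (diagB Zg).functor (jt (ptF bot ⋙ diagD Zg))
      (jt (ptF ((bot, bot) : Δp × Δp) ⋙ Zg))).IsEquivalence := isEquivalence_rs _ _ _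
  exact ⟨_, ⟨Functor.objObjPreimageIso _ X'⟩⟩

end Groth.Agent.FibDescLib
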