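import Groth.Agent.CohDerLib.Acyclic
import Groth.Agent.DerFun.Basic
import Groth.Agent.BigBC.Derived
import Groth.Agent.DHA.KInj.Products
import Mathlib

/-!
# Cohomological descent for an adjoint pair with exact left adjoint

For an adjunction `p ⊣ q` with `p` exact, `p` is fully faithful on bounded below derived categories
iff the unit is invertible and `p` takes values in `q`-acyclic objects.
-/

universe w₁ w₂ v₁ v₂ v₃ v₄ u₁ u₂ u₃ u₄

open CategoryTheory CategoryTheory.Limits

namespace Groth.Agent.FibDescLib

open Groth.Agent.CohDerLib.Acyclic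

section Derived

variable {C : Type u₁} [Category.{v₁} C] [Abelian C] {E : Type u₂} [Category.{v₂} E] [Abelian E]
  [HasInjectiveResolutions E] {p : C ⥤ E} {q : E ⥤ C} (adj : p ⊣ q)
  [p.Additive] [q.Additive]

/-- The unit is invertible and `p` takes values in `q`-acyclic objects. -/
structure DescAdj : Prop where
  isIso_unit : IsIso adj.unit
  acy : ∀ X, Acy q (p.obj X)

variable [PreservesFiniteLimits p] [PreservesFiniteColimits p]
  [HasDerivedCategory.{w₁} C] [HasDerivedCategory.{w₂} E]

/-- the degreewise adjunct of a map out of `p` -/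
noncomputable def adjunct {L : CochainComplex C ℤ} {I : CochainComplex E ℤ}
    (f : (p.mapHomologicalComplex _).obj L ⟶ I) : L ⟶ (q.mapHomologicalComplex _).obj I where
  f m := adj.homEquiv _ _ (f.f m)
  comm' i j _ := by
    change adj.homEquiv _ _ (f.f i) ≫ q.map (I.d i j) = L.d i j ≫ adj.homEquiv _ _ (f.f j)
    refine (adj.homEquiv_naturality_right _ _).symm.trans ?_
    refine Eq.trans ?_ (adj.homEquiv_naturality_left _ _)
    exact congrArg _ (f.comm i j)

/-- the degreewise counit -/
noncomputable def counitC (I : CochainComplex E ℤ) :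
    (p.mapHomologicalComplex _).obj ((q.mapHomologicalComplex _).obj I) ⟶ I where
  f m := adj.counit.app (I.X m)
  comm' i j _ := (adj.counit.naturality (I.d i j)).symm

omit [p.Additive] [q.Additive] [PreservesFiniteLimits p] [PreservesFiniteColimits p]
  [HasDerivedCategory.{w₁} C] [HasDerivedCategory.{w₂} E] [HasInjectiveResolutions E] in
lemma map_comp_counit {X : C} {Y : E} (f : p.obj X ⟶ Y) :
    p.map (adj.homEquiv _ _ f) ≫ adj.counit.app Y = f :=
  (adj.homEquiv_counit _ _ _).symm.trans ((adj.homEquiv _ _).symm_apply_apply f)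

/-- Composition with the counit, on derived categories. -/
noncomputable def chi (I : CochainComplex E ℤ) (X : CochainComplex C ℤ)
    (g : DerivedCategory.Q.obj X ⟶ DerivedCategory.Q.obj ((q.mapHomologicalComplex _).obj I)) :
    DerivedCategory.Q.obj ((p.mapHomologicalComplex _).obj X) ⟶ DerivedCategory.Q.obj I :=
  p.mapDerivedCategoryFactors.inv.app X ≫ p.mapDerivedCategory.map g ≫
    p.mapDerivedCategoryFactors.hom.app _ ≫ DerivedCategory.Q.map (counitC adj I)

lemma chi_Q_map (I : CochainComplex E ℤ) (X : CochainComplex C ℤ)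
    (a : X ⟶ (q.mapHomologicalComplex _).obj I) :
    chi adj I X (DerivedCategory.Q.map a) =
      DerivedCategory.Q.map ((p.mapHomologicalComplex _).map a ≫ counitC adj I) := by
  rw [chi, p.mapDerivedCategoryFactors_hom_naturality_assoc, Iso.inv_hom_id_app_assoc,
    Functor.map_comp]

lemma chi_bijective (I : CochainComplex E ℤ) [I.IsKInjective]
    [CochainComplex.IsKInjective ((q.mapHomologicalComplex _).obj I)] (X : CochainComplex C ℤ) :
    Function.Bijective (chi adj I X) := by
  constructor
  · intro g g' h
    obtain ⟨a, rfl⟩ := DHA.KInj.Q_map_surjective X _ g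
    obtain ⟨a', rfl⟩ := DHA.KInj.Q_map_surjective X _ g'
    rw [chi_Q_map, chi_Q_map] at h
    obtain ⟨H⟩ := DHA.KInj.homotopy_of_Q_map_eq h
    have e : ∀ b : X ⟶ (q.mapHomologicalComplex _).obj I,
        adjunct adj ((p.mapHomologicalComplex _).map b ≫ counitC adj I) = b := fun b => by
      ext m
      change adj.homEquiv _ _ (p.map (b.f m) ≫ adj.counit.app _) = b.f m
      exact (congrArg _ (adj.homEquiv_counit _ _ _).symm).trans
        ((adj.homEquiv _ _).apply_symm_apply (b.f m))
    let η : X ⟶ (q.mapHomologicalComplex _).obj ((p.mapHomologicalComplex _).obj X) :=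
      adjunct adj (𝟙 _)
    have e' : ∀ b : (p.mapHomologicalComplex _).obj X ⟶ I,
        η ≫ (q.mapHomologicalComplex _).map b = adjunct adj b := fun b => by
      ext m
      change adj.homEquiv _ _ (𝟙 _) ≫ q.map (b.f m) = adj.homEquiv _ _ (b.f m)
      rw [← adj.homEquiv_naturality_right, Category.id_comp]
    refine DHA.KInj.Q_map_eq_of_homotopy ?_
    exact ((Homotopy.ofEq ((e a).symm.trans (e' _).symm)).trans
      ((q.mapHomotopy H).compLeft η)).trans (Homotopy.ofEq ((e' _).trans (e a')))
  · intro b
    obtain ⟨b, rfl⟩ := DHA.KInj.Q_map_surjective _ I b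
    refine ⟨DerivedCategory.Q.map (adjunct adj b), ?_⟩
    rw [chi_Q_map]
    congr 1
    ext m
    exact map_comp_counit adj (b.f m)

lemma chi_comp_adjunct {L : CochainComplex C ℤ} {I : CochainComplex E ℤ}
    (f : (p.mapHomologicalComplex _).obj L ⟶ I) (X : CochainComplex C ℤ)
    (g : DerivedCategory.Q.obj X ⟶ DerivedCategory.Q.obj L) :
    chi adj I X (g ≫ DerivedCategory.Q.map (adjunct adj f)) =
      p.mapDerivedCategoryFactors.inv.app X ≫ p.mapDerivedCategory.map g ≫
        p.mapDerivedCategoryFactors.hom.app L ≫ DerivedCategory.Q.map f := by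
  rw [chi, Functor.map_comp, Category.assoc, p.mapDerivedCategoryFactors_hom_naturality_assoc,
    ← DerivedCategory.Q.map_comp]
  congr 4
  ext m
  exact map_comp_counit adj (f.f m)

/-- Post-composition with `Q u` corresponds to the action of `p`. -/
lemma bijective_iff {L : CochainComplex C ℤ} {I : CochainComplex E ℤ} [I.IsKInjective]
    [CochainComplex.IsKInjective ((q.mapHomologicalComplex _).obj I)]
    (f : (p.mapHomologicalComplex _).obj L ⟶ I) [QuasiIso f] (X : CochainComplex C ℤ) :
    Function.Bijective (fun g : DerivedCategory.Q.obj X ⟶ DerivedCategory.Q.obj L =>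
        p.mapDerivedCategory.map g) ↔
      Function.Bijective (fun g : DerivedCategory.Q.obj X ⟶ DerivedCategory.Q.obj L =>
        g ≫ DerivedCategory.Q.map (adjunct adj f)) := by
  rw [← Function.Bijective.of_comp_iff' (chi_bijective adj I X)
    (fun g : DerivedCategory.Q.obj X ⟶ DerivedCategory.Q.obj L =>
        g ≫ DerivedCategory.Q.map (adjunct adj f))]
  rw [← Function.Bijective.of_comp_iff'
    (((Iso.homCongr (p.mapDerivedCategoryFactors.app X) (p.mapDerivedCategoryFactors.app L ≪≫
      asIso (DerivedCategory.Q.map f)))).bijective)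
    (fun g : DerivedCategory.Q.obj X ⟶ DerivedCategory.Q.obj L => p.mapDerivedCategory.map g)]
  refine iff_of_eq (congrArg Function.Bijective (funext fun g => ?_))
  exact (chi_comp_adjunct adj f X g).symm

include adj in
omit [q.Additive] [HasInjectiveResolutions E] [p.Additive] [PreservesFiniteColimits p]
  [HasDerivedCategory.{w₁} C] [HasDerivedCategory.{w₂} E] in
lemma preservesInjectiveObjects_right : q.PreservesInjectiveObjects :=
  Functor.preservesInjectiveObjects_of_adjunction_of_preservesMonomorphisms adj

include adj in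
lemma isKInjective_map (I : CochainComplex E ℤ) (n : ℤ) [I.IsStrictlyGE n]
    (hI : ∀ m, Injective (I.X m)) :
    CochainComplex.IsKInjective ((q.mapHomologicalComplex _).obj I) := by
  have := preservesInjectiveObjects_right adj
  have : ∀ m, Injective (((q.mapHomologicalComplex (ComplexShape.up ℤ)).obj I).X m) := fun m =>
    have := hI m
    q.injective_obj (I.X m)
  have : CochainComplex.IsStrictlyGE ((q.mapHomologicalComplex _).obj I) n :=
    (CochainComplex.isStrictlyGE_iff _ _).2 fun m hm =>
      q.map_isZero (I.isZero_of_isStrictlyGE n m hm)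
  exact CochainComplex.isKInjective_of_injective _ n

variable [HasInjectiveResolutions C]

/-- Descent implies full faithfulness on bounded below derived categories. -/
theorem DescAdj.bijective [EnoughInjectives E] (h : DescAdj adj) (K L : DerivedCategory.Plus C) :
    Function.Bijective fun g : K.obj ⟶ L.obj => p.mapDerivedCategory.map g := by
  obtain ⟨n, hn⟩ := L.property
  obtain ⟨L', hL', ⟨eL⟩⟩ := DerivedCategory.exists_iso_Q_obj_of_isGE L.obj n
  let eK : K.obj ≅ DerivedCategory.Q.obj (DerivedCategory.Q.objPreimage K.obj) :=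
    (DerivedCategory.Q.objObjPreimageIso K.obj).symm
  suffices H : Function.Bijective (fun g : DerivedCategory.Q.obj (DerivedCategory.Q.objPreimage K.obj)
      ⟶ DerivedCategory.Q.obj L' => p.mapDerivedCategory.map g) by
    have e : (fun g : K.obj ⟶ L.obj => p.mapDerivedCategory.map g) =
        (Iso.homCongr (p.mapDerivedCategory.mapIso eK.symm) (p.mapDerivedCategory.mapIso eL.symm)) ∘
          (fun g => p.mapDerivedCategory.map g) ∘ (Iso.homCongr eK eL) := funext fun g => by
      simp [Iso.homCongr]
    rw [e]
    exact (Equiv.bijective _).comp (H.comp (Equiv.bijective _))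
  have : CochainComplex.IsStrictlyGE ((p.mapHomologicalComplex _).obj L') n :=
    (CochainComplex.isStrictlyGE_iff _ _).2 fun m hm =>
      p.map_isZero (L'.isZero_of_isStrictlyGE n m hm)
  obtain ⟨I, f, hf, hI, hIn⟩ :=
    CochainComplex.Plus.modelCategoryQuillen.exists_quasiIso_injective
      ((p.mapHomologicalComplex _).obj L') n
  have := CochainComplex.isKInjective_of_injective I n
  have := isKInjective_map adj I n hI
  rw [bijective_iff adj f]
  have : PreservesFiniteLimits q := by
    have : q.IsRightAdjoint := adj.isRightAdjoint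
    exact ⟨fun J _ _ => inferInstance⟩
  have hs : Small (F := q) (CochainComplex.mappingCone f) := by
    have : (CochainComplex.mappingCone f).IsStrictlyGE (n - 1) :=
      (CochainComplex.isStrictlyGE_iff _ _).2 fun j hj => by
        rw [IsZero.iff_id_eq_zero, CochainComplex.mappingCone.ext_from_iff f (j + 1) j rfl]
        exact ⟨(CochainComplex.isZero_of_isStrictlyGE ((p.mapHomologicalComplex _).obj L') n (j + 1)
            (by omega)).eq_of_src _ _, (I.isZero_of_isStrictlyGE n j (by omega)).eq_of_src _ _⟩
    exact small_of_isStrictlyGE _ (n - 1)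
  have hqf := quasiIso_map q f (fun m => h.acy _)
    (fun m => have := hI m; acy_of_injective _) hs
  have h1 : QuasiIso ((q.mapHomologicalComplex (ComplexShape.up ℤ)).map f) :=
    (HomologicalComplex.mem_quasiIso_iff _).1
      ((HomotopyCategory.quotient_map_mem_quasiIso_iff _).1 hqf)
  let η : L' ⟶ (q.mapHomologicalComplex _).obj ((p.mapHomologicalComplex _).obj L') :=
    adjunct adj (𝟙 _)
  have : IsIso η := by
    have : ∀ m, IsIso (η.f m) := fun m => by
      have := h.isIso_unit
      change IsIso (adj.homEquiv _ _ (𝟙 _))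
      rw [adj.homEquiv_id]
      infer_instance
    exact HomologicalComplex.Hom.isIso_of_components η
  have e : adjunct adj f = η ≫ (q.mapHomologicalComplex _).map f := by
    ext m
    change adj.homEquiv _ _ (f.f m) = adj.homEquiv _ _ (𝟙 _) ≫ q.map (f.f m)
    rw [← adj.homEquiv_naturality_right, Category.id_comp]
  have : IsIso (DerivedCategory.Q.map (adjunct adj f)) := by
    rw [e, Functor.map_comp]
    have : IsIso (DerivedCategory.Q.map ((q.mapHomologicalComplex (ComplexShape.up ℤ)).map f)) :=
      (DerivedCategory.isIso_Q_map_iff_quasiIso (C := C) _).2 h1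
    infer_instance
  exact (Iso.homToEquiv (asIso (DerivedCategory.Q.map (adjunct adj f)))).bijective

/-- Full faithfulness on bounded below derived categories implies descent. -/
theorem DescAdj.of_bijective (h : ∀ K L : DerivedCategory.Plus C,
    Function.Bijective fun g : K.obj ⟶ L.obj => p.mapDerivedCategory.map g) : DescAdj adj := by
  let S : C → DerivedCategory.Plus C := fun X =>
    ⟨(DerivedCategory.singleFunctor C 0).obj X, ⟨0, inferInstance⟩⟩
  have hFF : ∀ X Y : C, Function.Bijective (fun g : X ⟶ Y => p.map g) := by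
    intro X Y
    let e := p.mapDerivedCategorySingleFunctor 0
    have h1 : Function.Bijective
        (fun g : X ⟶ Y => (DerivedCategory.singleFunctor C 0).map g) :=
      ⟨(DerivedCategory.singleFunctor C 0).map_injective,
        (DerivedCategory.singleFunctor C 0).map_surjective⟩
    have h2 : Function.Bijective
        (fun g : p.obj X ⟶ p.obj Y => (DerivedCategory.singleFunctor E 0).map g) :=
      ⟨(DerivedCategory.singleFunctor E 0).map_injective,
        (DerivedCategory.singleFunctor E 0).map_surjective⟩
    refine (Function.Bijective.of_comp_iff' h2 _).1 ?_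
    have : (fun g : p.obj X ⟶ p.obj Y => (DerivedCategory.singleFunctor E 0).map g) ∘
        (fun g : X ⟶ Y => p.map g) = (Iso.homCongr (e.app X) (e.app Y)) ∘
          (fun g => p.mapDerivedCategory.map g) ∘
            (fun g : X ⟶ Y => (DerivedCategory.singleFunctor C 0).map g) := by
      funext g
      exact (NatIso.naturality_1 e g).symm
    rw [this]
    exact (Equiv.bijective _).comp ((h (S X) (S Y)).comp h1)
  have : p.Full := ⟨fun {X Y} => (hFF X Y).2⟩
  have : p.Faithful := ⟨fun {X Y} => @(hFF X Y).1⟩
  refine ⟨inferInstance, fun G k hk => ?_⟩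
  let R := injectiveResolution (p.obj G)
  let f : (p.mapHomologicalComplex _).obj ((CochainComplex.singleFunctor C 0).obj G) ⟶
      R.cochainComplex :=
    (HomologicalComplex.singleMapHomologicalComplex p (ComplexShape.up ℤ) 0).hom.app G ≫ R.ι'
  have : QuasiIso f := by
    let e₁ := (HomologicalComplex.singleMapHomologicalComplex p (ComplexShape.up ℤ) 0).app G
    have h₁ : QuasiIso e₁.hom := inferInstance
    have h₂ : QuasiIso R.ι' := inferInstance
    exact @quasiIso_comp _ _ _ _ _ _ _ _ e₁.hom R.ι' _ _ _ h₁ h₂
  have := CochainComplex.isKInjective_of_injective R.cochainComplex 0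
  have := isKInjective_map adj R.cochainComplex 0 (fun m => inferInstance)
  have hs : CochainComplex.IsStrictlyGE ((q.mapHomologicalComplex _).obj R.cochainComplex) 0 :=
    (CochainComplex.isStrictlyGE_iff _ _).2 fun m hm =>
      q.map_isZero (R.cochainComplex.isZero_of_isStrictlyGE 0 m hm)
  let T : DerivedCategory.Plus C :=
    ⟨DerivedCategory.Q.obj ((q.mapHomologicalComplex _).obj R.cochainComplex), ⟨0, inferInstance⟩⟩
  have key : ∀ X : CochainComplex C ℤ, (∀ n : ℤ, X.IsStrictlyGE n → Function.Bijective
      (fun g : DerivedCategory.Q.obj X ⟶ DerivedCategory.Q.obj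
          ((CochainComplex.singleFunctor C 0).obj G) =>
        g ≫ DerivedCategory.Q.map (adjunct adj f))) := fun X n hn =>
    (bijective_iff adj f X).1 (h ⟨DerivedCategory.Q.obj X, ⟨n, inferInstance⟩⟩ (S G))
  have hu : IsIso (DerivedCategory.Q.map (adjunct adj f)) := by
    obtain ⟨v, hv⟩ := (key ((q.mapHomologicalComplex _).obj R.cochainComplex) 0 hs).2 (𝟙 _)
    refine ⟨v, (key ((CochainComplex.singleFunctor C 0).obj G) 0 inferInstance).1 ?_, hv⟩
    change (DerivedCategory.Q.map (adjunct adj f) ≫ v) ≫ DerivedCategory.Q.map (adjunct adj f) =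
      𝟙 _ ≫ DerivedCategory.Q.map (adjunct adj f)
    refine (Category.assoc _ _ _).trans ?_
    exact (congrArg (DerivedCategory.Q.map (adjunct adj f) ≫ ·) hv).trans
      ((Category.comp_id _).trans (Category.id_comp _).symm)
  have : QuasiIso (adjunct adj f) := (DerivedCategory.isIso_Q_map_iff_quasiIso (C := C) _).1 hu
  obtain ⟨j, rfl⟩ := Nat.exists_eq_add_of_le hk
  rw [Nat.succ_eq_add_one, Nat.zero_add, Nat.add_comm]
  have hex : ((q.mapHomologicalComplex (ComplexShape.up ℤ)).obj R.cochainComplex).ExactAt (j + 1) :=
    (quasiIsoAt_iff_exactAt (adjunct adj f) _ (HomologicalComplex.exactAt_single_obj _ 0 G _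
      (by omega))).1 inferInstance
  refine IsZero.of_iso ?_ (R.isoRightDerivedObj q (j + 1))
  refine HomologicalComplex.ExactAt.isZero_homology ?_
  rw [HomologicalComplex.exactAt_iff' _ j (j + 1) (j + 2) (by simp) (by simp)]
  rw [HomologicalComplex.exactAt_iff' _ (j : ℤ) (j + 1) (j + 2) (by simp) (by simp; omega)] at hex
  refine (ShortComplex.exact_iff_of_iso (ShortComplex.isoMk
    (q.mapIso (R.cochainComplexXIso (j : ℤ) j rfl))
    (q.mapIso (R.cochainComplexXIso ((j : ℤ) + 1) (j + 1) (by simp)))
    (q.mapIso (R.cochainComplexXIso ((j : ℤ) + 2) (j + 2) (by simp))) ?_ ?_)).1 hex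
  · change q.map _ ≫ q.map _ = q.map _ ≫ q.map _
    rw [← q.map_comp, ← q.map_comp, R.cochainComplex_d (j : ℤ) ((j : ℤ) + 1) j (j + 1) rfl (by simp)]
    simp
  · change q.map _ ≫ q.map _ = q.map _ ≫ q.map _
    rw [← q.map_comp, ← q.map_comp, R.cochainComplex_d ((j : ℤ) + 1) ((j : ℤ) + 2) (j + 1) (j + 2)
      (by simp) (by simp)]
    simp

end Derived

end Groth.Agent.FibDescLib
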