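import Groth.Agent.FibDescLib.Retract

/-!
# Descent passes to retracts of augmented spaces with the same base
-/

universe u

open CategoryTheory CategoryTheory.Limits Opposite TopologicalSpace

namespace Groth.Agent.FibDescLib

variable {Y' Y : Δp ⥤ TopCat.{u}}

/-- Preimages along a section followed by preimages along the retraction. -/
noncomputable def resFRetrIso {S : Type} [Category.{0} S] {Z' Z : S ⥤ TopCat.{u}} (i : Z' ⟶ Z)
    (r : Z ⟶ Z') (h : i ≫ r = 𝟙 Z') : resF r ⋙ resF i ≅ 𝟭 (Tot Z') :=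
  have hp : ∀ (k : S) (x : Z'.obj k), r.app k (i.app k x) = x := fun k x =>
    ConcreteCategory.congr_hom (NatTrans.congr_app h k) x
  NatIso.ofComponents (fun A =>
    { hom := mkHom (Y := Z') (A := (resF r ⋙ resF i).obj A) (B := A) (𝟙 _) fun x hx =>
        mem_id (Y := Z') (hp A.base x ▸ hx : x ∈ opn A)
      inv := mkHom (Y := Z') (A := A) (B := (resF r ⋙ resF i).obj A) (𝟙 _) fun x hx =>
        mem_id (Y := Z') (show r.app A.base (i.app A.base x) ∈ opn A from (hp A.base x).symm ▸ hx)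
      hom_inv_id := hom_ext _ _ (Category.comp_id _)
      inv_hom_id := hom_ext _ _ (Category.comp_id _) })
    (fun φ => hom_ext _ _ ((Category.comp_id _).trans (Category.id_comp _).symm))

/-- Inverse images of a retraction compose to the identity. -/
noncomputable def lsRetrIso {S : Type} [Category.{0} S] {Z' Z : S ⥤ TopCat.{u}} (i : Z' ⟶ Z)
    (r : Z ⟶ Z') (h : i ≫ r = 𝟙 Z') :
    Ls (resF r) (jt Z') (jt Z) ⋙ Ls (resF i) (jt Z) (jt Z') ≅ 𝟭 (Sheaf (jt Z') AddCommGrpCat.{u}) :=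
  haveI := Functor.isContinuous_comp (resF r) (resF i) (jt Z') (jt Z) (jt Z')
  (((adjL (resF r) (jt Z') (jt Z)).comp (adjL (resF i) (jt Z) (jt Z'))).ofNatIsoRight
    (Functor.sheafPushforwardContinuousComp (resF r) (resF i) AddCommGrpCat.{u} (jt Z') (jt Z)
      (jt Z') ≪≫ Functor.sheafPushforwardContinuousId' (resFRetrIso i r h) AddCommGrpCat.{u}
        (jt Z'))).leftAdjointUniq Adjunction.id

lemma exact_Ls_resF {S : Type} [Category.{0} S] {Z' Z : S ⥤ TopCat.{u}} (e : Z' ⟶ Z) :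
    PreservesFiniteLimits (Ls (resF e) (jt Z) (jt Z')) ∧
      PreservesFiniteColimits (Ls (resF e) (jt Z) (jt Z')) :=
  ⟨preservesFiniteLimits_Ls_resF e,
    have h0 : PreservesColimitsOfSize.{0, 0} (Ls (resF e) (jt Z) (jt Z')) :=
      (adjL (resF e) (jt Z) (jt Z')).leftAdjoint_preservesColimits
    ⟨fun J _ _ => h0.preservesColimitsOfShape⟩⟩

/-- Descent passes to retracts with the same base. -/
theorem Desc.of_retract (i : Y' ⟶ Y) (r : Y ⟶ Y') (h : i ≫ r = 𝟙 Y')
    (hr' : r.app bot ≫ i.app bot = 𝟙 _) (hY : Desc toAug bot Y) : Desc toAug bot Y' := by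
  have := (exact_Ls_resF (eS r)).1
  have := (exact_Ls_resF (eS r)).2
  have := (exact_Ls_resF (eS i)).1
  have := (exact_Ls_resF (eS i)).2
  have := (exact_Ls_resF (eB r)).1
  let adj := adjS (bcMor toAug Y).functor (bcMor (ptF bot) Y).functor (jt _) (jt _) (jt Y)
  let adj' := adjS (bcMor toAug Y').functor (bcMor (ptF bot) Y').functor (jt _) (jt _) (jt Y')
  let adjb := adjL (resF (eB r)) (jt (ptF bot ⋙ Y')) (jt (ptF bot ⋙ Y))
  have e₁ : eB i ≫ eB r = 𝟙 _ := (Functor.whiskerLeft_comp _ _ _).symm.trans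
    ((congrArg (Functor.whiskerLeft (ptF bot)) h).trans (Functor.whiskerLeft_id' _))
  have e₂ : eB r ≫ eB i = 𝟙 _ := by
    ext ⟨⟨⟩⟩ : 2
    exact hr'
  have : (Ls (resF (eB r)) (jt (ptF bot ⋙ Y')) (jt (ptF bot ⋙ Y))).IsEquivalence :=
    (CategoryTheory.Equivalence.mk (Ls (resF (eB r)) (jt (ptF bot ⋙ Y')) (jt (ptF bot ⋙ Y)))
      (Ls (resF (eB i)) (jt (ptF bot ⋙ Y)) (jt (ptF bot ⋙ Y')))
      (lsRetrIso _ _ e₁).symm (lsRetrIso _ _ e₂)).isEquivalence_functor
  have : (rs (resF (eB r)) (jt (ptF bot ⋙ Y')) (jt (ptF bot ⋙ Y))).IsEquivalence :=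
    adjb.isEquivalence_right_of_isEquivalence_left
  have : PreservesFiniteColimits (pl (bcMor toAug Y).functor (bcMor (ptF bot) Y).functor (jt _)
      (jt _) (jt Y)) :=
    have h0 : PreservesColimitsOfSize.{0, 0} (pl (bcMor toAug Y).functor
        (bcMor (ptF bot) Y).functor (jt _) (jt _) (jt Y)) := adj.leftAdjoint_preservesColimits
    ⟨fun J _ _ => h0.preservesColimitsOfShape⟩
  have : PreservesFiniteColimits (pl (bcMor toAug Y').functor (bcMor (ptF bot) Y').functor (jt _)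
      (jt _) (jt Y')) :=
    have h0 : PreservesColimitsOfSize.{0, 0} (pl (bcMor toAug Y').functor
        (bcMor (ptF bot) Y').functor (jt _) (jt _) (jt Y')) := adj'.leftAdjoint_preservesColimits
    ⟨fun J _ _ => h0.preservesColimitsOfShape⟩
  have : PreservesFiniteLimits (pl (bcMor toAug Y').functor (bcMor (ptF bot) Y').functor (jt _)
      (jt _) (jt Y')) := pl_preservesFiniteLimits toAug bot Y'
  have : PreservesFiniteLimits (pl (bcMor toAug Y).functor (bcMor (ptF bot) Y).functor (jt _)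
      (jt _) (jt Y)) := pl_preservesFiniteLimits toAug bot Y
  have : PreservesFiniteLimits (Ls (resF (eB r)) (jt (ptF bot ⋙ Y')) (jt (ptF bot ⋙ Y)) ⋙
      pl (bcMor toAug Y).functor (bcMor (ptF bot) Y).functor (jt _) (jt _) (jt Y)) :=
    comp_preservesFiniteLimits _ _
  have : PreservesFiniteColimits (Ls (resF (eB r)) (jt (ptF bot ⋙ Y')) (jt (ptF bot ⋙ Y)) ⋙
      pl (bcMor toAug Y).functor (bcMor (ptF bot) Y).functor (jt _) (jt _) (jt Y)) :=
    have : PreservesFiniteColimits (Ls (resF (eB r)) (jt (ptF bot ⋙ Y')) (jt (ptF bot ⋙ Y))) :=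
      (exact_Ls_resF (eB r)).2
    comp_preservesFiniteColimits _ _
  have := isIso_invComm r
  exact DescAdj.of_retract (adjb.comp adj) adj' (pS r) (pS i)
    ((descAdj_of_isEquivalence adjb).comp hY) (asIso (invComm r).natTrans)
    (lsRetrIso (eS i) (eS r) ((Functor.whiskerLeft_comp _ _ _).symm.trans
      ((congrArg (Functor.whiskerLeft toAug) h).trans (Functor.whiskerLeft_id' _))))

end Groth.Agent.FibDescLib
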