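import Groth.Agent.FibDescLib.LevelClass
import Groth.Agent.FibDescLib.RetractSp

/-!
# Descent and maps of augmented spaces invertible in low degrees
-/

universe u

open CategoryTheory CategoryTheory.Limits Opposite TopologicalSpace Simplicial

namespace Groth.Agent.FibDescLib

open Groth.Agent.CohDerLib.Acyclic (Acy)

section Equiv

variable {A B : TopCat.{u}} (f : A ⟶ B) [IsIso f]

lemma isEquivalence_opensMap : (Opens.map f).IsEquivalence :=
  inferInstanceAs (Opens.mapMapIso (asIso f)).functor.IsEquivalence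

instance isCocontinuous_opensMap :
    (Opens.map f).IsCocontinuous (Opens.grothendieckTopology B) (Opens.grothendieckTopology A) := by
  refine ⟨fun {U R} hR x hx => ?_⟩
  obtain ⟨W, g, hg, hW⟩ := hR (inv f x) (by
    show f (inv f x) ∈ U
    rw [← TopCat.comp_app, IsIso.inv_hom_id]
    exact hx)
  let W' : Opens B := (Opens.map (inv f)).obj W
  have hle : W' ≤ U := fun y hy => by
    have h : f (inv f y) ∈ U := leOfHom g hy
    rwa [← TopCat.comp_app, IsIso.inv_hom_id] at h
  have hle' : (Opens.map f).obj W' ≤ W := fun a ha => by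
    have h : inv f (f a) ∈ W := ha
    rwa [← TopCat.comp_app, IsIso.hom_inv_id] at h
  refine ⟨W', homOfLE hle, ?_, hW⟩
  change R ((Opens.map f).map (homOfLE hle))
  exact Subsingleton.elim (homOfLE hle' ≫ g) ((Opens.map f).map (homOfLE hle)) ▸
    R.downward_closed hg (homOfLE hle')

lemma isEquivalence_pull : (CohTop.pull f).IsEquivalence := by
  have := isEquivalence_opensMap f
  exact isEquivalence_Ls (Opens.map f) (Opens.grothendieckTopology B) (Opens.grothendieckTopology A)

end Equiv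

variable {Y' Y : Δp ⥤ TopCat.{u}} (e : Y' ⟶ Y)

section Levels

variable {S : Type} [Category.{0} S] {Z' Z : S ⥤ TopCat.{u}} (d : Z' ⟶ Z) (k : S)
  [IsIso (d.app k)] (H : Sheaf (jt Z) AddCommGrpCat.{u})

lemma ηT_bijective (U : Opens (Z.obj k)) : Function.Bijective (ηT d H (pt k U)) := by
  have h₁ := isEquivalence_opensMap (d.app k)
  have := isEquivalence_pull (d.app k)
  have : (Ls (Opens.map (d.app k)) (Opens.grothendieckTopology (Z.obj k))
      (Opens.grothendieckTopology (Z'.obj k))).IsEquivalence :=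
    isEquivalence_Ls _ _ _
  have hu : IsIso ((adjL (Opens.map (d.app k)) (Opens.grothendieckTopology (Z.obj k))
      (Opens.grothendieckTopology (Z'.obj k))).unit.app (atLvl k H)) := inferInstance
  have e : (fun s => ηT d H (pt k U) s) = fun s =>
      (lvlCmp d k H).hom.app (op ((Opens.map (d.app k)).obj U))
        (((adjL (Opens.map (d.app k)) (Opens.grothendieckTopology (Z.obj k))
          (Opens.grothendieckTopology (Z'.obj k))).unit.app (atLvl k H)).hom.app (op U) s) :=
    funext fun s => (lvlCmp_uni d k H U s).symm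
  change Function.Bijective (fun s => ηT d H (pt k U) s)
  rw [e]
  refine Function.Bijective.comp ?_ ?_
  · exact (ConcreteCategory.isIso_iff_bijective _).1
      (inferInstanceAs (IsIso (((sheafToPresheaf _ AddCommGrpCat.{u}).map (lvlCmp d k H)).app _)))
  · exact (ConcreteCategory.isIso_iff_bijective _).1
      (inferInstanceAs (IsIso (((sheafToPresheaf _ AddCommGrpCat.{u}).map ((adjL (Opens.map (d.app k))
        (Opens.grothendieckTopology (Z.obj k)) (Opens.grothendieckTopology (Z'.obj k))).unit.app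
          (atLvl k H))).app _)))

lemma injective_atLvl_Ls [Injective (atLvl k H)] :
    Injective (atLvl k ((Ls (resF d) (jt Z) (jt Z')).obj H)) := by
  have := isEquivalence_pull (d.app k)
  have : (CohTop.pull (d.app k)).PreservesInjectiveObjects :=
    Functor.preservesInjectiveObjects_of_adjunction_of_preservesMonomorphisms
      (CohTop.pull (d.app k)).asEquivalence.symm.toAdjunction
  have h : Injective ((CohTop.pull (d.app k)).obj (atLvl k H)) := Functor.injective_obj _ _
  exact Injective.of_iso (asIso (lvlCmp d k H)) h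

end Levels

variable [IsIso (e.app bot)] (H : Sheaf (jt (toAug ⋙ Y)) AddCommGrpCat.{u})

lemma preV_map (V : Opens (Y.obj bot)) (n : SimplexCategoryᵒᵖ) :
    preV Y' ((Opens.map (e.app bot)).obj V) n =
      (Opens.map ((eS e).app n)).obj (preV Y V n) := by
  ext x
  exact iff_of_eq (congrArg (fun y => y ∈ V) (nat_map e (toBot (toAug.obj n)) x).symm)

/-- Preimages of parts over an open of the base. -/
noncomputable def toPre (V : Opens (Y.obj bot)) (n : SimplexCategoryᵒᵖ) :
    (cObj Y' ((Opens.map (e.app bot)).obj V)).obj n ≅ (resF (eS e)).obj ((cObj Y V).obj n) :=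
  { hom := mkHom (Y := toAug ⋙ Y') (A := (cObj Y' ((Opens.map (e.app bot)).obj V)).obj n)
      (B := (resF (eS e)).obj ((cObj Y V).obj n)) (𝟙 n) fun x hx =>
        mem_id (Y := toAug ⋙ Y') ((SetLike.ext_iff.1 (preV_map e V n) x).1 hx)
    inv := mkHom (Y := toAug ⋙ Y') (A := (resF (eS e)).obj ((cObj Y V).obj n))
      (B := (cObj Y' ((Opens.map (e.app bot)).obj V)).obj n) (𝟙 n) fun x hx =>
        mem_id (Y := toAug ⋙ Y') ((SetLike.ext_iff.1 (preV_map e V n) x).2 hx)
    hom_inv_id := hom_ext _ _ (Category.comp_id _)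
    inv_hom_id := hom_ext _ _ (Category.comp_id _) }

/-- Sections over parts, compared. -/
noncomputable def psi (V : Opens (Y.obj bot)) (n : ℕ) :
    (coS Y H V).obj ⦋n⦌ →+ (coS Y' ((pS e).obj H) ((Opens.map (e.app bot)).obj V)).obj ⦋n⦌ :=
  (((adjL (resF (eS e)) (jt _) (jt _)).unit.app H).hom.app (op ((cObj Y V).obj (op ⦋n⦌))) ≫
    ((pS e).obj H).obj.map (toPre e V (op ⦋n⦌)).hom.op).hom

lemma psi_face (V : Opens (Y.obj bot)) {n : ℕ} (i : Fin (n + 2)) (t : (coS Y H V).obj ⦋n⦌) :
    psi e H V (n + 1) (face V i t) = face ((Opens.map (e.app bot)).obj V) i (psi e H V n t) := by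
  refine (congrArg (((pS e).obj H).obj.map (toPre e V (op ⦋n + 1⦌)).hom.op) (ConcreteCategory.congr_hom
    (((adjL (resF (eS e)) (jt _) (jt _)).unit.app H).hom.naturality
      ((cObj Y V).map (SimplexCategory.δ i).op).op) t)).trans ?_
  refine map_map_eq ((pS e).obj H).obj (toPre e V (op ⦋n + 1⦌)).hom
    ((resF (eS e)).map ((cObj Y V).map (SimplexCategory.δ i).op))
    ((cObj Y' _).map (SimplexCategory.δ i).op) (toPre e V (op ⦋n⦌)).hom ?_ _
  exact (Category.id_comp _).trans (Category.comp_id _).symm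

lemma psi_bijective (V : Opens (Y.obj bot)) (n : ℕ) [IsIso (e.app (toAug.obj (op ⦋n⦌)))] :
    Function.Bijective (psi e H V n) := by
  have : IsIso ((eS e).app (op ⦋n⦌)) := inferInstanceAs (IsIso (e.app (toAug.obj (op ⦋n⦌))))
  refine Function.Bijective.comp (g := ((pS e).obj H).obj.map (toPre e V (op ⦋n⦌)).hom.op) ?_
    (ηT_bijective (eS e) (op ⦋n⦌) H (preV Y V (op ⦋n⦌)))
  exact (ConcreteCategory.isIso_iff_bijective _).1 inferInstance

/-- Inverse images of injective sheaves lie in the class in low degrees. -/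
theorem lQ_pS (m : ℕ) (hm : ∀ n, n ≤ m → IsIso (e.app (toAug.obj (op ⦋n⦌))))
    (hH : LQ Y m H) : LQ Y' m ((pS e).obj H) := by
  refine ⟨fun n hn => ?_, fun V' n hn u hu => ?_⟩
  · have := hm n hn
    have : IsIso ((eS e).app (op ⦋n⦌)) := inferInstanceAs (IsIso (e.app (toAug.obj (op ⦋n⦌))))
    have := hH.1 n hn
    exact injective_atLvl_Ls (eS e) (op ⦋n⦌) H
  · have := hm n (by omega)
    have := hm (n + 1) (by omega)
    have := hm (n + 1 + 1) (by omega)
    obtain ⟨V, rfl⟩ : ∃ V, (Opens.map (e.app bot)).obj V = V' :=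
      ⟨(Opens.map (inv (e.app bot))).obj V', Opens.ext (Set.ext fun x => iff_of_eq
        (congrArg (fun y => y ∈ V') (ConcreteCategory.congr_hom (IsIso.hom_inv_id (e.app bot)) x)))⟩
    obtain ⟨a, rfl⟩ := (psi_bijective e H V (n + 1)).2 u
    rw [← dC_map (psi e H V (n + 1)) (psi e H V (n + 1 + 1)) (fun i t => psi_face e H V i t)] at hu
    obtain ⟨w, hw⟩ := hH.2 V n hn a ((psi_bijective e H V (n + 1 + 1)).1 (hu.trans (map_zero _).symm))
    exact ⟨psi e H V n w,
      (dC_map (psi e H V n) (psi e H V (n + 1)) (fun i t => psi_face e H V i t) w).symm.trans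
        (congrArg _ hw)⟩

omit [IsIso (e.app bot)] in
/-- Direct images only see the first two levels. -/
lemma isIso_prY_map {K L : Sheaf (jt (toAug ⋙ Y)) AddCommGrpCat.{u}} (φ : K ⟶ L)
    (h : ∀ V n, n ≤ 1 → Function.Bijective (φ.hom.app (op ((cObj Y V).obj (op ⦋n⦌))))) :
    IsIso ((prY Y).map φ) := by
  have : IsIso ((sheafToPresheaf _ AddCommGrpCat.{u}).map ((prY Y).map φ)) := by
    rw [NatTrans.isIso_iff_isIso_app]
    rintro ⟨⟨⟨⟨⟩⟩⟩, U⟩
    obtain ⟨U, rfl⟩ : ∃ U' : Opens (Y.obj bot), U' = U := ⟨U, rfl⟩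
    refine (ConcreteCategory.isIso_iff_bijective _).2 ⟨fun s s' hs => ev_injective U ?_, fun s => ?_⟩
    · refine (h U 0 (Nat.zero_le _)).1 ?_
      exact (ev_hom U (op ⦋0⦌) φ s).symm.trans
        ((congrArg (ev Y L U (op ⦋0⦌)) hs).trans (ev_hom U (op ⦋0⦌) φ s'))
    · obtain ⟨a, ha⟩ := (h U 0 (Nat.zero_le _)).2 (ev Y L U (op ⦋0⦌) s)
      let a' : (coS Y K U).obj ⦋0⦌ := a
      have h1 : face U 0 a' = face U 1 a' := by
        refine (h U 1 le_rfl).1 ?_
        have hn : ∀ i : Fin 2, φ.hom.app _ (face U i a') =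
            face (K := L) U i (φ.hom.app (op ((cObj Y U).obj (op ⦋0⦌))) a') := fun i =>
          ConcreteCategory.congr_hom (φ.hom.naturality ((cObj Y U).map (SimplexCategory.δ i).op).op) a'
        refine (hn 0).trans (Eq.trans ?_ (hn 1).symm)
        exact (congrArg (face (K := L) U 0) ha).trans ((face_ev U 0 s).trans
          ((face_ev U 1 s).symm.trans (congrArg (face (K := L) U 1) ha.symm)))
      obtain ⟨x, hx⟩ := exists_ev_eq U a' h1
      exact ⟨x, ev_injective U ((ev_hom U (op ⦋0⦌) φ x).trans ((congrArg _ hx).trans ha))⟩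
  exact isIso_of_reflects_iso _ (sheafToPresheaf _ AddCommGrpCat.{u})

lemma isEquivalence_pB : (pB e).IsEquivalence :=
  have : IsIso (eB e) := by
    rw [NatTrans.isIso_iff_isIso_app]
    rintro ⟨⟨⟩⟩
    exact inferInstanceAs (IsIso (e.app bot))
  (CategoryTheory.Equivalence.mk (pB e) (Ls (resF (inv (eB e))) (jt _) (jt _))
    (lsRetrIso _ _ (IsIso.inv_hom_id (eB e))).symm
    (lsRetrIso _ _ (IsIso.hom_inv_id (eB e)))).isEquivalence_functor

theorem isIso_bcTrans_of_low [IsIso (e.app (toAug.obj (op ⦋0⦌)))]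
    [IsIso (e.app (toAug.obj (op ⦋1⦌)))] : IsIso (bcTrans e).natTrans := by
  rw [NatTrans.isIso_iff_isIso_app]
  intro H
  have := isEquivalence_pB e
  have : (rs (resF (eB e)) (jt (ptF bot ⋙ Y)) (jt (ptF bot ⋙ Y'))).IsEquivalence :=
    (adjL (resF (eB e)) (jt _) (jt _)).isEquivalence_right_of_isEquivalence_left
  have hη : IsIso ((prY Y).map ((adjL (resF (eS e)) (jt _) (jt _)).unit.app H)) := by
    refine isIso_prY_map _ fun V n hn => ?_
    have : IsIso ((eS e).app (op ⦋n⦌)) := by
      interval_cases n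
      · exact inferInstanceAs (IsIso (e.app (toAug.obj (op ⦋0⦌))))
      · exact inferInstanceAs (IsIso (e.app (toAug.obj (op ⦋1⦌))))
    exact ηT_bijective (eS e) (op ⦋n⦌) H (preV Y V (op ⦋n⦌))
  have hu := unit_mateEquiv_symm (adjL (resF (eS e)) (jt _) (jt _)) (adjL (resF (eB e)) (jt _) (jt _))
    (TwoSquare.mk _ _ _ _ (dirComm e).inv) H
  have : IsIso ((adjL (resF (eB e)) (jt (ptF bot ⋙ Y)) (jt (ptF bot ⋙ Y'))).unit.app
      ((prY Y).obj H) ≫ (rs (resF (eB e)) (jt (ptF bot ⋙ Y)) (jt (ptF bot ⋙ Y'))).map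
        ((bcTrans e).natTrans.app H)) := by
    erw [← hu]
    exact inferInstanceAs (IsIso ((prY Y).map ((adjL (resF (eS e)) (jt _) (jt _)).unit.app H) ≫
      (dirComm e).inv.app ((pS e).obj H)))
  have : IsIso ((rs (resF (eB e)) (jt (ptF bot ⋙ Y)) (jt (ptF bot ⋙ Y'))).map
      ((bcTrans e).natTrans.app H)) :=
    IsIso.of_isIso_comp_left ((adjL (resF (eB e)) (jt _) (jt _)).unit.app ((prY Y).obj H)) _
  exact isIso_of_reflects_iso _ (rs (resF (eB e)) (jt (ptF bot ⋙ Y)) (jt (ptF bot ⋙ Y')))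

/-- Vanishing of higher direct images of inverse images of acyclic sheaves. -/
theorem isZero_pS (k m : ℕ) (hkm : k + 2 ≤ m)
    (hm : ∀ n, n ≤ m → IsIso (e.app (toAug.obj (op ⦋n⦌)))) :
    ∀ X, Acy (prY Y) X → IsZero (((prY Y').rightDerived (k + 1)).obj ((pS e).obj X)) := by
  have := preservesFiniteLimits_prY Y
  have := preservesFiniteLimits_prY Y'
  have := (exact_Ls_resF (eS e)).1
  have := (exact_Ls_resF (eS e)).2
  have := hm 0 (by omega)
  have := hm 1 (by omega)
  have := isIso_bcTrans_of_low e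
  induction k with
  | zero =>
    intro X hX
    let T : ShortComplex (Sheaf (jt (toAug ⋙ Y)) AddCommGrpCat.{u}) :=
      ShortComplex.mk (Injective.ι X) (cokernel.π (Injective.ι X)) (cokernel.condition _)
    have hT : T.ShortExact :=
      { exact := ShortComplex.exact_of_g_is_cokernel _ (cokernelIsCokernel (Injective.ι X)) }
    have : Epi ((prY Y).map T.g) := CohDerLib.Acyclic.epi_map_g hT (hX 1 one_pos)
    have : PreservesFiniteColimits (pB e) := (exact_Ls_resF (eB e)).2
    have : Epi ((prY Y').map ((pS e).map T.g)) := by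
      have hn : (pB e).map ((prY Y).map T.g) ≫ (bcTrans e).natTrans.app T.X₃ =
          (bcTrans e).natTrans.app T.X₂ ≫ (prY Y').map ((pS e).map T.g) :=
        (bcTrans e).natTrans.naturality T.g
      have h1 : Epi ((pB e).map ((prY Y).map T.g)) :=
        @Functor.map_epi _ _ _ _ (pB e) (Functor.preservesEpimorphisms_of_adjunction
          (adjL (resF (eB e)) (jt (ptF bot ⋙ Y)) (jt (ptF bot ⋙ Y')))) _ _ _ _
      have h2 : Epi ((bcTrans e).natTrans.app T.X₃) := inferInstance
      have : Epi ((bcTrans e).natTrans.app T.X₂ ≫ (prY Y').map ((pS e).map T.g)) :=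
        hn ▸ @epi_comp _ _ _ _ _ _ h1 _ h2
      exact epi_of_epi ((bcTrans e).natTrans.app T.X₂) _
    have hT' := hT.map_of_exact (pS e)
    have h2 : IsZero (((prY Y').rightDerived 1).obj (T.map (pS e)).X₂) :=
      isZero_of_lQ 0 _ ((lQ_pS e T.X₂ m hm (lQ_of_injective Y _ m)).of_le hkm)
    refine ((RDerLES.derivedLES (prY Y')).exact₁ _ hT' 0 1 rfl).isZero_X₂ ?_ (h2.eq_of_tgt _ _)
    have : Epi (((prY Y').rightDerived 0).map (T.map (pS e)).g) := by
      have hn : (prY Y').map (T.map (pS e)).g ≫ (prY Y').toRightDerivedZero.app _ =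
          (prY Y').toRightDerivedZero.app _ ≫ ((prY Y').rightDerived 0).map (T.map (pS e)).g :=
        (prY Y').toRightDerivedZero.naturality _
      have : Epi ((prY Y').map (T.map (pS e)).g) :=
        inferInstanceAs (Epi ((prY Y').map ((pS e).map T.g)))
      have : Epi ((prY Y').toRightDerivedZero.app _ ≫
          ((prY Y').rightDerived 0).map (T.map (pS e)).g) := hn ▸ inferInstance
      exact epi_of_epi ((prY Y').toRightDerivedZero.app _) _
    rw [← cancel_epi (((prY Y').rightDerived 0).map (T.map (pS e)).g), comp_zero]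
    exact (RDerLES.derivedLES (prY Y')).comp_δ _ hT' 0 1 rfl
  | succ k ih =>
    intro X hX
    let T : ShortComplex (Sheaf (jt (toAug ⋙ Y)) AddCommGrpCat.{u}) :=
      ShortComplex.mk (Injective.ι X) (cokernel.π (Injective.ι X)) (cokernel.condition _)
    have hT : T.ShortExact :=
      { exact := ShortComplex.exact_of_g_is_cokernel _ (cokernelIsCokernel (Injective.ι X)) }
    have h3 : Acy (prY Y) T.X₃ := fun i hi =>
      ((RDerLES.derivedLES (prY Y)).exact₃ T hT i (i + 1) rfl).isZero_X₂
        ((CohDerLib.Acyclic.acy_of_injective (F := prY Y) T.X₂ i hi).eq_of_src _ _)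
        ((hX (i + 1) i.succ_pos).eq_of_tgt _ _)
    have h2 : IsZero (((prY Y').rightDerived (k + 1 + 1)).obj (T.map (pS e)).X₂) :=
      isZero_of_lQ (k + 1) _ ((lQ_pS e T.X₂ m hm (lQ_of_injective Y _ m)).of_le hkm)
    exact ((RDerLES.derivedLES (prY Y')).exact₁ _ (hT.map_of_exact (pS e)) (k + 1) (k + 1 + 1)
      rfl).isZero_X₂ ((ih (by omega) _ h3).eq_of_src _ _) (h2.eq_of_tgt _ _)

omit e in
/-- Descent follows from descent of approximations. -/
theorem Desc.of_approx (Y' : Δp ⥤ TopCat.{u}) (h : ∀ m : ℕ, ∃ (Y : Δp ⥤ TopCat.{u}) (e : Y' ⟶ Y),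
    IsIso (e.app bot) ∧ (∀ n, n ≤ m → IsIso (e.app (toAug.obj (op ⦋n⦌)))) ∧ Desc toAug bot Y) :
    Desc toAug bot Y' where
  isIso_unit := by
    obtain ⟨Y, e, _, hm, hY⟩ := h 1
    have := hm 0 (by omega)
    have := hm 1 le_rfl
    have := isEquivalence_pB e
    have := isIso_invComm e
    have := isIso_bcTrans_of_low e
    let adj := adjS (bcMor toAug Y).functor (bcMor (ptF bot) Y).functor (jt _) (jt _) (jt Y)
    let adj' := adjS (bcMor toAug Y').functor (bcMor (ptF bot) Y').functor (jt _) (jt _) (jt Y')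
    rw [NatTrans.isIso_iff_isIso_app]
    intro X'
    refine (NatTrans.isIso_app_iff_of_iso adj'.unit ((pB e).objObjPreimageIso X')).1 ?_
    have hM : mateEquiv adj adj' (invComm e) = bcTrans e := by
      rw [invComm, Equiv.apply_symm_apply]
    have hu := unit_mateEquiv adj adj' (invComm e) ((pB e).objPreimage X')
    rw [hM] at hu
    have := hY.isIso_unit
    have : IsIso (adj'.unit.app ((pB e).obj ((pB e).objPreimage X')) ≫
        (prY Y').map ((invComm e).natTrans.app ((pB e).objPreimage X'))) := by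
      erw [← hu]
      exact inferInstanceAs (IsIso ((pB e).map (adj.unit.app _) ≫ (bcTrans e).natTrans.app _))
    exact IsIso.of_isIso_comp_right _ ((prY Y').map ((invComm e).natTrans.app _))
  acy X' k hk := by
    obtain ⟨j, rfl⟩ : ∃ j, k = j + 1 := ⟨k - 1, by omega⟩
    obtain ⟨Y, e, _, hm, hY⟩ := h (j + 2)
    have := isEquivalence_pB e
    have := isIso_invComm e
    refine IsZero.of_iso (isZero_pS e j (j + 2) le_rfl hm _ (hY.acy ((pB e).objPreimage X'))) ?_
    exact ((prY Y').rightDerived (j + 1)).mapIso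
      ((pl (bcMor toAug Y').functor (bcMor (ptF bot) Y').functor (jt _) (jt _) (jt Y')).mapIso
        ((pB e).objObjPreimageIso X').symm ≪≫ asIso ((invComm e).natTrans.app _))

end Groth.Agent.FibDescLib
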