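import Groth.Agent.FibDescLib.AugSp
import Groth.Agent.FibDescLib.Diag
import Groth.Agent.FibDescLib.RetractSp
import Groth.Agent.FibDescLib.Trunc

/-!
# Hypercoverings for universal cohomological descent
-/

universe u

open CategoryTheory CategoryTheory.Limits Opposite TopologicalSpace Simplicial

namespace Groth.Agent.FibDescLib

open Groth.Agent.SSetLib (UniqueLift hom_ext_of_le exists_extension natTrans_ext uniqueLift
  isCoskeletal_cosk_obj hasPointwiseRightKanExtension)

lemma uniqueLift_succ {C : Type*} [Category C] {U : SimplicialObject C} {n : ℕ}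
    (h : UniqueLift U n) : UniqueLift U (n + 1) := by
  intro M T e he
  obtain ⟨g, hg, hu⟩ := h M T (fun k hk φ => e k (hk.trans n.le_succ) φ)
    (fun k k' hk hk' ψ φ => he k k' _ _ ψ φ)
  refine ⟨g, fun k hk φ => hom_ext_of_le h fun i hi ψ => ?_, fun g' hg' =>
    hu g' fun k hk φ => hg' k _ φ⟩
  rw [Category.assoc, ← U.map_comp, ← op_comp, hg i hi (ψ ≫ φ)]
  exact he k i hk _ ψ φ

variable {S : TopCat.{u}}

/-- Universal descent, as a property of maps over `S`. -/
def univP : MorphismProperty (Over S) := fun _ _ f => Univ f.left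

instance : (univP (S := S)).IsStableUnderBaseChange where
  of_isPullback {X Y Y' T f g f' g'} sq hg :=
    Univ.of_isPullback (sq.map (Over.forget S)) hg

instance : (univP (S := S)).IsStableUnderComposition where
  comp_mem _ _ hf hg := Univ.comp hf hg

instance : (univP (S := S)).ContainsIdentities where
  id_mem X := Univ.of_section (f := 𝟙 X.left) (𝟙 X.left) (Category.id_comp _)

lemma univ_of_isIso {X Y : TopCat.{u}} (f : X ⟶ Y) [IsIso f] : Univ f :=
  Univ.of_section (inv f) (IsIso.inv_hom_id f)

instance : (univP (S := S)).RespectsIso :=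
  MorphismProperty.RespectsIso.mk _
    (fun {X Y Z} e f hf => Univ.comp (f := e.hom.left) (g := f.left)
      (have : IsIso e.hom.left := inferInstanceAs (IsIso ((Over.forget S).map e.hom))
       univ_of_isIso _) hf)
    (fun {X Y Z} e f hf => Univ.comp (f := f.left) (g := e.hom.left) hf
      (have : IsIso e.hom.left := inferInstanceAs (IsIso ((Over.forget S).map e.hom))
       univ_of_isIso _))

lemma map_toBot_augSp (K : SimplicialObject (Over S)) (n : SimplexCategoryᵒᵖ) :
    (augSp K).map (toBot (toAug.obj n)) = (K.obj n).hom := rfl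

section Step

variable {A B : SimplicialObject (Over S)} (π : B ⟶ A) {m : ℕ}

/-- The diagonal of the nerves of the components. -/
noncomputable abbrev stepD : Δp ⥤ TopCat.{u} := diagD (nerveZ (augHom π))

/-- Its simplicial space over `S`. -/
noncomputable abbrev stepW : SimplicialObject (Over S) := overOf (stepD π)

/-- Constant tuples. -/
noncomputable def stepI : B ⟶ stepW π where
  app n := Over.homMk (TopCat.ofHom
    (⟨fun b => ⟨fun _ => b, fun _ _ => rfl⟩,
      Continuous.subtype_mk (continuous_pi fun _ => continuous_id) _⟩ :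
      C((B.obj n).left, tup (π.app n).left n.unop.len))) (by
    ext b
    exact ConcreteCategory.congr_hom (Over.w (π.app n)) b)
  naturality {n n'} φ := by
    ext b : 2
    exact Subtype.ext (funext fun i => rfl)

/-- The coordinates. -/
noncomputable def stepX (k : ℕ) (i : Fin (k + 1)) : (stepW π) _⦋k⦌ ⟶ B _⦋k⦌ :=
  Over.homMk (coord (π.app (op ⦋k⦌)).left k i) (by
    ext x
    show (B.obj (op ⦋k⦌)).hom (Subtype.val x i) =
      (A.obj (op ⦋k⦌)).hom ((π.app (op ⦋k⦌)).left (Subtype.val x 0))
    refine (ConcreteCategory.congr_hom (Over.w (π.app (op ⦋k⦌))) (Subtype.val x i)).symm.trans ?_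
    exact congrArg (A.obj (op ⦋k⦌)).hom (x.2 i 0))

variable (hπ : ∀ k, k ≤ m → IsIso (π.app (op ⦋k⦌))) (hA : UniqueLift A (m + 1))
  (hB : UniqueLift B (m + 1))

include hπ hA hB in
/-- The inductive step. -/
theorem desc_step (hu : Univ (π.app (op ⦋m + 1⦌)).left) (hA' : Desc toAug bot (augSp A)) :
    Desc toAug bot (augSp B) := by
  have hP : ∀ p, univP (π.app (op ⦋p⦌)) := by
    refine property_app hπ hA hB univP fun k hk => ?_
    rcases hk.lt_or_eq with hlt | rfl
    · have := hπ k (Nat.lt_succ_iff.1 hlt)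
      exact univ_of_isIso ((Over.forget S).map (π.app (op ⦋k⦌)))
    · exact hu
  have hD : Desc toAug bot (stepD π) := by
    refine desc_diag _ (descGrid _ (Desc.of_iso (lineBaseIso (augHom π)) hA') fun n => ?_)
    refine Desc.of_iso (lineNerveIso (augHom π) (toAug.obj n)) (Univ.desc ?_)
    obtain ⟨⟨p⟩⟩ := n
    exact hP p
  obtain ⟨r₀, hr₀⟩ := exists_first_vertex π hπ hB (W := stepW π) (stepX π)
    (fun k k' ψ i => by
      ext x : 2
      rfl)
    (fun k i j => by
      ext x : 2
      exact Subtype.prop x i j)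
  have h : stepI π ≫ r₀ = 𝟙 B := by
    refine natTrans_ext hB fun k hk => ?_
    rw [NatTrans.comp_app, hr₀ k hk]
    rfl
  refine Desc.of_retract (augHom (stepI π) ≫ (overOfIso (stepD π)).hom)
    ((overOfIso (stepD π)).inv ≫ augHom r₀) ?_ ?_ hD
  · refine (Category.assoc _ _ _).trans ?_
    refine (congrArg (augHom (stepI π) ≫ ·) ((overOfIso (stepD π)).hom_inv_id_assoc _)).trans ?_
    exact (augHom_comp (stepI π) r₀).symm.trans ((congrArg augHom h).trans augHom_id)
  · rfl

end Step

section Tower

variable [∀ (n : ℕ) (G : (SimplexCategory.Truncated n)ᵒᵖ ⥤ Over S),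
    (SimplexCategory.Truncated.inclusion n).op.HasRightKanExtension G]
  (K : SimplicialObject (Over S))

/-- The coskeleta. -/
noncomputable abbrev ck (m : ℕ) : SimplicialObject (Over S) :=
  (SimplicialObject.Truncated.cosk m).obj ((SimplicialObject.truncation m).obj K)

/-- The units. -/
noncomputable abbrev ηk (m : ℕ) : K ⟶ ck K m := (SimplicialObject.coskAdj m).unit.app K

lemma uniqueLift_ck (m : ℕ) : UniqueLift (ck K m) m := by
  have := isCoskeletal_cosk_obj m ((SimplicialObject.truncation m).obj K)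
  exact uniqueLift _ m

lemma isIso_ηk (m k : ℕ) (hk : k ≤ m) : IsIso ((ηk K m).app (op ⦋k⦌)) := by
  have := hasPointwiseRightKanExtension (C := Over S) m
  have := SimplicialObject.Truncated.cosk_reflective (C := Over S) m
  have h := (SimplicialObject.coskAdj (C := Over S) m).left_triangle_components K
  have : IsIso ((SimplicialObject.truncation m).map (ηk K m) ≫
      (SimplicialObject.coskAdj (C := Over S) m).counit.app
        ((SimplicialObject.truncation m).obj K)) := by
    rw [h]
    exact inferInstanceAs (IsIso (𝟙 _))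
  have hi : IsIso ((SimplicialObject.truncation m).map (ηk K m)) :=
    IsIso.of_isIso_comp_right _ ((SimplicialObject.coskAdj (C := Over S) m).counit.app
      ((SimplicialObject.truncation m).obj K))
  exact inferInstanceAs (IsIso (((SimplicialObject.truncation m).map (ηk K m)).app
    (op (⟨⦋k⦌, hk⟩ : SimplexCategory.Truncated m))))

lemma exists_πk (m : ℕ) : ∃ π : ck K (m + 1) ⟶ ck K m, ηk K (m + 1) ≫ π = ηk K m := by
  obtain ⟨π, hπ⟩ := exists_extension (uniqueLift_ck K m) (W := ck K (m + 1))
    (fun k hk => have := isIso_ηk K (m + 1) k (hk.trans m.le_succ)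
      inv ((ηk K (m + 1)).app (op ⦋k⦌)) ≫ (ηk K m).app (op ⦋k⦌)) (fun k k' hk hk' ψ => by
      have := isIso_ηk K (m + 1) k (hk.trans m.le_succ)
      have := isIso_ηk K (m + 1) k' (hk'.trans m.le_succ)
      rw [Category.assoc, ← (ηk K m).naturality ψ.op, IsIso.eq_inv_comp, ← Category.assoc,
        ← (ηk K (m + 1)).naturality ψ.op, Category.assoc, IsIso.hom_inv_id_assoc])
  refine ⟨π, natTrans_ext (uniqueLift_ck K m) fun k hk => ?_⟩
  rw [NatTrans.comp_app, hπ k hk, IsIso.hom_inv_id_assoc]

/-- The model of the zeroth coskeleton. -/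
noncomputable abbrev cechW : SimplicialObject (Over S) := overOf (cech (K _⦋0⦌).hom)

/-- The vertices of a simplex of the zeroth coskeleton. -/
noncomputable def vert (n : SimplexCategoryᵒᵖ) (i : Fin (n.unop.len + 1)) :
    (ck K 0).obj n ⟶ K _⦋0⦌ :=
  have := isIso_ηk K 0 0 le_rfl
  (ck K 0).map (SimplexCategory.const ⦋0⦌ n.unop i).op ≫ inv ((ηk K 0).app (op ⦋0⦌))

/-- Simplices of the zeroth coskeleton as tuples. -/
noncomputable def toTup : ck K 0 ⟶ cechW K where
  app n := Over.homMk (TopCat.ofHom
    (⟨fun x => ⟨fun i => (vert K n i).left x, fun i j => by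
      exact (ConcreteCategory.congr_hom (Over.w (vert K n i)) x).trans
        (ConcreteCategory.congr_hom (Over.w (vert K n j)) x).symm⟩,
      Continuous.subtype_mk (continuous_pi fun i => (vert K n i).left.hom.continuous) _⟩ :
      C(((ck K 0).obj n).left, tup (K _⦋0⦌).hom n.unop.len))) (by
    ext x
    exact ConcreteCategory.congr_hom (Over.w (vert K n 0)) x)
  naturality {n n'} φ := by
    ext x : 2
    refine Subtype.ext (funext fun i => ?_)
    show (vert K n' i).left (((ck K 0).map φ).left x) = (vert K n _).left x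
    refine ConcreteCategory.congr_hom (congrArg CommaMorphism.left
      (?_ : (ck K 0).map φ ≫ vert K n' i = vert K n (φ.unop.toOrderHom i))) x
    have := isIso_ηk K 0 0 le_rfl
    rw [vert, vert, ← Category.assoc, ← (ck K 0).map_comp]
    rfl

/-- The base of the induction. -/
theorem desc_ck_zero (h : Univ (K _⦋0⦌).hom) : Desc toAug bot (augSp (ck K 0)) := by
  have := isIso_ηk K 0 0 le_rfl
  let c : (cechW K) _⦋0⦌ ⟶ K _⦋0⦌ := Over.homMk (coord (K _⦋0⦌).hom 0 0) (by
    ext x
    rfl)
  obtain ⟨F, hF⟩ := exists_extension (uniqueLift_ck K 0) (W := cechW K)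
    (fun k hk => by
      obtain rfl := Nat.le_zero.1 hk
      exact c ≫ (ηk K 0).app (op ⦋0⦌)) (fun k k' hk hk' ψ => by
      obtain rfl := Nat.le_zero.1 hk
      obtain rfl := Nat.le_zero.1 hk'
      obtain rfl : ψ = 𝟙 _ := Subsingleton.elim _ _
      simp)
  have hF0 : F.app (op ⦋0⦌) = c ≫ (ηk K 0).app (op ⦋0⦌) := hF 0 le_rfl
  have hvert : vert K (op ⦋0⦌) 0 = inv ((ηk K 0).app (op ⦋0⦌)) := by
    rw [vert, show SimplexCategory.const ⦋0⦌ ⦋0⦌ 0 = 𝟙 _ from Subsingleton.elim _ _, op_id,
      CategoryTheory.Functor.map_id, Category.id_comp]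
  have h₁ : toTup K ≫ F = 𝟙 _ := by
    refine natTrans_ext (uniqueLift_ck K 0) fun k hk => ?_
    obtain rfl := Nat.le_zero.1 hk
    rw [NatTrans.comp_app, hF0]
    have hc : (toTup K).app (op ⦋0⦌) ≫ c = vert K (op ⦋0⦌) 0 := by
      ext x : 2
      rfl
    rw [← Category.assoc, hc, hvert, IsIso.inv_hom_id]
    rfl
  have h₂ : F ≫ toTup K = 𝟙 _ := by
    ext n x : 4
    refine Subtype.ext (funext fun i => ?_)
    show (vert K n i).left ((F.app n).left x) = Subtype.val x i
    refine (ConcreteCategory.congr_hom (congrArg CommaMorphism.left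
      (?_ : F.app n ≫ vert K n i = (cechW K).map (SimplexCategory.const ⦋0⦌ n.unop i).op ≫ c)) x)
    rw [vert, ← Category.assoc, ← F.naturality, Category.assoc, hF0, Category.assoc,
      IsIso.hom_inv_id, Category.comp_id]
  let Φ : augSp (cechW K) ≅ augSp (ck K 0) :=
    { hom := augHom F
      inv := augHom (toTup K)
      hom_inv_id := by rw [← augHom_comp, h₂, augHom_id]
      inv_hom_id := by rw [← augHom_comp, h₁, augHom_id] }
  exact Desc.of_iso ((overOfIso (cech (K _⦋0⦌).hom)).symm ≪≫ Φ) h.desc

/-- A hypercovering for universal descent satisfies descent. -/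
theorem desc_hyper (h0 : Univ (K _⦋0⦌).hom)
    (hn : ∀ n : ℕ, Univ ((ηk K n).app (op ⦋n + 1⦌)).left) : Desc toAug bot (augSp K) := by
  have hC : ∀ m, Desc toAug bot (augSp (ck K m)) := by
    intro m
    induction m with
    | zero => exact desc_ck_zero K h0
    | succ m ih =>
      obtain ⟨π, hπ⟩ := exists_πk K m
      have hπk : ∀ k, k ≤ m + 1 → (ηk K (m + 1)).app (op ⦋k⦌) ≫ π.app (op ⦋k⦌) =
          (ηk K m).app (op ⦋k⦌) := fun k _ => NatTrans.congr_app hπ _
      refine desc_step π (m := m) (fun k hk => ?_) (uniqueLift_succ (uniqueLift_ck K m))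
        (uniqueLift_ck K (m + 1)) ?_ ih
      · have := isIso_ηk K (m + 1) k (hk.trans m.le_succ)
        have := isIso_ηk K m k hk
        have : IsIso ((ηk K (m + 1)).app (op ⦋k⦌) ≫ π.app (op ⦋k⦌)) := by
          rw [hπk k (hk.trans m.le_succ)]
          infer_instance
        exact IsIso.of_isIso_comp_left ((ηk K (m + 1)).app (op ⦋k⦌)) _
      · have := isIso_ηk K (m + 1) (m + 1) le_rfl
        have e : π.app (op ⦋m + 1⦌) =
            inv ((ηk K (m + 1)).app (op ⦋m + 1⦌)) ≫ (ηk K m).app (op ⦋m + 1⦌) := by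
          rw [IsIso.eq_inv_comp]
          exact hπk _ le_rfl
        rw [e]
        exact (MorphismProperty.cancel_left_of_respectsIso (univP (S := S)) _ _).2 (hn m)
  refine Desc.of_approx _ fun m => ⟨_, augHom (ηk K m), ?_, fun n hn' => ?_, hC m⟩
  · exact inferInstanceAs (IsIso (𝟙 S))
  · have := isIso_ηk K m n hn'
    exact inferInstanceAs (IsIso ((Over.forget S).map ((ηk K m).app (op ⦋n⦌))))

end Tower

end Groth.Agent.FibDescLib
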