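import Groth.Agent.FibDescLib.ProperDesc

/-!
# Sheaves with injective levels and exact cosimplicial sections in a range of degrees
-/

universe u

open CategoryTheory CategoryTheory.Limits Opposite TopologicalSpace Simplicial

namespace Groth.Agent.FibDescLib

open Groth.Agent.ModShf.AcyclicRes (GoodClass)

variable (Y : Δp ⥤ TopCat.{u})

/-- Injective levels up to `j` and exact sections below degree `j`. -/
def LQ (j : ℕ) : ObjectProperty (Sheaf (jt (toAug ⋙ Y)) AddCommGrpCat.{u}) := fun K =>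
  (∀ n : ℕ, n ≤ j → Injective (atLvl (Y := toAug ⋙ Y) (op ⦋n⦌) K)) ∧
    ∀ (V : Opens (Y.obj bot)) (n : ℕ), n + 1 < j → ∀ t : (coS Y K V).obj ⦋n + 1⦌, dC V t = 0 →
      ∃ w : (coS Y K V).obj ⦋n⦌, dC V w = t

lemma lQ_of_injective (K : Sheaf (jt (toAug ⋙ Y)) AddCommGrpCat.{u}) [Injective K] (j : ℕ) :
    LQ Y j K := by
  refine ⟨fun n _ => ?_, fun V n _ => cExact_of_injective Y K V n⟩
  have := preservesInjectiveObjects_atLvl (toAug ⋙ Y) (op ⦋n⦌)
  exact Functor.injective_obj _ K

variable {Y}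

lemma LQ.of_le {i j : ℕ} (h : i ≤ j) {K : Sheaf (jt (toAug ⋙ Y)) AddCommGrpCat.{u}}
    (hK : LQ Y j K) : LQ Y i K :=
  ⟨fun n hn => hK.1 n (hn.trans h), fun V n hn => hK.2 V n (by omega)⟩

section Seq

variable (T : ShortComplex (Sheaf (jt (toAug ⋙ Y)) AddCommGrpCat.{u})) (hT : T.ShortExact)

include hT

lemma sect_left (A : (Tot (toAug ⋙ Y))ᵒᵖ) :
    Function.Injective (T.f.hom.app A) ∧
      ∀ y, T.g.hom.app A y = 0 → ∃ x, T.f.hom.app A x = y := by
  let G := sheafToPresheaf (jt (toAug ⋙ Y)) AddCommGrpCat.{u} ⋙ (evaluation _ _).obj A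
  have : G.Additive :=
    { map_add := fun {X Z} {f g} => rfl }
  have := hT.mono_f
  have h := hT.exact.map_of_mono_of_preservesKernel G inferInstance inferInstance
  have hm : Mono (G.map T.f) := inferInstance
  exact ⟨(AddCommGrpCat.mono_iff_injective _).1 hm, fun y hy => (ShortComplex.ab_exact_iff _).1 h y hy⟩

lemma sect_right (k : SimplexCategoryᵒᵖ) (hk : Injective (atLvl (Y := toAug ⋙ Y) k T.X₁))
    (U : Opens ((toAug ⋙ Y).obj k)) :
    Function.Surjective (T.g.hom.app (op (pt k U))) := by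
  let L := rs (lvl (toAug ⋙ Y) k) (Opens.grothendieckTopology _) (jt (toAug ⋙ Y))
  have : Injective (T.map L).X₁ := hk
  let s := (hT.map_of_exact L).splittingOfInjective
  intro t
  refine ⟨s.s.hom.app (op U) t, ?_⟩
  exact ConcreteCategory.congr_hom (congrArg (fun φ => φ.hom.app (op U)) s.s_g) t

/-- Cokernels lose one degree. -/
theorem lQ_coker {j : ℕ} (h₁ : LQ Y (j + 1) T.X₁) (h₂ : LQ Y j T.X₂) : LQ Y j T.X₃ := by
  refine ⟨fun n hn => ?_, fun V n hn t ht => ?_⟩
  · let L := rs (lvl (toAug ⋙ Y) (op ⦋n⦌)) (Opens.grothendieckTopology _) (jt (toAug ⋙ Y))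
    have : Injective (T.map L).X₁ := h₁.1 n (by omega)
    let s := (hT.map_of_exact L).splittingOfInjective
    exact (Retract.mk s.s (L.map T.g) s.s_g :
      Retract (L.obj T.X₃) (L.obj T.X₂)).injective (i := h₂.1 n hn)
  · obtain ⟨y, rfl⟩ := sect_right T hT (op ⦋n + 1⦌) (h₁.1 _ (by omega)) (preV Y V _) t
    let y' : (coS Y T.X₂ V).obj ⦋n + 1⦌ := y
    obtain ⟨z, hz⟩ := (sect_left T hT _).2 (dC V y') ((dC_hom T.g y').trans ht)
    let z' : (coS Y T.X₁ V).obj ⦋n + 1 + 1⦌ := z
    have hz0 : dC V z' = 0 := by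
      refine (sect_left T hT _).1 ?_
      exact ((dC_hom T.f z').trans ((congrArg (dC V) hz).trans (dC_dC V y'))).trans
        (map_zero _).symm
    obtain ⟨w, hw⟩ := h₁.2 V (n + 1) (by omega) z' hz0
    obtain ⟨v, hv⟩ := h₂.2 V n hn
      (y' - (show (coS Y T.X₂ V).obj ⦋n + 1⦌ from T.f.hom.app _ w)) (by
      show (AlgebraicTopology.AlternatingCofaceMapComplex.objD (coS Y T.X₂ V) (n + 1)) _ = 0
      rw [map_sub, sub_eq_zero]
      exact hz.symm.trans ((congrArg _ hw.symm).trans (dC_hom T.f w)))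
    refine ⟨T.g.hom.app _ v, (dC_hom T.g v).symm.trans ((congrArg _ hv).trans ?_)⟩
    refine (map_sub _ _ _).trans (sub_eq_self.2 ?_)
    exact ConcreteCategory.congr_hom (congrArg (fun φ => φ.hom.app _) T.zero) w

/-- Direct images are right exact on the class. -/
theorem epi_prY (h₁ : LQ Y 2 T.X₁) : Epi ((prY Y).map T.g) := by
  have : Epi ((sheafToPresheaf _ AddCommGrpCat.{u}).map ((prY Y).map T.g)) := by
    rw [NatTrans.epi_iff_epi_app]
    rintro ⟨⟨⟨⟨⟩⟩⟩, U⟩
    obtain ⟨U, rfl⟩ : ∃ U' : Opens (Y.obj bot), U' = U := ⟨U, rfl⟩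
    refine (AddCommGrpCat.epi_iff_surjective _).2 fun s => ?_
    obtain ⟨y, hy⟩ := sect_right T hT (op ⦋0⦌) (h₁.1 0 (by omega)) (preV Y U _)
      (ev Y T.X₃ U (op ⦋0⦌) s)
    let y' : (coS Y T.X₂ U).obj ⦋0⦌ := y
    obtain ⟨z, hz⟩ := (sect_left T hT _).2 (dC U y') (by
      refine (dC_hom T.g y').trans ((congrArg (dC U) hy).trans ?_)
      rw [dC_zero, face_ev, face_ev, sub_self]
      rfl)
    let z' : (coS Y T.X₁ U).obj ⦋0 + 1⦌ := z
    have hz0 : dC U z' = 0 := by
      refine (sect_left T hT _).1 ?_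
      exact ((dC_hom T.f z').trans ((congrArg (dC U) hz).trans (dC_dC U y'))).trans
        (map_zero _).symm
    obtain ⟨w, hw⟩ := h₁.2 U 0 (by omega) z' hz0
    have h0 : dC (K := T.X₂) U
        (y' - (show (coS Y T.X₂ U).obj ⦋0⦌ from T.f.hom.app _ w)) = 0 := by
      show (AlgebraicTopology.AlternatingCofaceMapComplex.objD (coS Y T.X₂ U) 0) _ = 0
      rw [map_sub, sub_eq_zero]
      exact hz.symm.trans ((congrArg _ hw.symm).trans (dC_hom T.f w))
    rw [dC_zero, sub_eq_zero] at h0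
    obtain ⟨x, hx⟩ := exists_ev_eq U _ h0
    refine ⟨x, ev_injective U ?_⟩
    refine (ev_hom U (op ⦋0⦌) T.g x).trans ((congrArg _ hx).trans ?_)
    refine (map_sub _ _ _).trans ?_
    refine (sub_eq_self.2 ?_).trans hy
    exact ConcreteCategory.congr_hom (congrArg (fun φ => φ.hom.app _) T.zero) w
  exact (sheafToPresheaf _ AddCommGrpCat.{u}).epi_of_epi_map this

end Seq

variable (Y) in
lemma preservesFiniteLimits_prY : PreservesFiniteLimits (prY Y) := by
  have : (prY Y).IsRightAdjoint := (adjS (bcMor toAug Y).functor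
    (bcMor (ptF bot) Y).functor (jt _) (jt _) (jt Y)).isRightAdjoint
  exact ⟨fun J _ _ => inferInstance⟩

variable (Y) in
/-- The class in all degrees is good for the direct image. -/
theorem goodClass_lQ : GoodClass (prY Y) (fun K => ∀ j, LQ Y j K) where
  of_injective K hK j := by
    have : Injective K := hK
    exact lQ_of_injective Y K j
  coker T hT h₁ h₂ j := lQ_coker T hT (h₁ (j + 1)) (h₂ j)
  epi T hT h₁ := epi_prY T hT (h₁ 2)

/-- Higher direct images vanish below the degree of the class. -/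
theorem isZero_of_lQ (k : ℕ) : ∀ H : Sheaf (jt (toAug ⋙ Y)) AddCommGrpCat.{u}, LQ Y (k + 2) H →
    IsZero (((prY Y).rightDerived (k + 1)).obj H) := by
  have := preservesFiniteLimits_prY Y
  induction k with
  | zero =>
    intro H hH
    let T : ShortComplex (Sheaf (jt (toAug ⋙ Y)) AddCommGrpCat.{u}) :=
      ShortComplex.mk (Injective.ι H) (cokernel.π (Injective.ι H)) (cokernel.condition _)
    have hT : T.ShortExact :=
      { exact := ShortComplex.exact_of_g_is_cokernel _ (cokernelIsCokernel (Injective.ι H)) }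
    have := epi_prY T hT hH
    have hδ := (RDerLES.derivedLES (prY Y)).exact₁ T hT 0 1 rfl
    refine hδ.isZero_X₂ ?_
      ((Functor.isZero_rightDerived_obj_injective_succ (prY Y) 0 T.X₂).eq_of_tgt _ _)
    have : Epi (((prY Y).rightDerived 0).map T.g) := by
      have e : (prY Y).map T.g ≫ (prY Y).toRightDerivedZero.app T.X₃ =
          (prY Y).toRightDerivedZero.app T.X₂ ≫ ((prY Y).rightDerived 0).map T.g :=
        (prY Y).toRightDerivedZero.naturality T.g
      have : Epi ((prY Y).toRightDerivedZero.app T.X₂ ≫ ((prY Y).rightDerived 0).map T.g) :=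
        e ▸ inferInstance
      exact epi_of_epi ((prY Y).toRightDerivedZero.app T.X₂) _
    rw [← cancel_epi (((prY Y).rightDerived 0).map T.g), comp_zero]
    exact (RDerLES.derivedLES (prY Y)).comp_δ T hT 0 1 rfl
  | succ k ih =>
    intro H hH
    let T : ShortComplex (Sheaf (jt (toAug ⋙ Y)) AddCommGrpCat.{u}) :=
      ShortComplex.mk (Injective.ι H) (cokernel.π (Injective.ι H)) (cokernel.condition _)
    have hT : T.ShortExact :=
      { exact := ShortComplex.exact_of_g_is_cokernel _ (cokernelIsCokernel (Injective.ι H)) }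
    have h3 : LQ Y (k + 2) T.X₃ := lQ_coker T hT hH (lQ_of_injective Y _ _)
    exact ((RDerLES.derivedLES (prY Y)).exact₁ T hT (k + 1) (k + 1 + 1) rfl).isZero_X₂
      ((ih _ h3).eq_of_src _ _)
      ((Functor.isZero_rightDerived_obj_injective_succ (prY Y) (k + 1) T.X₂).eq_of_tgt _ _)

end Groth.Agent.FibDescLib
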