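import Groth.Agent.FibDescLib.Restr
import Groth.Agent.CohTop.Proper.Soft
import Groth.Agent.CohTop.Proper.Nbhd

/-!
# Inverse images of sheaves on diagrams of spaces, level by level
-/

universe u

open CategoryTheory CategoryTheory.Limits Opposite TopologicalSpace Pseudofunctor.CoGrothendieck

namespace Groth.Agent.FibDescLib

open Groth.Agent.CohTop.Proper.Extend Groth.Agent.CohTop.Proper.Soft
  Groth.Agent.CohTop.Proper.Nbhd

variable {S : Type} [Category.{0} S] {Y' Y : S ⥤ TopCat.{u}} (e : Y' ⟶ Y) (k : S)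

/-- The inclusion of a level. -/
noncomputable abbrev lvl (Y : S ⥤ TopCat.{u}) (k : S) : Opens (Y.obj k) ⥤ Tot Y := ι (tf Y) k

instance lvl_isContinuous (Y : S ⥤ TopCat.{u}) (k : S) :
    (lvl Y k).IsContinuous (Opens.grothendieckTopology (Y.obj k)) (jt Y) :=
  Groth.Agent.FibSite.ι_isContinuous (isPre Y) k

instance lvl_isCocontinuous (Y : S ⥤ TopCat.{u}) (k : S) :
    (lvl Y k).IsCocontinuous (Opens.grothendieckTopology (Y.obj k)) (jt Y) :=
  Groth.Agent.FibSite.ι_isCocontinuous (tops Y) (isPre Y) k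

/-- Preimages commute with the inclusion of a level. -/
noncomputable def lvlW : lvl Y k ⋙ resF e ≅ Opens.map (e.app k) ⋙ lvl Y' k :=
  NatIso.ofComponents (fun U => Iso.refl _) (fun g => (Category.comp_id _).trans
    ((hom_ext _ _ rfl).trans (Category.id_comp _).symm))

theorem isIso_βR_lvlW :
    IsIso (βR (lvlW e k).symm (Opens.grothendieckTopology (Y'.obj k))
      (Opens.grothendieckTopology (Y.obj k)) (jt Y') (jt Y)) := by
  refine isIso_βR _ _ _ _ _ fun d' => initial_of_zigzag _ fun X => ?_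
  let c : Opens (Y'.obj k) := X.right.unop
  let f : (lvl Y' k).obj c ⟶ (resF e).obj d' := X.hom.unop
  let top : Opens (Y.obj k) := (Opens.map (Y.map f.base)).obj (opn d')
  have htop : ∀ x ∈ opn ((lvl Y k).obj top), Y.map f.base x ∈ opn d' := fun x hx => hx
  have hc : c ≤ (Opens.map (e.app k)).obj top := by
    intro x hx
    exact (congrArg (fun y => y ∈ opn d') (nat_map e (i := k) (j := d'.base) f.base x)).mpr
      (hom_mem f x hx)
  refine ⟨CostructuredArrow.mk (Y := StructuredArrow.mk (Y := op top)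
      (mkHom (A := (lvl Y k).obj top) (B := d') f.base htop).op)
    (StructuredArrow.homMk (homOfLE hc).op (Quiver.Hom.unop_inj (hom_ext _ _ ?_))), fun W => ?_⟩
  · show 𝟙 k ≫ 𝟙 k ≫ f.base = f.base
    exact (Category.id_comp _).trans (Category.id_comp _)
  let c₁ : Opens (Y.obj k) := W.left.right.unop
  let g₁ : (lvl Y k).obj c₁ ⟶ d' := W.left.hom.unop
  let h₁ : c ⟶ (Opens.map (e.app k)).obj c₁ := W.hom.right.unop
  have e₁ : 𝟙 k ≫ 𝟙 k ≫ g₁.base = f.base :=
    congrArg (fun φ => φ.base) (congrArg Quiver.Hom.unop (StructuredArrow.w W.hom))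
  have e₂ : g₁.base = f.base :=
    ((Category.id_comp _).trans (Category.id_comp _)).symm.trans e₁
  refine Zigzag.of_inv (CostructuredArrow.homMk (StructuredArrow.homMk
    (homOfLE (X := Opens (Y.obj k)) (x := c₁) (y := top) fun x hx => ?_).op
    (Quiver.Hom.unop_inj (hom_ext _ _ ((Category.id_comp _).trans e₂.symm))))
    (StructuredArrow.hom_ext _ _ (Quiver.Hom.unop_inj (Subsingleton.elim _ _))))
  show Y.map f.base x ∈ opn d'
  rw [← e₂]
  exact hom_mem g₁ x hx

theorem isIso_βL_lvlW :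
    IsIso (βL (lvlW e k) (jt Y) (Opens.grothendieckTopology (Y.obj k)) (jt Y')
      (Opens.grothendieckTopology (Y'.obj k))) :=
  isIso_βL _ _ _ _ _ (isIso_βR_lvlW e k)

variable (H : Sheaf (jt Y) AddCommGrpCat.{u})

/-- A level of a sheaf. -/
noncomputable abbrev atLvl : CohTop.Ab (Y.obj k) :=
  (rs (lvl Y k) (Opens.grothendieckTopology (Y.obj k)) (jt Y)).obj H

/-- The level of the inverse image, compared with the inverse image of the level. -/
noncomputable def lvlCmp :
    (CohTop.pull (e.app k)).obj (atLvl k H) ⟶ atLvl k ((Ls (resF e) (jt Y) (jt Y')).obj H) :=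
  (βL (lvlW e k) (jt Y) (Opens.grothendieckTopology (Y.obj k)) (jt Y')
    (Opens.grothendieckTopology (Y'.obj k))).app H

instance isIso_lvlCmp : IsIso (lvlCmp e k H) :=
  @NatIso.isIso_app_of_isIso _ _ _ _ _ _ _ (isIso_βL_lvlW e k) H

/-- The unit of inverse image. -/
noncomputable abbrev ηT (A : Tot Y) (s : H.obj.obj (op A)) :
    ((Ls (resF e) (jt Y) (jt Y')).obj H).obj.obj (op ((resF e).obj A)) :=
  ((adjL (resF e) (jt Y) (jt Y')).unit.app H).hom.app (op A) s

/-- The comparison carries unit to unit. -/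
lemma lvlCmp_uni (U : Opens (Y.obj k)) (s : H.obj.obj (op (pt k U))) :
    (lvlCmp e k H).hom.app (op ((Opens.map (e.app k)).obj U)) (uni (e.app k) (atLvl k H) U s) =
      ηT e H (pt k U) s := by
  have h := unit_mateEquiv_symm (adjL (resF e) (jt Y) (jt Y'))
    (adjL (Opens.map (e.app k)) (Opens.grothendieckTopology (Y.obj k))
      (Opens.grothendieckTopology (Y'.obj k)))
    (TwoSquare.mk (rs (resF e) (jt Y) (jt Y'))
      (rs (lvl Y' k) (Opens.grothendieckTopology (Y'.obj k)) (jt Y'))
      (rs (lvl Y k) (Opens.grothendieckTopology (Y.obj k)) (jt Y))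
      (rs (Opens.map (e.app k)) (Opens.grothendieckTopology (Y.obj k))
        (Opens.grothendieckTopology (Y'.obj k)))
      (sqIso (lvlW e k) (jt Y) (Opens.grothendieckTopology (Y.obj k)) (jt Y')
        (Opens.grothendieckTopology (Y'.obj k))).inv) H
  have h' := ConcreteCategory.congr_hom
    (congrArg (fun φ => φ.hom.app (op U)) h) s
  refine h'.symm.trans ?_
  exact ConcreteCategory.congr_hom
    (((Ls (resF e) (jt Y) (jt Y')).obj H).obj.map_id (op ((resF e).obj (pt k U)))) _

/-- Restriction at a level. -/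
noncomputable abbrev res {V U : Opens (Y.obj k)} (h : V ≤ U) (s : H.obj.obj (op (pt k U))) :
    H.obj.obj (op (pt k V)) :=
  H.obj.map (incHom h).op s

lemma rs_eq_res {V U : Opens (Y.obj k)} (h : V ≤ U) (s : H.obj.obj (op (pt k U))) :
    Groth.Agent.CohTop.Proper.Extend.rs (atLvl k H) h s = res k H h s := by
  show H.obj.map ((lvl Y k).map (homOfLE h)).op s = H.obj.map (incHom h).op s
  rw [hom_ext ((lvl Y k).map (homOfLE h)) (incHom h) rfl]; rfl

variable (he : Topology.IsInducing (e.app k)) (hs : Sep (e.app k)) [CompactSpace (Y'.obj k)]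

include he hs in
/-- Sections over a compact fibre come from a neighbourhood. -/
theorem exists_lift_near (t : ((Ls (resF e) (jt Y) (jt Y')).obj H).obj.obj (op (pt k ⊤))) :
    ∃ (U : Opens (Y.obj k)) (hU : ∀ z, e.app k z ∈ U) (s : H.obj.obj (op (pt k U))),
      res k _ (fun z _ => hU z : (⊤ : Opens (Y'.obj k)) ≤ (Opens.map (e.app k)).obj U)
        (ηT e H (pt k U) s) = t := by
  have := isIso_lvlCmp e k H
  obtain ⟨U, hU, s, h⟩ := exists_section_near (e.app k) (atLvl k H) he hs
    ((inv (lvlCmp e k H)).hom.app (op ⊤) t)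
  refine ⟨U, hU, s, ?_⟩
  have h1 := congrArg ((lvlCmp e k H).hom.app (op ⊤)) h
  have h2 : (lvlCmp e k H).hom.app (op ⊤) ((inv (lvlCmp e k H)).hom.app (op ⊤) t) = t :=
    ConcreteCategory.congr_hom (congrArg (fun φ => φ.hom.app (op (⊤ : Opens (Y'.obj k))))
      (IsIso.inv_hom_id (lvlCmp e k H))) t
  refine Eq.trans ?_ (h1.trans h2)
  rw [← rs_eq_res]
  refine Eq.trans ?_ (ConcreteCategory.congr_hom ((lvlCmp e k H).hom.naturality _) _).symm
  exact congrArg _ (lvlCmp_uni e k H U s).symm

omit [CompactSpace (Y'.obj k)] in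
/-- Sections with the same inverse image agree near the fibre. -/
theorem exists_eq_near_fibre {U U' : Opens (Y.obj k)} (hU : ∀ z, e.app k z ∈ U)
    (hU' : ∀ z, e.app k z ∈ U') (s : H.obj.obj (op (pt k U))) (s' : H.obj.obj (op (pt k U')))
    (h : res k _ (fun z _ => hU z : (⊤ : Opens (Y'.obj k)) ≤ (Opens.map (e.app k)).obj U)
        (ηT e H (pt k U) s) =
      res k _ (fun z _ => hU' z : (⊤ : Opens (Y'.obj k)) ≤ (Opens.map (e.app k)).obj U')
        (ηT e H (pt k U') s')) :
    ∃ (W : Opens (Y.obj k)) (hW : W ≤ U) (hW' : W ≤ U'),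
      (∀ z, e.app k z ∈ W) ∧ res k H hW s = res k H hW' s' := by
  have hi : Function.Injective ((lvlCmp e k H).hom.app (op (⊤ : Opens (Y'.obj k)))) := by
    intro a b hab
    have h3 := fun c => ConcreteCategory.congr_hom (congrArg (fun φ => φ.hom.app
      (op (⊤ : Opens (Y'.obj k)))) (IsIso.hom_inv_id (lvlCmp e k H))) c
    exact (h3 a).symm.trans ((congrArg ((inv (lvlCmp e k H)).hom.app _) hab).trans (h3 b))
  obtain ⟨W, hW, hW', hz, q⟩ := exists_eq_near_of_uni (e.app k) (atLvl k H) hU hU' s s' (hi (by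
    refine (ConcreteCategory.congr_hom ((lvlCmp e k H).hom.naturality _) _).trans ?_
    refine Eq.trans ?_ (ConcreteCategory.congr_hom ((lvlCmp e k H).hom.naturality _) _).symm
    rw [← rs_eq_res, ← rs_eq_res] at h
    refine Eq.trans ?_ (h.trans ?_)
    · exact congrArg _ (lvlCmp_uni e k H U s)
    · exact congrArg _ (lvlCmp_uni e k H U' s').symm))
  exact ⟨W, hW, hW', hz, by rwa [rs_eq_res, rs_eq_res] at q⟩

end Groth.Agent.FibDescLib
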