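import Groth.Agent.FibDescLib.Aug

/-!
# Cohomological descent is local on the base
-/

universe u

open CategoryTheory CategoryTheory.Limits Opposite TopologicalSpace

namespace Groth.Agent.FibDescLib

/-- A map of abelian sheaves which is invertible on a covering family of objects is invertible. -/
lemma isIso_of_local {D : Type u} [Category.{u} D] (K : GrothendieckTopology D)
    {H H' : Sheaf K AddCommGrpCat.{u}} (f : H ⟶ H') (G : D → Prop)
    (hG : ∀ A, G A → IsIso (f.hom.app (op A)))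
    (hcov : ∀ A : D, ∃ R : Sieve A, R ∈ K A ∧
      ∀ ⦃X⦄ (g : X ⟶ A), R g → ∃ (B : D) (p : X ⟶ B) (q : B ⟶ A), G B ∧ p ≫ q = g) :
    IsIso f := by
  refine (Sheaf.isLocallyBijective_iff_isIso f).1 ⟨⟨fun {U} x y h => ?_⟩, ⟨fun {U} s => ?_⟩⟩
  · obtain ⟨R, hR, hRG⟩ := hcov U.unop
    refine K.superset_covering ?_ hR
    intro X g hg
    obtain ⟨B, p, q, hB, rfl⟩ := hRG g hg
    have := hG B hB
    change H.obj.map (p ≫ q).op x = H.obj.map (p ≫ q).op y
    rw [op_comp, Functor.map_comp, ConcreteCategory.comp_apply, ConcreteCategory.comp_apply]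
    refine congrArg _ (((ConcreteCategory.bijective_of_isIso (f.hom.app (op B))).1) ?_)
    rw [← ConcreteCategory.comp_apply, ← ConcreteCategory.comp_apply, f.hom.naturality q.op,
      ConcreteCategory.comp_apply, ConcreteCategory.comp_apply]
    exact congrArg _ h
  · obtain ⟨R, hR, hRG⟩ := hcov U
    refine K.superset_covering ?_ hR
    intro X g hg
    obtain ⟨B, p, q, hB, rfl⟩ := hRG g hg
    have := hG B hB
    obtain ⟨t, ht⟩ := (ConcreteCategory.bijective_of_isIso (f.hom.app (op B))).2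
      (H'.obj.map q.op s)
    refine ⟨H.obj.map p.op t, ?_⟩
    rw [← ConcreteCategory.comp_apply, f.hom.naturality p.op, ConcreteCategory.comp_apply, ht,
      ← ConcreteCategory.comp_apply, ← Functor.map_comp]
    rfl

variable {S S₀ : Type} [Category.{0} S] [Category.{0} S₀]

/-- Restriction of an open map of diagrams to a part. -/
noncomputable def natMor {Y' Y : S ⥤ TopCat.{u}} (e : Y' ⟶ Y)
    (hemb : ∀ i, Topology.IsOpenEmbedding (e.app i))
    (hcart : ∀ {i j : S} (b : i ⟶ j) (y : Y.obj i),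
      Y.map b y ∈ Set.range (e.app j) → y ∈ Set.range (e.app i))
    (φ : S₀ ⥤ S) : Mor (φ ⋙ Y') (φ ⋙ Y) where
  ψ := 𝟭 _
  e := Functor.whiskerLeft φ e
  isOpenEmbedding i := hemb (φ.obj i)
  cart b y h := hcart (φ.map b) y h

/-- The same, on the whole index category. -/
noncomputable def natMorId {Y' Y : S ⥤ TopCat.{u}} (e : Y' ⟶ Y)
    (hemb : ∀ i, Topology.IsOpenEmbedding (e.app i))
    (hcart : ∀ {i j : S} (b : i ⟶ j) (y : Y.obj i),
      Y.map b y ∈ Set.range (e.app j) → y ∈ Set.range (e.app i)) : Mor Y' Y where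
  ψ := 𝟭 _
  e := e
  isOpenEmbedding := hemb
  cart b y h := hcart b y h

variable (φ : S₀ ⥤ S) (k : S) {Y : S ⥤ TopCat.{u}}

/-- Descent is local for open cartesian covering families. -/
theorem desc_of_local {ι : Type u} (Y' : ι → S ⥤ TopCat.{u}) (e : ∀ i, Y' i ⟶ Y)
    (hemb : ∀ i s, Topology.IsOpenEmbedding ((e i).app s))
    (hcart : ∀ i {s t : S} (b : s ⟶ t) (y : Y.obj s),
      Y.map b y ∈ Set.range ((e i).app t) → y ∈ Set.range ((e i).app s))
    (hcov : ∀ x : Y.obj k, ∃ i, x ∈ Set.range ((e i).app k))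
    (h : ∀ i, Desc φ k (Y' i)) : Desc φ k Y := by
  let a := bcMor φ Y
  let b := bcMor (ptF k) Y
  let a' := fun i => bcMor φ (Y' i)
  let b' := fun i => bcMor (ptF k) (Y' i)
  let P := fun i => natMor (e i) (hemb i) (hcart i) φ
  let Pb := fun i => natMor (e i) (hemb i) (hcart i) (ptF k)
  let Q := fun i => natMorId (e i) (hemb i) (hcart i)
  let σ : 𝟭 S₀ ⋙ φ ≅ φ ⋙ 𝟭 S := φ.leftUnitor ≪≫ φ.rightUnitor.symm
  let σb : 𝟭 (Discrete PUnit.{1}) ⋙ ptF k ≅ ptF k ⋙ 𝟭 S :=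
    (ptF k).leftUnitor ≪≫ (ptF k).rightUnitor.symm
  have hea : ∀ i (s : S₀) (x : (φ ⋙ Y' i).obj s),
      Y.map (σ.hom.app s) (a.e.app ((P i).ψ.obj s) ((P i).e.app s x)) =
        (Q i).e.app ((a' i).ψ.obj s) ((a' i).e.app s x) := fun i s x => by
    change Y.map (𝟙 _ ≫ 𝟙 _) ((e i).app (φ.obj s) x) = (e i).app (φ.obj s) x
    rw [Category.comp_id]
    exact map_id_apply _ _
  have heb : ∀ i (s : Discrete PUnit.{1}) (x : (ptF k ⋙ Y' i).obj s),
      Y.map (σb.hom.app s) (b.e.app ((Pb i).ψ.obj s) ((Pb i).e.app s x)) =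
        (Q i).e.app ((b' i).ψ.obj s) ((b' i).e.app s x) := fun i s x => by
    change Y.map (𝟙 _ ≫ 𝟙 _) ((e i).app k x) = (e i).app k x
    rw [Category.comp_id]
    exact map_id_apply _ _
  have heb' : ∀ i (s : Discrete PUnit.{1}) (x : (ptF k ⋙ Y' i).obj s),
      Y.map (σb.inv.app s) ((Q i).e.app ((b' i).ψ.obj s) ((b' i).e.app s x)) =
        b.e.app ((Pb i).ψ.obj s) ((Pb i).e.app s x) := fun i =>
    he_symm b (b' i) (Pb i) (Q i) σb (heb i)
  let wa := fun i => sqW a (a' i) (P i) (Q i) σ (hea i)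
  let wb := fun i => sqW b (b' i) (Pb i) (Q i) σb (heb i)
  have hA : ∀ i, IsIso (βR (wa i) (jt (φ ⋙ Y)) (jt (φ ⋙ Y' i)) (jt Y) (jt (Y' i))) := fun i => by
    refine isIso_βR _ _ _ _ _ fun d' => post_initial a (a' i) (P i) (Q i) σ (hea i)
      (cart_of_surjective a (a' i) (P i) (Q i) σ (hea i) (bcMor_surjective φ (Y' i))) d' ?_
    intro n f
    refine ⟨n, 𝟙 n, f, ?_, fun n₁ h₁ g₁ e₁ => Or.inl ⟨h₁, Category.id_comp h₁, ?_⟩⟩
    · change φ.map (𝟙 n) ≫ (𝟙 _ ≫ 𝟙 _) ≫ f = f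
      simp
    · have : φ.map h₁ ≫ (𝟙 _ ≫ 𝟙 _) ≫ g₁ = f := e₁
      rw [← this]
      simp
      rfl
  have hB : ∀ i, IsIso (βR (wb i).symm (jt (Y' i)) (jt (ptF k ⋙ Y' i)) (jt Y) (jt (ptF k ⋙ Y))) :=
    fun i => by
    have hw : (wb i).symm = sqW (Q i) (Pb i) (b' i) b σb.symm (heb' i) := by
      exact Iso.ext (NatTrans.ext (funext fun A => hom_ext (Y := Y) _ _ rfl))
    rw [hw]
    refine isIso_βR (sqW (Q i) (Pb i) (b' i) b σb.symm (heb' i)) _ _ _ _ fun d' =>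
      post_initial (Q i) (Pb i) (b' i) b σb.symm (heb' i) (fun s y _ => ⟨y, rfl⟩) d' ?_
    intro n f
    refine ⟨d'.base, f, 𝟙 d'.base, ?_, fun n₁ h₁ g₁ e₁ =>
      Or.inl ⟨eqToHom (C := Discrete PUnit.{1}) (Subsingleton.elim d'.base n₁), ?_, Subsingleton.elim _ _⟩⟩
    · change f ≫ (𝟙 _ ≫ 𝟙 _) ≫ (ptF k).map (𝟙 d'.base) = f
      simp
      exact Category.comp_id f
    · have : h₁ ≫ (𝟙 _ ≫ 𝟙 _) ≫ (ptF k).map g₁ = f := e₁
      rw [← this]
      simp
      exact (Category.comp_id _).trans (Category.comp_id _)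
  have : ∀ i, (rs (P i).functor (jt (φ ⋙ Y' i)) (jt (φ ⋙ Y))).PreservesInjectiveObjects := fun i =>
    (P i).preservesInjectiveObjects_rs Mor.MultiInit.id
  refine DescAdj.of_local _
    (fun i => adjS (a' i).functor (b' i).functor (jt _) (jt _) (jt (Y' i)))
    (fun i => rs (Pb i).functor (jt _) (jt _)) (fun i => rs (P i).functor (jt _) (jt _))
    (fun {H H'} f hf => ?_)
    (fun i => sqM (jt _) (jt _) (jt Y) (wa i) (wb i) (jt _) (jt _) (jt (Y' i)))
    (fun i => isIso_sqM _ _ _ (wa i) (wb i) _ _ _ (hB i))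
    (fun i => isIso_mate_sqM _ _ _ (wa i) (wb i) _ _ _ (hA i)) h
  refine isIso_of_local _ f (fun B => ∃ i A, B = (Pb i).functor.obj A) ?_ ?_
  · rintro B ⟨i, A, rfl⟩
    have := hf i
    exact inferInstanceAs (IsIso (((sheafToPresheaf _ AddCommGrpCat.{u}).map
      ((rs (Pb i).functor (jt _) (jt _)).map f)).app (op A)))
  · rintro ⟨⟨⟨⟩⟩, U⟩
    refine ⟨⟨fun X g => ∃ (i : ι) (A : Tot (ptF k ⋙ Y' i)) (p : X ⟶ (Pb i).functor.obj A)
      (q : (Pb i).functor.obj A ⟶ _), p ≫ q = g, fun {X X'} g hg l => ?_⟩, ?_, fun X g hg => ?_⟩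
    · obtain ⟨i, A, p, q, rfl⟩ := hg
      exact ⟨i, A, l ≫ p, q, Category.assoc _ _ _⟩
    · refine (mem_jt_iff (Y := ptF k ⋙ Y) (i := ⟨⟨⟩⟩) U _).2 fun x hx => ?_
      obtain ⟨i, z, rfl⟩ := hcov x
      let A : Tot (ptF k ⋙ Y' i) := pt ⟨⟨⟩⟩ ((Opens.map ((e i).app k)).obj U)
      refine ⟨(Pb i).img ⟨⟨⟩⟩ (opn A), ?_, ⟨z, hx, rfl⟩, i, A, 𝟙 _, ?_⟩
      · rintro y ⟨w, hw, rfl⟩
        exact hw
      · exact ⟨_, Category.id_comp _⟩
    · obtain ⟨i, A, p, q, e⟩ := hg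
      exact ⟨_, p, q, ⟨i, A, rfl⟩, e⟩

end Groth.Agent.FibDescLib
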