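import Groth.Agent.FibDescLib.FibreAcyclic

/-!
# Descent along proper surjections
-/

universe u v₁ u₁

open CategoryTheory CategoryTheory.Limits Opposite TopologicalSpace Simplicial

namespace Groth.Agent.FibDescLib

open Groth.Agent.CohTop.Proper.Extend (Sep St gm)

section Local

variable {C : Type u₁} [Category.{v₁} C] [Abelian C]
  {E : Type u₁} [Category.{v₁} E] [Abelian E] [HasInjectiveResolutions E]
  {p : C ⥤ E} {q : E ⥤ C} (adj : p ⊣ q) [p.Additive] [q.Additive]
  {ι : Type*} {C' : ι → Type u₁} [∀ i, Category.{v₁} (C' i)] [∀ i, Abelian (C' i)]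
  {E' : ι → Type u₁} [∀ i, Category.{v₁} (E' i)] [∀ i, Abelian (E' i)]
  [∀ i, EnoughInjectives (E' i)]
  {p' : ∀ i, C' i ⥤ E' i} {q' : ∀ i, E' i ⥤ C' i} (adj' : ∀ i, p' i ⊣ q' i)
  [∀ i, (p' i).Additive] [∀ i, (q' i).Additive] [∀ i, PreservesFiniteLimits (q' i)]
  (a : ∀ i, C ⥤ C' i) (b : ∀ i, E ⥤ E' i)
  [∀ i, (a i).Additive] [∀ i, (b i).Additive]
  [∀ i, PreservesFiniteLimits (a i)] [∀ i, PreservesFiniteColimits (a i)]
  [∀ i, PreservesFiniteLimits (b i)] [∀ i, PreservesFiniteColimits (b i)]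

/-- Descent can be checked after exact, jointly conservative restrictions, the second of which
sends injectives to acyclic objects. -/
theorem DescAdj.of_local' (P : ∀ i, ObjectProperty (E' i))
    (hP : ∀ i, Groth.Agent.ModShf.AcyclicRes.GoodClass (q' i) (P i))
    (hb : ∀ i (X : E), Injective X → P i ((b i).obj X))
    (ha : ∀ {X Y : C} (f : X ⟶ Y), (∀ i, IsIso ((a i).map f)) → IsIso f)
    (M : ∀ i, TwoSquare (a i) p (p' i) (b i)) (hM : ∀ i, IsIso (M i).natTrans)
    (hβ : ∀ i, IsIso (mateEquiv adj (adj' i) (M i)).natTrans)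
    (h : ∀ i, DescAdj (adj' i)) : DescAdj adj where
  isIso_unit := by
    rw [NatTrans.isIso_iff_isIso_app]
    intro X
    refine ha _ fun i => ?_
    have := (h i).isIso_unit
    have := hM i
    have := hβ i
    have e := unit_mateEquiv adj (adj' i) (M i) X
    have : IsIso ((a i).map (adj.unit.app X) ≫
        (mateEquiv adj (adj' i) (M i)).natTrans.app (p.obj X)) := by
      erw [e]
      exact inferInstanceAs (IsIso ((adj' i).unit.app ((a i).obj X) ≫
        (q' i).map ((M i).natTrans.app X)))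
    exact IsIso.of_isIso_comp_right _ ((mateEquiv adj (adj' i) (M i)).natTrans.app (p.obj X))
  acy X k hk := by
    rw [IsZero.iff_id_eq_zero]
    have hz : ∀ i, IsZero ((a i).obj ((q.rightDerived k).obj (p.obj X))) := fun i => by
      have := hM i
      have := hβ i
      refine IsZero.of_iso ((h i).acy ((a i).obj X) k hk) ?_
      exact (DerFun.rightDerivedPostIso (a i) q k (p.obj X)).symm ≪≫
        (Groth.Agent.BigBC.rightDerivedCongr
          (asIso (mateEquiv adj (adj' i) (M i)).natTrans) k).app (p.obj X) ≪≫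
        (Groth.Agent.ModShf.AcyclicRes.compareIso (b i) (q' i) (hP i) (hb i) k).app (p.obj X) ≪≫
        ((q' i).rightDerived k).mapIso (asIso ((M i).natTrans.app X)).symm
    have : IsIso (0 : (q.rightDerived k).obj (p.obj X) ⟶ (q.rightDerived k).obj (p.obj X)) :=
      ha _ fun i => ⟨0, (hz i).eq_of_src _ _, (hz i).eq_of_src _ _⟩
    exact (isIsoZeroEquiv _ _ this).1

end Local

section Square

variable {Y' Y : Δp ⥤ TopCat.{u}} (e : Y' ⟶ Y)

/-- The comparison of inverse images. -/
noncomputable def invComm :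
    TwoSquare (pB e) (pl (bcMor toAug Y).functor (bcMor (ptF bot) Y).functor (jt _) (jt _) (jt Y))
      (pl (bcMor toAug Y').functor (bcMor (ptF bot) Y').functor (jt _) (jt _) (jt Y')) (pS e) :=
  (mateEquiv (adjS (bcMor toAug Y).functor (bcMor (ptF bot) Y).functor (jt _) (jt _) (jt Y))
    (adjS (bcMor toAug Y').functor (bcMor (ptF bot) Y').functor (jt _) (jt _) (jt Y'))).symm
      (bcTrans e)

theorem isIso_invComm : IsIso (invComm e).natTrans := by
  let adj := adjS (bcMor toAug Y).functor (bcMor (ptF bot) Y).functor (jt _) (jt _) (jt Y)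
  let adj' := adjS (bcMor toAug Y').functor (bcMor (ptF bot) Y').functor (jt _) (jt _) (jt Y')
  have h := iterated_mateEquiv_conjugateEquiv adj adj' (adjL (resF (eB e)) (jt _) (jt _))
    (adjL (resF (eS e)) (jt _) (jt _)) (invComm e)
  have e' : mateEquiv (adjL (resF (eS e)) (jt _) (jt _)) (adjL (resF (eB e)) (jt _) (jt _))
      (mateEquiv adj adj' (invComm e)) = TwoSquare.mk _ _ _ _ (dirComm e).inv := by
    rw [invComm, Equiv.apply_symm_apply, bcTrans, Equiv.apply_symm_apply]
  rw [e'] at h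
  have : IsIso (conjugateEquiv (adj.comp (adjL (resF (eS e)) (jt _) (jt _)))
      ((adjL (resF (eB e)) (jt _) (jt _)).comp adj') (invComm e).natTrans) :=
    h ▸ (inferInstanceAs (IsIso (dirComm e).inv))
  exact conjugateEquiv_of_iso (adj.comp (adjL (resF (eS e)) (jt _) (jt _)))
    ((adjL (resF (eB e)) (jt _) (jt _)).comp adj') (invComm e).natTrans

end Square

section Points

variable {Y : Δp ⥤ TopCat.{u}} {ι : Type*} (Y' : ι → Δp ⥤ TopCat.{u}) (e : ∀ i, Y' i ⟶ Y)

/-- Restrictions to points detect isomorphisms of sheaves on the base. -/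
theorem isIso_of_points [∀ i, Subsingleton ((Y' i).obj bot)]
    (hcov : ∀ x : Y.obj bot, ∃ i y, (e i).app bot y = x)
    {F G : Sheaf (jt (ptF bot ⋙ Y)) AddCommGrpCat.{u}} (f : F ⟶ G)
    (h : ∀ i, IsIso ((pB (e i)).map f)) : IsIso f := by
  let T := (ptF bot ⋙ Y).obj ⟨⟨⟩⟩
  let φ : atLvl ⟨⟨⟩⟩ F ⟶ atLvl ⟨⟨⟩⟩ G :=
    (rs (lvl (ptF bot ⋙ Y) ⟨⟨⟩⟩) (Opens.grothendieckTopology T) (jt (ptF bot ⋙ Y))).map f
  have hst : ∀ x : T, Function.Bijective (Groth.Agent.CohTop.Proper.Soft.stk φ x) := by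
    intro x
    obtain ⟨i, y, rfl⟩ := hcov x
    let k : Discrete PUnit.{1} := ⟨⟨⟩⟩
    have : Subsingleton ((ptF bot ⋙ Y' i).obj k) := inferInstanceAs (Subsingleton ((Y' i).obj bot))
    have : CompactSpace ((ptF bot ⋙ Y' i).obj k) := ⟨(Set.subsingleton_of_subsingleton).isCompact⟩
    have hi : Topology.IsInducing ((eB (e i)).app k) := ⟨Subsingleton.elim _ _⟩
    have hs : Sep ((eB (e i)).app k) := fun z z' h => absurd (Subsingleton.elim z z') h
    have hy : ∀ (U : Opens T), (e i).app bot y ∈ U → ∀ z, (eB (e i)).app k z ∈ U := fun U hU z =>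
      (Subsingleton.elim y z ▸ hU : (eB (e i)).app k z ∈ U)
    let Φ := ((pB (e i)).map f).hom.app (op (pt (Y := ptF bot ⋙ Y' i) k ⊤))
    have hΦ : Function.Bijective Φ := by
      have := h i
      exact (ConcreteCategory.isIso_iff_bijective _).1
        (inferInstanceAs (IsIso (((sheafToPresheaf _ AddCommGrpCat.{u}).map ((pB (e i)).map f)).app
          (op (pt (Y := ptF bot ⋙ Y' i) k ⊤)))))
    have nat : ∀ (U : Opens T) (hU : ∀ z, (eB (e i)).app k z ∈ U) (s : F.obj.obj (op (pt k U))),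
        Φ (res k _ (fun z _ => hU z) (ηT (eB (e i)) F (pt k U) s)) =
          res k _ (fun z _ => hU z) (ηT (eB (e i)) G (pt k U) (f.hom.app (op (pt k U)) s)) := by
      intro U hU s
      refine (ConcreteCategory.congr_hom (((pB (e i)).map f).hom.naturality _) _).trans ?_
      refine Eq.trans (ConcreteCategory.comp_apply _ _ _) ?_
      refine congrArg (((pB (e i)).obj G).obj.map _) ?_
      exact (ConcreteCategory.congr_hom (congrArg (fun ψ => ψ.hom.app (op (pt k U)))
        ((adjL (resF (eB (e i))) (jt _) (jt _)).unit.naturality f)) s).symm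
    refine ⟨?_, fun t => ?_⟩
    · refine (injective_iff_map_eq_zero (Groth.Agent.CohTop.Proper.Soft.stk φ _).hom).2 fun t ht => ?_
      obtain ⟨U, hU, s, rfl⟩ := TopCat.Presheaf.exists_germ_eq (C := AddCommGrpCat.{u})
        (X := T) (atLvl ⟨⟨⟩⟩ F).obj t
      have h1 : gm (atLvl ⟨⟨⟩⟩ G) (φ.hom.app (op U) s) _ hU =
          gm (atLvl ⟨⟨⟩⟩ G) (0 : (atLvl ⟨⟨⟩⟩ G).obj.obj (op U)) _ hU :=
        (Groth.Agent.CohTop.Proper.Soft.gm_app φ s _ hU).symm.trans (ht.trans (map_zero _).symm)
      obtain ⟨W, hW, hW', hxW, q⟩ := Groth.Agent.CohTop.Proper.Extend.exists_eq_near _ _ _ _ hU hU h1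
      rw [rs_eq_res, rs_eq_res] at q
      have q' : f.hom.app (op (pt k W)) (res k F hW s) = 0 :=
        (ConcreteCategory.congr_hom (f.hom.naturality (incHom (Y := ptF bot ⋙ Y) hW).op) s).trans
          (q.trans (map_zero _))
      have hzero : res k _ (fun z _ => hy W hxW z :
          (⊤ : Opens ((ptF bot ⋙ Y' i).obj k)) ≤ (Opens.map ((eB (e i)).app k)).obj W) (ηT (eB (e i)) F (pt k W) (res k F hW s)) = 0 := by
        refine hΦ.1 ?_
        rw [nat W (hy W hxW)]
        exact ((congrArg (fun t => res k _ (fun z _ => hy W hxW z) (ηT (eB (e i)) G (pt k W) t))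
          q').trans ((congrArg _ (map_zero _)).trans (map_zero _))).trans (map_zero _).symm
      obtain ⟨W₂, hW₂, _, hz, q₂⟩ := exists_eq_near_fibre (eB (e i)) k F (hy W hxW) (hy W hxW)
        (res k F hW s) 0 (hzero.trans ((congrArg _ (map_zero _)).trans (map_zero _)).symm)
      refine (Groth.Agent.CohTop.Proper.Extend.gm_rs _ (hW₂.trans hW) s _ (hz y)).symm.trans ?_
      rw [rs_eq_res]
      refine (congrArg (fun t => gm (atLvl ⟨⟨⟩⟩ F) t _ (hz y))
        ((map_map_single F.obj (incHom hW₂) (incHom hW) (incHom (hW₂.trans hW))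
          (Category.comp_id _) s).symm.trans (q₂.trans (map_zero _)))).trans ?_
      exact map_zero _
    · obtain ⟨U, hU, s, rfl⟩ := TopCat.Presheaf.exists_germ_eq (C := AddCommGrpCat.{u})
        (X := T) (atLvl ⟨⟨⟩⟩ G).obj t
      obtain ⟨r, hr⟩ := hΦ.2 (res k _ (fun z _ => hy U hU z) (ηT (eB (e i)) G (pt k U) s))
      obtain ⟨V, hV, a, rfl⟩ := exists_lift_near (eB (e i)) k F hi hs r
      rw [nat V hV] at hr
      obtain ⟨W, hW, hW', hz, q⟩ := exists_eq_near_fibre (eB (e i)) k G hV (hy U hU)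
        (f.hom.app (op (pt k V)) a) s hr
      refine ⟨gm (atLvl (Y := ptF bot ⋙ Y) k F) (U := V) a ((e i).app bot y) (hV y), ?_⟩
      refine (Groth.Agent.CohTop.Proper.Soft.gm_app φ a _ (hV y)).trans ?_
      rw [← rs_eq_res, ← rs_eq_res] at q
      refine (Groth.Agent.CohTop.Proper.Extend.gm_rs _ hW _ _ (hz y)).symm.trans
        ((congrArg (fun t => gm (atLvl ⟨⟨⟩⟩ G) t _ (hz y)) q).trans ?_)
      exact Groth.Agent.CohTop.Proper.Extend.gm_rs _ hW' s _ (hz y)
  have : ∀ x : T, IsIso ((TopCat.Presheaf.stalkFunctor AddCommGrpCat.{u} x).map φ.hom) :=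
    fun x => (ConcreteCategory.isIso_iff_bijective _).2 (hst x)
  have : IsIso φ := TopCat.Presheaf.isIso_of_stalkFunctor_map_iso (C := AddCommGrpCat.{u}) φ
  have : IsIso ((sheafToPresheaf _ AddCommGrpCat.{u}).map f) := by
    rw [NatTrans.isIso_iff_isIso_app]
    rintro ⟨⟨⟨⟨⟩⟩⟩, U⟩
    obtain ⟨U, rfl⟩ : ∃ U' : Opens T, U' = U := ⟨U, rfl⟩
    exact inferInstanceAs (IsIso (((sheafToPresheaf _ AddCommGrpCat.{u}).map φ).app (op U)))
  exact isIso_of_reflects_iso _ (sheafToPresheaf _ AddCommGrpCat.{u})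

end Points

section Nerve

variable {X S : TopCat.{u}} (f : X ⟶ S)

lemma isClosedMap_toBot (hf : IsProperMap f) (a : SimplexCategoryᵒᵖ) :
    IsClosedMap ((cech f).map (toBot (toAug.obj a))) := by
  let n := a.unop.len
  let Pf : (Fin (n + 1) → X) → (Fin (n + 1) → S) := fun c i => f (c i)
  have hP : IsProperMap Pf := IsProperMap.pi_map fun _ => hf
  let D : Set (Fin (n + 1) → S) := Set.range fun v _ => v
  let h : tup f n ≃ₜ Pf ⁻¹' D :=
    { toFun := fun z => ⟨z.1, f (z.1 0), funext fun i => z.2 0 i⟩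
      invFun := fun c => ⟨c.1, fun i j => by
        obtain ⟨v, hv⟩ := c.2
        exact (congrFun hv i).symm.trans (congrFun hv j)⟩
      left_inv := fun z => rfl
      right_inv := fun c => rfl
      continuous_toFun := Continuous.subtype_mk continuous_subtype_val _
      continuous_invFun := Continuous.subtype_mk continuous_subtype_val _ }
  let g : D ≃ₜ S :=
    { toFun := fun d => d.1 0
      invFun := fun v => ⟨fun _ => v, v, rfl⟩
      left_inv := fun d => by obtain ⟨d, v, rfl⟩ := d; rfl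
      right_inv := fun v => rfl
      continuous_toFun := (continuous_apply 0).comp continuous_subtype_val
      continuous_invFun := by fun_prop }
  exact g.isClosedMap.comp ((IsClosedMap.restrictPreimage hP.isClosedMap D).comp h.isClosedMap)

/-- A proper surjection with separated fibres is of cohomological descent. -/
theorem desc_cech_of_proper (hf : IsProperMap f)
    (hs : ∀ x x' : X, f x = f x' → x ≠ x' →
      ∃ U V : Set X, IsOpen U ∧ IsOpen V ∧ x ∈ U ∧ x' ∈ V ∧ Disjoint U V)
    (hsurj : Function.Surjective f) : Desc toAug bot (cech f) := by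
  let f' : ∀ x : S, (TopCat.of (f ⁻¹' {x}) ⟶ TopCat.of PUnit.{u + 1}) := fun _ =>
    TopCat.ofHom ⟨fun _ => ⟨⟩, continuous_const⟩
  let p : ∀ x : S, (TopCat.of (f ⁻¹' {x}) ⟶ X) := fun _ =>
    TopCat.ofHom ⟨Subtype.val, continuous_subtype_val⟩
  let q : ∀ x : S, (TopCat.of PUnit.{u + 1} ⟶ S) := fun x =>
    TopCat.ofHom ⟨fun _ => x, continuous_const⟩
  have w : ∀ x, f' x ≫ q x = p x ≫ f := fun x => by ext z; exact z.2.symm
  let e := fun x => cechMapHom f (p x) (q x) (w x)
  have : ∀ x, Subsingleton ((cech (f' x)).obj bot) := fun x =>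
    inferInstanceAs (Subsingleton PUnit.{u + 1})
  have : ∀ x, Nonempty ((cech (f' x)).obj bot) := fun x => inferInstanceAs (Nonempty PUnit.{u + 1})
  have hcpt : ∀ x (n : SimplexCategoryᵒᵖ), CompactSpace ((cech (f' x)).obj (toAug.obj n)) := by
    intro x n
    have : CompactSpace (f ⁻¹' {x}) := isCompact_iff_compactSpace.1
      (hf.isCompact_preimage isCompact_singleton)
    refine isCompact_iff_compactSpace.1 (IsClosed.isCompact ?_)
    refine (congrArg IsClosed ?_).mpr isClosed_univ
    exact Set.eq_univ_of_forall fun z i j => rfl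
  have hind : ∀ x (n : SimplexCategoryᵒᵖ),
      Topology.IsInducing ((e x).app (toAug.obj n)) := fun x n => by
    have hp : Topology.IsInducing fun z : Fin (n.unop.len + 1) → f ⁻¹' {x} =>
        fun i => p x (z i) :=
      (Topology.IsEmbedding.piMap (f := fun _ => (p x : f ⁻¹' {x} → X))
        fun _ => Topology.IsEmbedding.subtypeVal).isInducing
    exact Topology.IsInducing.of_comp (g := Subtype.val)
      ((e x).app (toAug.obj n)).hom.continuous continuous_subtype_val
      (hp.comp Topology.IsInducing.subtypeVal)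
  have hsep : ∀ x (n : SimplexCategoryᵒᵖ), Sep ((e x).app (toAug.obj n)) := by
    intro x n z z' hne
    obtain ⟨i, hi⟩ : ∃ i, (z : tup (f' x) n.unop.len).1 i ≠ (z' : tup (f' x) n.unop.len).1 i := by
      by_contra h
      simp only [not_exists, not_not] at h
      exact hne (Subtype.ext (funext h))
    obtain ⟨U, V, hU, hV, hz, hz', hd⟩ := hs _ _
      (((z : tup (f' x) n.unop.len).1 i).2.trans ((z' : tup (f' x) n.unop.len).1 i).2.symm)
      (fun h => hi (Subtype.ext h))
    let c := coord f n.unop.len i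
    exact ⟨⟨c ⁻¹' U, hU.preimage c.hom.continuous⟩, ⟨c ⁻¹' V, hV.preimage c.hom.continuous⟩,
      hz, hz', disjoint_iff_inf_le.2 fun t ht => hd.le_bot (show c t ∈ U ⊓ V from ht)⟩
  have : ∀ x (n : SimplexCategoryᵒᵖ), T2Space ((cech (f' x)).obj (toAug.obj n)) :=
    fun x n => (hsep x n).t2
  have hcl := isClosedMap_toBot f hf
  have hfib : ∀ x (n : SimplexCategoryᵒᵖ) (v : (cech f).obj (toAug.obj n)),
      (cech f).map (toBot (toAug.obj n)) v ∈ Set.range ((e x).app bot) →
        v ∈ Set.range ((e x).app (toAug.obj n)) := by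
    rintro x n v ⟨_, hv⟩
    have hv' : ∀ i, f ((v : tup f n.unop.len).1 i) = x := fun i =>
      ((v : tup f n.unop.len).2 i 0).trans hv.symm
    exact ⟨(⟨fun i => ⟨_, hv' i⟩, fun i j => rfl⟩ : tup (f' x) n.unop.len), rfl⟩
  have := fun x => preservesFiniteLimits_Ls_resF (eB (e x))
  have := fun x => preservesFiniteLimits_Ls_resF (eS (e x))
  have : ∀ x, PreservesFiniteColimits (pB (e x)) := fun x =>
    have h0 : PreservesColimitsOfSize.{0, 0} (pB (e x)) :=
      (adjL (resF (eB (e x))) (jt _) (jt _)).leftAdjoint_preservesColimits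
    ⟨fun J _ _ => h0.preservesColimitsOfShape⟩
  have : ∀ x, PreservesFiniteColimits (pS (e x)) := fun x =>
    have h0 : PreservesColimitsOfSize.{0, 0} (pS (e x)) :=
      (adjL (resF (eS (e x))) (jt _) (jt _)).leftAdjoint_preservesColimits
    ⟨fun J _ _ => h0.preservesColimitsOfShape⟩
  have : ∀ x, PreservesFiniteLimits (prY (cech (f' x))) := fun x => by
    have : (prY (cech (f' x))).IsRightAdjoint := (adjS (bcMor toAug (cech (f' x))).functor
      (bcMor (ptF bot) (cech (f' x))).functor (jt _) (jt _) (jt (cech (f' x)))).isRightAdjoint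
    exact ⟨fun J _ _ => inferInstance⟩
  refine DescAdj.of_local' _ (fun x => adjS (bcMor toAug (cech (f' x))).functor
      (bcMor (ptF bot) (cech (f' x))).functor (jt _) (jt _) (jt (cech (f' x))))
    (fun x => pB (e x)) (fun x => pS (e x)) (fun x => FibP (cech (f' x)))
    (fun x => goodClass_fibP _)
    (fun x H hH => fibP_pS (e x) (hind x) (hsep x) hcl (hfib x) H hH)
    (fun g hg => isIso_of_points _ e (fun x => ⟨x, ⟨⟩, rfl⟩) g hg)
    (fun x => invComm (e x)) (fun x => isIso_invComm (e x)) (fun x => ?_) fun x => ?_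
  · rw [invComm, Equiv.apply_symm_apply]
    exact isIso_bcTrans (e x) (hind x) (hsep x) hcl (hfib x)
  · obtain ⟨x₀, hx₀⟩ := hsurj x
    exact desc_cech_of_section (f' x) (TopCat.ofHom ⟨fun _ => ⟨x₀, hx₀⟩, continuous_const⟩) rfl

end Nerve

end Groth.Agent.FibDescLib
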