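import Groth.Agent.FibDescLib.Bisimp

/-!
# Maps of universal cohomological descent
-/

universe u

open CategoryTheory CategoryTheory.Limits Opposite TopologicalSpace

namespace Groth.Agent.FibDescLib

variable {X Y S : TopCat.{u}}

/-- Descent is invariant under isomorphisms of maps. -/
theorem desc_cech_of_iso {X' S' : TopCat.{u}} {f : X ⟶ S} {f' : X' ⟶ S'} (p : X' ≅ X)
    (q : S' ≅ S) (w : f' ≫ q.hom = p.hom ≫ f) (h : Desc toAug bot (cech f')) :
    Desc toAug bot (cech f) := by
  have hp : Function.Surjective p.hom := (TopCat.homeoOfIso p).surjective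
  have hq : Function.Surjective q.hom := (TopCat.homeoOfIso q).surjective
  refine desc_cech_of_cover f (fun _ : PUnit.{u + 1} => f') (fun _ => p.hom) (fun _ => q.hom)
    (fun _ => w) (fun _ => (TopCat.homeoOfIso q).isOpenEmbedding)
    (fun _ => (TopCat.homeoOfIso p).isOpenEmbedding) (fun _ => ?_) (fun x => ⟨⟨⟩, hq x⟩) fun _ => h
  rw [hp.range_eq, hq.range_eq, Set.preimage_univ]

/-- Descent only depends on the cartesian square. -/
theorem desc_of_isPullback {P T : TopCat.{u}} {a : P ⟶ X} {b : P ⟶ T} {f : X ⟶ S} {g : T ⟶ S}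
    (h : IsPullback a b f g) (hd : Desc toAug bot (cech (pullback.snd f g))) :
    Desc toAug bot (cech b) :=
  desc_cech_of_iso h.isoPullback.symm (Iso.refl T)
    ((Category.comp_id _).trans h.isoPullback_inv_snd.symm) hd

/-- Universal descent in terms of the model. -/
def Univ (f : X ⟶ S) : Prop :=
  ∀ (T : TopCat.{u}) (g : T ⟶ S), Desc toAug bot (cech (pullback.snd f g))

theorem isUniv_iff {f : X ⟶ S} : FibDesc.IsUnivCohDescentMap f ↔ Univ f :=
  ⟨fun h T g => (isCohDescentMap_iff _).1 (h T g), fun h T g => (isCohDescentMap_iff _).2 (h T g)⟩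

theorem Univ.desc {f : X ⟶ S} (h : Univ f) : Desc toAug bot (cech f) :=
  desc_of_isPullback (a := 𝟙 X) (b := f) (f := f) (g := 𝟙 S)
    (IsPullback.of_horiz_isIso ⟨by simp⟩) (h S (𝟙 S))

theorem Univ.of_isPullback {P T : TopCat.{u}} {a : P ⟶ X} {b : P ⟶ T} {f : X ⟶ S} {g : T ⟶ S}
    (h : IsPullback a b f g) (hf : Univ f) : Univ b := fun T' k =>
  desc_of_isPullback ((IsPullback.of_hasPullback b k).paste_horiz h) (hf T' (k ≫ g))

theorem Univ.baseChange {f : X ⟶ S} (hf : Univ f) {T : TopCat.{u}} (g : T ⟶ S) :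
    Univ (pullback.snd f g) :=
  hf.of_isPullback (IsPullback.of_hasPullback f g)

theorem Univ.of_section {f : X ⟶ S} (s : S ⟶ X) (h : s ≫ f = 𝟙 S) : Univ f := fun T g =>
  desc_cech_of_section _
    (pullback.lift (g ≫ s) (𝟙 T) (by rw [Category.assoc, h, Category.comp_id, Category.id_comp]))
    (pullback.lift_snd _ _ _)

/-- Descent of `u` from universal descent of `v` and descent after base change along its nerve. -/
theorem desc_of_baseChange_cech (u : X ⟶ S) (v : Y ⟶ S) (hv : Univ v)
    (h : ∀ n : SimplexCategoryᵒᵖ, Desc toAug bot (cech (pullback.snd u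
      ((cech v).map (toBot (toAug.obj n)) : (cech v).obj (toAug.obj n) ⟶ S)))) :
    Desc toAug bot (cech u) :=
  desc_fst_of_descZ u v (descZ_of_snd u v hv.desc (descU_of_lines u v h))
    (descV_of_lines u v fun _ => hv _ _)

/-- Universal descent is local for maps of universal descent. -/
theorem Univ.of_cover {f : X ⟶ S} {S' : TopCat.{u}} {g : S' ⟶ S} (hg : Univ g)
    (hf : Univ (pullback.snd f g)) : Univ f := by
  intro T k
  refine desc_of_baseChange_cech _ (pullback.snd g k) (hg.baseChange k) fun n => ?_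
  let a : (cech (pullback.snd g k)).obj (toAug.obj n) ⟶ T :=
    (cech (pullback.snd g k)).map (toBot (toAug.obj n))
  let m : (cech (pullback.snd g k)).obj (toAug.obj n) ⟶ S' :=
    (coord (pullback.snd g k) n.unop.len 0 :) ≫ pullback.fst g k
  have hm : a ≫ k = m ≫ g := by
    ext x
    exact (ConcreteCategory.congr_hom (pullback.condition (f := g) (g := k)) _).symm
  have P₁ := (IsPullback.of_hasPullback (pullback.snd f k) a).paste_horiz
    (IsPullback.of_hasPullback f k)
  rw [hm] at P₁
  let l := pullback.lift (pullback.fst (pullback.snd f k) a ≫ pullback.fst f k)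
    (pullback.snd (pullback.snd f k) a ≫ m) (P₁.w.trans (Category.assoc _ _ _).symm)
  have P₂ : IsPullback l (pullback.snd (pullback.snd f k) a) (pullback.snd f g) m :=
    IsPullback.of_right (by rwa [pullback.lift_fst]) (pullback.lift_snd _ _ _)
      (IsPullback.of_hasPullback f g)
  exact desc_of_isPullback P₂ (hf _ m)

theorem Univ.of_comp {f : X ⟶ Y} {g : Y ⟶ S} (h : Univ (f ≫ g)) : Univ g :=
  h.of_cover (Univ.of_section (pullback.lift f (𝟙 X) (Category.id_comp _).symm)
    (pullback.lift_snd _ _ _))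

theorem Univ.comp {f : X ⟶ Y} {g : Y ⟶ S} (hf : Univ f) (hg : Univ g) : Univ (f ≫ g) := by
  refine hg.of_cover (Univ.of_comp (f := pullback.lift (𝟙 X) f (Category.id_comp _)) ?_)
  rwa [pullback.lift_snd]

theorem Univ.pullback_map {X' Y' : TopCat.{u}} (pX : X' ⟶ S) (pY : Y' ⟶ S) (f : X ⟶ X')
    (g : Y ⟶ Y') (hf : Univ f) (hg : Univ g) :
    Univ (pullback.map (f ≫ pX) (g ≫ pY) pX pY f g (𝟙 S) (Category.comp_id _)
      (Category.comp_id _)) := by
  let b := pullback.map (f ≫ pX) (g ≫ pY) pX (g ≫ pY) f (𝟙 Y) (𝟙 S) (Category.comp_id _)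
    (by simp)
  let c := pullback.map pX (g ≫ pY) pX pY (𝟙 X') g (𝟙 S) (by simp) (Category.comp_id _)
  have hb : IsPullback b (pullback.fst (f ≫ pX) (g ≫ pY)) (pullback.fst pX (g ≫ pY)) f :=
    IsPullback.of_right (h₁₂ := pullback.snd pX (g ≫ pY)) (h₂₂ := pX)
      (by
        rw [show b ≫ pullback.snd pX (g ≫ pY) = pullback.snd (f ≫ pX) (g ≫ pY) from
          (pullback.lift_snd _ _ _).trans (Category.comp_id _)]
        exact (IsPullback.of_hasPullback (f ≫ pX) (g ≫ pY)).flip)
      (pullback.lift_fst _ _ _) (IsPullback.of_hasPullback pX (g ≫ pY)).flip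
  have hc : IsPullback c (pullback.snd pX (g ≫ pY)) (pullback.snd pX pY) g :=
    IsPullback.of_right (h₁₂ := pullback.fst pX pY) (h₂₂ := pY)
      (by
        rw [show c ≫ pullback.fst pX pY = pullback.fst pX (g ≫ pY) from
          (pullback.lift_fst _ _ _).trans (Category.comp_id _)]
        exact IsPullback.of_hasPullback pX (g ≫ pY))
      (pullback.lift_snd _ _ _) (IsPullback.of_hasPullback pX pY)
  have hbc : pullback.map (f ≫ pX) (g ≫ pY) pX pY f g (𝟙 S) (Category.comp_id _)
      (Category.comp_id _) = b ≫ c := by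
    apply pullback.hom_ext <;>
      simp only [b, c, pullback.map, Category.assoc, pullback.lift_fst, pullback.lift_fst_assoc,
        pullback.lift_snd, pullback.lift_snd_assoc, Category.id_comp, Category.comp_id]
  rw [hbc]
  exact (hf.of_isPullback hb.flip).comp (hg.of_isPullback hc.flip)

end Groth.Agent.FibDescLib
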