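import Groth.Agent.FibDescLib.ProperDesc
import Groth.Agent.FibDescLib.Univ

/-!
# Proper surjections with separated fibres are of universal cohomological descent
-/

universe u

open CategoryTheory CategoryTheory.Limits Opposite TopologicalSpace

namespace Groth.Agent.FibDescLib

/-- Proper surjections with separated fibres are of universal descent. -/
theorem univ_of_proper {X S : TopCat.{u}} (f : X ⟶ S) (hf : IsProperMap f)
    (hs : ∀ x x' : X, f x = f x' → x ≠ x' →
      ∃ U V : Set X, IsOpen U ∧ IsOpen V ∧ x ∈ U ∧ x' ∈ V ∧ Disjoint U V)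
    (hsurj : Function.Surjective f) : Univ f := by
  intro T g
  let D : Set (S × T) := {p | p.1 = g p.2}
  let Pf : X × T → S × T := Prod.map f id
  have hP : IsProperMap (Set.restrictPreimage D Pf) :=
    (hf.prodMap isProperMap_id).restrictPreimage D
  let sD : D ≃ₜ T :=
    { toFun := fun p => p.1.2
      invFun := fun t => ⟨(g t, t), rfl⟩
      left_inv := fun p => Subtype.ext (Prod.ext p.2.symm rfl)
      right_inv := fun t => rfl
      continuous_toFun := continuous_snd.comp continuous_subtype_val
      continuous_invFun := Continuous.subtype_mk (g.hom.continuous.prodMk continuous_id) _ }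
  let h := TopCat.homeoOfIso (TopCat.pullbackIsoProdSubtype f g)
  have e : ∀ w, pullback.snd f g w = sD (Set.restrictPreimage D Pf ⟨(h w).1, (h w).2⟩) := fun w => by
    have := TopCat.pullbackIsoProdSubtype_hom_apply (f := f) (g := g) w
    exact (congrArg (fun z => z.1.2) this).symm
  have hprop : IsProperMap (pullback.snd f g) := by
    have he : ⇑(pullback.snd f g) =
        sD ∘ Set.restrictPreimage D Pf ∘ h := funext e
    rw [he]
    exact sD.isProperMap.comp (hP.comp h.isProperMap)
  refine desc_cech_of_proper _ hprop (fun x x' hxx' hne => ?_) fun t => ?_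
  · have hc := fun w => ConcreteCategory.congr_hom (pullback.condition (f := f) (g := g)) w
    have hfst : pullback.fst f g x ≠ pullback.fst f g x' := fun h => hne (pb_ext h hxx')
    obtain ⟨U, V, hU, hV, hx, hx', hd⟩ := hs _ _
      ((hc x).trans ((congrArg g hxx').trans (hc x').symm)) hfst
    exact ⟨pullback.fst f g ⁻¹' U, pullback.fst f g ⁻¹' V,
      hU.preimage (pullback.fst f g).hom.continuous, hV.preimage (pullback.fst f g).hom.continuous,
      hx, hx', hd.preimage _⟩
  · obtain ⟨x, hx⟩ := hsurj (g t)
    exact ⟨(TopCat.pullbackIsoProdSubtype f g).inv ⟨(x, t), hx⟩,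
      ConcreteCategory.congr_hom (TopCat.pullbackIsoProdSubtype_inv_snd f g) _⟩

end Groth.Agent.FibDescLib
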