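import Groth.Agent.FibDescLib.ProperDesc

/-!
# Descent passes to retracts
-/

universe u v₁ v₂ v₃ w₁ w₂ w₃ u₁ u₂ u₃

open CategoryTheory CategoryTheory.Limits Opposite

namespace Groth.Agent.FibDescLib

section Derived

variable {C : Type u₁} [Category.{v₁} C] [Abelian C] [HasDerivedCategory.{w₁} C]
  {D : Type u₂} [Category.{v₂} D] [Abelian D] [HasDerivedCategory.{w₂} D]
  {E : Type u₃} [Category.{v₃} E] [Abelian E] [HasDerivedCategory.{w₃} E]

/-- Isomorphic exact functors give isomorphic derived functors. -/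
theorem nonempty_mapD_congr {F G : C ⥤ D} [F.Additive] [PreservesFiniteLimits F]
    [PreservesFiniteColimits F] [G.Additive] [PreservesFiniteLimits G] [PreservesFiniteColimits G]
    (e : F ≅ G) : Nonempty (F.mapDerivedCategory ≅ G.mapDerivedCategory) :=
  ⟨Localization.liftNatIso DerivedCategory.Q (HomologicalComplex.quasiIso C (ComplexShape.up ℤ))
    (F.mapHomologicalComplex _ ⋙ DerivedCategory.Q) (G.mapHomologicalComplex _ ⋙ DerivedCategory.Q)
    _ _ (Functor.isoWhiskerRight (NatIso.mapHomologicalComplex e _) _)⟩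

/-- Derived functors of composites of exact functors. -/
theorem nonempty_mapD_comp (F : C ⥤ D) (G : D ⥤ E) (H : C ⥤ E) (e : H ≅ F ⋙ G)
    [F.Additive] [PreservesFiniteLimits F] [PreservesFiniteColimits F]
    [G.Additive] [PreservesFiniteLimits G] [PreservesFiniteColimits G]
    [H.Additive] [PreservesFiniteLimits H] [PreservesFiniteColimits H] :
    Nonempty (H.mapDerivedCategory ≅ F.mapDerivedCategory ⋙ G.mapDerivedCategory) := by
  have : Localization.Lifting DerivedCategory.Q (HomologicalComplex.quasiIso C (ComplexShape.up ℤ))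
      (H.mapHomologicalComplex _ ⋙ DerivedCategory.Q)
      (F.mapDerivedCategory ⋙ G.mapDerivedCategory) :=
    ⟨(Functor.associator _ _ _).symm ≪≫ Functor.isoWhiskerRight F.mapDerivedCategoryFactors _ ≪≫
      Functor.associator _ _ _ ≪≫ Functor.isoWhiskerLeft _ G.mapDerivedCategoryFactors ≪≫
      (Functor.associator _ _ _).symm ≪≫ Functor.isoWhiskerRight
        (show F.mapHomologicalComplex (ComplexShape.up ℤ) ⋙ G.mapHomologicalComplex _ ≅
          H.mapHomologicalComplex _ from
          NatIso.ofComponents (fun K => HomologicalComplex.Hom.isoOfComponents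
            (fun i => e.symm.app (K.X i)) fun i j _ => (e.inv.naturality (K.d i j)).symm)
            fun f => HomologicalComplex.hom_ext _ _ fun i => e.inv.naturality (f.f i)) _⟩
  exact ⟨Localization.liftNatIso DerivedCategory.Q (HomologicalComplex.quasiIso C (ComplexShape.up ℤ))
    (H.mapHomologicalComplex _ ⋙ DerivedCategory.Q) (H.mapHomologicalComplex _ ⋙ DerivedCategory.Q)
    _ _ (Iso.refl _)⟩

/-- The derived functor of the identity. -/
theorem nonempty_mapD_id (F : C ⥤ C) (e : F ≅ 𝟭 C) [F.Additive] [PreservesFiniteLimits F]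
    [PreservesFiniteColimits F] :
    Nonempty (F.mapDerivedCategory ≅ 𝟭 (DerivedCategory C)) := by
  have : Localization.Lifting DerivedCategory.Q (HomologicalComplex.quasiIso C (ComplexShape.up ℤ))
      (F.mapHomologicalComplex _ ⋙ DerivedCategory.Q) (𝟭 (DerivedCategory C)) :=
    ⟨Functor.rightUnitor _ ≪≫ (Functor.leftUnitor _).symm ≪≫ Functor.isoWhiskerRight
      (show 𝟭 (CochainComplex C ℤ) ≅ F.mapHomologicalComplex (ComplexShape.up ℤ) from
        NatIso.ofComponents (fun K => HomologicalComplex.Hom.isoOfComponents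
          (fun i => e.symm.app (K.X i)) fun i j _ => (e.inv.naturality (K.d i j)).symm)
          fun f => HomologicalComplex.hom_ext _ _ fun i => e.inv.naturality (f.f i)) _⟩
  exact ⟨Localization.liftNatIso DerivedCategory.Q (HomologicalComplex.quasiIso C (ComplexShape.up ℤ))
    (F.mapHomologicalComplex _ ⋙ DerivedCategory.Q) (F.mapHomologicalComplex _ ⋙ DerivedCategory.Q)
    _ _ (Iso.refl _)⟩

end Derived

section Retract

variable {C : Type (u + 1)} [Category.{u} C] [Abelian C] [HasInjectiveResolutions C]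
  {E : Type (u + 1)} [Category.{u} E] [Abelian E] [EnoughInjectives E]
  {E' : Type (u + 1)} [Category.{u} E'] [Abelian E'] [EnoughInjectives E']
  {p : C ⥤ E} {q : E ⥤ C} (adj : p ⊣ q) {p' : C ⥤ E'} {q' : E' ⥤ C} (adj' : p' ⊣ q')
  [p.Additive] [q.Additive] [p'.Additive] [q'.Additive]
  [PreservesFiniteLimits p] [PreservesFiniteColimits p]
  [PreservesFiniteLimits p'] [PreservesFiniteColimits p']
  (R : E' ⥤ E) (I : E ⥤ E') [R.Additive] [I.Additive]
  [PreservesFiniteLimits R] [PreservesFiniteColimits R]
  [PreservesFiniteLimits I] [PreservesFiniteColimits I]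

/-- Descent passes to a retract of the inverse image. -/
theorem DescAdj.of_retract (h : DescAdj adj) (e : p ≅ p' ⋙ R) (e' : R ⋙ I ≅ 𝟭 E') :
    DescAdj adj' := by
  let _ : HasDerivedCategory.{u + 1} C := HasDerivedCategory.standard C
  let _ : HasDerivedCategory.{u + 1} E := HasDerivedCategory.standard E
  let _ : HasDerivedCategory.{u + 1} E' := HasDerivedCategory.standard E'
  obtain ⟨ε⟩ := nonempty_mapD_comp p' R p e
  have : (R ⋙ I).Additive := inferInstance
  have : PreservesFiniteLimits (R ⋙ I) := comp_preservesFiniteLimits R I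
  have : PreservesFiniteColimits (R ⋙ I) := comp_preservesFiniteColimits R I
  obtain ⟨γ₁⟩ := nonempty_mapD_comp R I (R ⋙ I) (Iso.refl _)
  obtain ⟨γ₂⟩ := nonempty_mapD_id (R ⋙ I) e'
  let γ := γ₁.symm ≪≫ γ₂
  refine DescAdj.of_bijective adj' fun K L => ⟨fun g g' hg => ?_, fun φ => ?_⟩
  · refine (DescAdj.bijective adj h K L).1 ?_
    simp only [← NatIso.naturality_2 ε, Functor.comp_map]
    exact congrArg (fun x => ε.hom.app K.obj ≫ R.mapDerivedCategory.map x ≫ ε.inv.app L.obj) hg
  · obtain ⟨g, hg⟩ := (DescAdj.bijective adj h K L).2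
      (ε.hom.app K.obj ≫ R.mapDerivedCategory.map φ ≫ ε.inv.app L.obj)
    refine ⟨g, ?_⟩
    have h₁ : R.mapDerivedCategory.map (p'.mapDerivedCategory.map g) = R.mapDerivedCategory.map φ := by
      change p.mapDerivedCategory.map g = _ at hg
      rw [← NatIso.naturality_2 ε g] at hg
      exact (cancel_mono (ε.inv.app L.obj)).1 ((cancel_epi (ε.hom.app K.obj)).1 hg)
    change p'.mapDerivedCategory.map g = φ
    exact (NatIso.naturality_1 γ (p'.mapDerivedCategory.map g)).symm.trans
      ((congrArg (fun x => γ.inv.app _ ≫ I.mapDerivedCategory.map x ≫ γ.hom.app _) h₁).trans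
        (NatIso.naturality_1 γ φ))

end Retract

end Groth.Agent.FibDescLib
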