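import Groth.Agent.FibDescLib.Cech

/-!
# Čech nerves of maps with a section

The augmented Čech nerve of a map with a section extends to the category of finite pointed ordered
sets with bottom-preserving maps (the extra degeneracy).
-/

universe u

open CategoryTheory CategoryTheory.Limits Opposite TopologicalSpace

namespace Groth.Agent.FibDescLib

open Groth.Agent.CohDerLib.Acyclic

/-- Nonempty finite ordinals with maps preserving the bottom element. -/
structure Db : Type where
  /-- the number of elements which are not the bottom -/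
  len : ℕ

instance : Category.{0} Db where
  Hom a b := {σ : Fin (a.len + 1) →o Fin (b.len + 1) // σ 0 = 0}
  id a := ⟨OrderHom.id, rfl⟩
  comp σ τ := ⟨τ.1.comp σ.1, (congrArg τ.1 σ.2).trans τ.2⟩

lemma Db.hom_ext {a b : Db} (σ τ : a ⟶ b) (h : ∀ i, σ.1 i = τ.1 i) : σ = τ :=
  Subtype.ext (OrderHom.ext _ _ (funext h))

instance (b : Db) : Subsingleton ((⟨0⟩ : Db) ⟶ b) :=
  ⟨fun σ τ => Db.hom_ext σ τ fun i => by
    obtain rfl : i = 0 := Subsingleton.elim (α := Fin 1) i 0
    exact σ.2.trans τ.2.symm⟩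

lemma Db.eq_of_bot {b : Db} (σ τ : (⟨0⟩ : Db) ⟶ b) : σ = τ := Subsingleton.elim σ τ

/-- Adjoining a bottom element. -/
def addBot {m n : ℕ} (σ : Fin (m + 1) →o Fin (n + 1)) : Fin (m + 1 + 1) →o Fin (n + 1 + 1) where
  toFun := Fin.cases 0 fun i => (σ i).succ
  monotone' := by
    intro i j h
    induction i using Fin.cases with
    | zero => exact Fin.zero_le _
    | succ i =>
      induction j using Fin.cases with
      | zero => exact absurd h (by simp [Fin.le_def])
      | succ j => simpa using σ.monotone (Fin.succ_le_succ_iff.1 h)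

/-- The values of the functor adjoining a bottom element. -/
def dbObj : WithInitial SimplexCategory → Db
  | .of n => ⟨n.len + 1⟩
  | .star => ⟨0⟩

/-- Adjoining a bottom element, as a functor. -/
def toDb : WithInitial SimplexCategory ⥤ Db where
  obj := dbObj
  map {a b} φ :=
    match a, b, φ with
    | .of _, .of _, φ => ⟨addBot (WithInitial.down φ).toOrderHom, rfl⟩
    | .star, b, _ => ⟨⟨fun _ => 0, fun _ _ _ => le_rfl⟩, rfl⟩
    | .of _, .star, φ => (φ : PEmpty).elim
  map_id a := by
    cases a with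
    | of n =>
      refine Db.hom_ext _ _ fun i => ?_
      induction i using Fin.cases <;> rfl
    | star => exact Db.eq_of_bot _ _
  map_comp {a b c} φ ψ := by
    cases a with
    | star => exact Db.eq_of_bot _ _
    | of n =>
      cases b with
      | star => exact (φ : PEmpty).elim
      | of m =>
        cases c with
        | star => exact (ψ : PEmpty).elim
        | of l =>
          refine Db.hom_ext _ _ fun i => ?_
          induction i using Fin.cases <;> rfl

/-- Forgetting that the bottom is fixed. -/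
def Db.forget {a : Db} {m : SimplexCategory} (σ : (⟨m.len + 1⟩ : Db) ⟶ a) :
    Fin (m.len + 1) →o Fin (a.len + 1) where
  toFun i := σ.1 i.succ
  monotone' _ _ h := σ.1.monotone (Fin.succ_le_succ_iff.2 h)

variable {X S : TopCat.{u}} (f : X ⟶ S) (s : S ⟶ X)

/-- The extended nerve: tuples in a fibre whose first entry is on the section. -/
def sectObj (a : Db) : TopCat.{u} :=
  TopCat.of {x : Fin (a.len + 1) → X // (∀ i j, f (x i) = f (x j)) ∧ x 0 = s (f (x 0))}

lemma continuous_sectCoord (a : Db) (i : Fin (a.len + 1)) :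
    Continuous fun x : sectObj f s a => x.1 i :=
  (continuous_apply i).comp continuous_subtype_val

/-- The extended nerve. -/
def sect : Dbᵒᵖ ⥤ TopCat.{u} where
  obj a := sectObj f s a.unop
  map {a b} σ := TopCat.ofHom
    ⟨fun x => ⟨fun i => x.1 (σ.unop.1 i), fun i j => x.2.1 _ _, by
      show x.1 (σ.unop.1 0) = s (f (x.1 (σ.unop.1 0)))
      rw [σ.unop.2]
      exact x.2.2⟩,
      Continuous.subtype_mk (continuous_pi fun i => continuous_sectCoord f s a.unop (σ.unop.1 i)) _⟩

variable (hs : s ≫ f = 𝟙 S)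

include hs in
lemma sect_apply (y : S) : f (s y) = y := ConcreteCategory.congr_hom hs y

/-- Comparison with the Čech nerve, on objects. -/
def sectIsoApp : ∀ a : WithInitial SimplexCategory,
    (toDb.op ⋙ sect f s).obj (op a) ≅ (cech f).obj (op a)
  | .of n =>
    { hom := TopCat.ofHom ⟨fun x => ⟨fun i => x.1 i.succ, fun i j => x.2.1 _ _⟩,
        Continuous.subtype_mk (continuous_pi fun i =>
          continuous_sectCoord f s ⟨n.len + 1⟩ (Fin.succ i)) _⟩
      inv := TopCat.ofHom ⟨fun x => ⟨fun i => Fin.cases (s (f (x.1 0))) x.1 i, fun i j => by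
          have : ∀ k, f (Fin.cases (s (f (x.1 0))) x.1 k) = f (x.1 0) := by
            intro k
            induction k using Fin.cases with
            | zero => exact sect_apply f s hs _
            | succ k => exact x.2 k 0
          exact (this _).trans (this _).symm, by
          show s (f (x.1 0)) = s (f (s (f (x.1 0))))
          rw [sect_apply f s hs]⟩,
        by
          refine Continuous.subtype_mk (continuous_pi fun i => ?_) _
          induction i using Fin.cases with
          | zero => exact s.hom.continuous.comp (f.hom.continuous.comp (continuous_coord f n.len 0))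
          | succ i => exact continuous_coord f n.len i⟩
      hom_inv_id := by
        ext x
        refine Subtype.ext (funext fun i => ?_)
        induction i using Fin.cases with
        | zero =>
          show s (f (x.1 (Fin.succ (0 : Fin (n.len + 1))))) = x.1 0
          rw [x.2.1 (Fin.succ (0 : Fin (n.len + 1))) 0]
          exact x.2.2.symm
        | succ i => rfl
      inv_hom_id := by
        ext x
        rfl }
  | .star =>
    { hom := TopCat.ofHom ⟨fun x => f (x.1 0),
        f.hom.continuous.comp (continuous_sectCoord f s ⟨0⟩ 0)⟩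
      inv := TopCat.ofHom ⟨fun y => ⟨fun _ => s y, fun _ _ => rfl, by
          show s y = s (f (s y))
          rw [sect_apply f s hs]⟩,
        Continuous.subtype_mk (continuous_pi fun _ => s.hom.continuous) _⟩
      hom_inv_id := by
        ext x
        refine Subtype.ext (funext fun i => ?_)
        obtain rfl : i = 0 := Subsingleton.elim (α := Fin 1) i 0
        exact x.2.2.symm
      inv_hom_id := by
        ext y
        exact sect_apply f s hs y }

/-- Comparison with the Čech nerve. -/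
def sectIso : toDb.op ⋙ sect f s ≅ cech f :=
  NatIso.ofComponents (fun a => sectIsoApp f s hs a.unop) (fun {a b} φ => by
    obtain ⟨a⟩ := a
    obtain ⟨b⟩ := b
    obtain ⟨φ⟩ := φ
    cases a with
    | of n =>
      cases b with
      | of m =>
        ext x
        rfl
      | star =>
        ext x
        exact x.2.1 0 _
    | star =>
      cases b with
      | of m => exact (φ : PEmpty).elim
      | star =>
        ext x
        rfl)

/-- Identity base change, on restriction functors. -/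
noncomputable def bcIdIso {S₁ : Type} [Category.{0} S₁] (Y : S₁ ⥤ TopCat.{u}) :
    (bcMor (𝟭 S₁) Y).functor ≅ 𝟭 (Tot Y) :=
  NatIso.ofComponents (fun A =>
    { hom := mkHom (Y := Y) (A := (bcMor (𝟭 S₁) Y).functor.obj A) (B := A) (𝟙 _) fun x hx =>
        mem_id (Y := Y) ((mem_img_iff (𝟭 S₁) Y A.base (opn A) x).1 hx)
      inv := mkHom (Y := Y) (A := A) (B := (bcMor (𝟭 S₁) Y).functor.obj A) (𝟙 _) fun x hx =>
        mem_id (Y := Y) ((mem_img_iff (𝟭 S₁) Y A.base (opn A) x).2 hx)
      hom_inv_id := hom_ext _ _ (Category.comp_id _)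
      inv_hom_id := hom_ext _ _ (Category.comp_id _) })
    (fun φ => hom_ext _ _ ((Category.comp_id _).trans (Category.id_comp _).symm))

/-- Restriction along the identity base change is the identity. -/
noncomputable def rsIdIso {S₁ : Type} [Category.{0} S₁] (Y : S₁ ⥤ TopCat.{u}) :
    rs (bcMor (𝟭 S₁) Y).functor (jt (𝟭 S₁ ⋙ Y)) (jt Y) ≅ 𝟭 _ :=
  haveI : (bcMor (𝟭 S₁) Y).functor.IsContinuous (jt Y) (jt Y) := (bcMor (𝟭 S₁) Y).isContinuous
  Functor.sheafPushforwardContinuousId' (bcIdIso Y) AddCommGrpCat.{u} (jt Y)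

/-- So is its right adjoint. -/
noncomputable def RsIdIso {S₁ : Type} [Category.{0} S₁] (Y : S₁ ⥤ TopCat.{u}) :
    Rs (bcMor (𝟭 S₁) Y).functor (jt (𝟭 S₁ ⋙ Y)) (jt Y) ≅ 𝟭 (Sheaf (jt Y) AddCommGrpCat.{u}) :=
  ((adjR (bcMor (𝟭 S₁) Y).functor (jt (𝟭 S₁ ⋙ Y)) (jt Y)).ofNatIsoLeft (rsIdIso Y)).rightAdjointUniq
    Adjunction.id

section

variable (Y : Dbᵒᵖ ⥤ TopCat.{u})

/-- descent for diagrams extending to bottom preserving maps -/
theorem desc_of_db : Desc toAug bot (toDb.op ⋙ Y) := by
  let a := bcMor toAug (toDb.op ⋙ Y)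
  let b := bcMor (ptF bot) (toDb.op ⋙ Y)
  let Q := bcMor toDb.op Y
  let J := bcMor (toAug ⋙ toDb.op) Y
  let P := bcMor (𝟭 SimplexCategoryᵒᵖ) (toAug ⋙ toDb.op ⋙ Y)
  let i₁ := bcMor (𝟭 Dbᵒᵖ) Y
  let bY := b.functor ⋙ Q.functor
  haveI : bY.IsContinuous (jt (ptF bot ⋙ toDb.op ⋙ Y)) (jt Y) :=
    Functor.isContinuous_comp b.functor Q.functor _ (jt (toDb.op ⋙ Y)) _
  haveI : bY.IsCocontinuous (jt (ptF bot ⋙ toDb.op ⋙ Y)) (jt Y) :=
    isCocontinuous_comp b.functor Q.functor (J := jt (ptF bot ⋙ toDb.op ⋙ Y)) (K := jt (toDb.op ⋙ Y))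
  haveI : bY.Faithful := ⟨fun {A B} g g' _ => hom_ext g g' (Subsingleton.elim _ _)⟩
  haveI : bY.Full := ⟨fun {A B} g => ⟨mkHom (eqToHom (Subsingleton.elim _ _)) (fun x hx => by
    obtain ⟨⟨⟨⟩⟩, U⟩ := A
    obtain ⟨⟨⟨⟩⟩, V⟩ := B
    obtain ⟨z, ⟨w, hw, rfl⟩, hz⟩ := hom_mem g x ⟨x, ⟨x, hx, rfl⟩, rfl⟩
    have hg : g.base = 𝟙 _ := Quiver.Hom.unop_inj (Db.eq_of_bot _ _)
    rw [hg] at hz
    have hx' : x = w :=
      (map_id_apply (Y := Y) (toDb.op.obj bot) x).symm.trans (hz.symm :)
    simp only [eqToHom_refl]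
    rw [map_id_apply, hx']
    exact hw), hom_ext _ _ (Quiver.Hom.unop_inj (Db.eq_of_bot _ _))⟩⟩
  haveI hJ : (rs J.functor (jt _) (jt Y)).PreservesInjectiveObjects := by
    refine J.preservesInjectiveObjects_rs
      { κ := fun _ => PUnit
        obj := fun {k} _ => op (SimplexCategory.mk k.unop.len)
        hom := fun {k} _ => Quiver.Hom.op (⟨⟨fun i => Fin.cases 0 id i, ?_⟩, rfl⟩ :
          (⟨k.unop.len + 1⟩ : Db) ⟶ k.unop)
        exists_fac := fun {k i} g => ?_
        eq_of_fac := fun _ _ _ => rfl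
        hom_ext := fun g g' h => ?_ }
    · intro i j h
      induction i using Fin.cases with
      | zero => exact Fin.zero_le _
      | succ i =>
        induction j using Fin.cases with
        | zero => exact absurd h (by simp [Fin.le_def])
        | succ j => simpa using Fin.succ_le_succ_iff.1 h
    · obtain ⟨i⟩ := i
      refine ⟨⟨⟩, (SimplexCategory.mkHom (Db.forget g.unop)).op, ?_⟩
      apply Quiver.Hom.unop_inj
      refine Db.hom_ext _ _ fun x => ?_
      induction x using Fin.cases with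
      | zero => exact g.unop.2.symm
      | succ x => rfl
    · apply Quiver.Hom.unop_inj
      apply SimplexCategory.Hom.ext
      refine OrderHom.ext _ _ (funext fun x => ?_)
      exact congrArg (fun φ => φ.unop.1 (Fin.succ x)) h
  haveI : J.functor.IsContinuous (jt (toAug ⋙ toDb.op ⋙ Y)) (jt Y) := J.isContinuous
  haveI : J.functor.IsCocontinuous (jt (toAug ⋙ toDb.op ⋙ Y)) (jt Y) := J.isCocontinuous
  let σA : 𝟭 _ ⋙ (toAug ⋙ toDb.op) ≅ toAug ⋙ toDb.op :=
    (toAug ⋙ toDb.op).leftUnitor
  have heA : ∀ (i : SimplexCategoryᵒᵖ) (x : (toAug ⋙ toDb.op ⋙ Y).obj i),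
      Y.map (σA.hom.app i) (J.e.app (P.ψ.obj i) (P.e.app i x)) =
        Q.e.app (a.ψ.obj i) (a.e.app i x) := fun i x => map_id_apply (Y := Y) _ x
  let wA := sqW J a P Q σA heA
  have hA : IsIso (Functor.whiskerRight (βR wA (jt _) (jt _) (jt Y) (jt _))
      (rs b.functor (jt _) (jt _))) := by
    rw [NatTrans.isIso_iff_isIso_app]
    intro H
    have : IsIso ((sheafToPresheaf _ AddCommGrpCat.{u}).map
        ((Functor.whiskerRight (βR wA (jt _) (jt _) (jt Y) (jt _))
          (rs b.functor (jt _) (jt _))).app H)) := by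
      rw [NatTrans.isIso_iff_isIso_app]
      intro A
      have := post_initial J a P Q σA heA
        (cart_of_surjective J a P Q σA heA (bcMor_surjective _ _)) (b.functor.obj A.unop) (by
          intro n g
          refine ⟨n, 𝟙 n, (WithInitial.homTo n.unop).op, Quiver.Hom.unop_inj
            (Db.eq_of_bot _ _), fun n₁ h₁ g₁ _ => Or.inl ⟨h₁, Category.id_comp h₁, ?_⟩⟩
          exact Quiver.Hom.unop_inj (Subsingleton.elim (α := (WithInitial.star : WithInitial
            SimplexCategory) ⟶ WithInitial.of n.unop) _ _))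
      exact isIso_βR_app_app wA _ _ _ _ H (b.functor.obj A.unop)
    exact isIso_of_reflects_iso _ (sheafToPresheaf _ AddCommGrpCat.{u})
  let σU : toAug ⋙ toDb.op ⋙ 𝟭 Dbᵒᵖ ≅ (toAug ⋙ toDb.op) ⋙ 𝟭 Dbᵒᵖ := Iso.refl _
  have heU : ∀ (i : SimplexCategoryᵒᵖ) (x : (toAug ⋙ toDb.op ⋙ Y).obj i),
      Y.map (σU.hom.app i) (i₁.e.app (J.ψ.obj i) (J.e.app i x)) =
        i₁.e.app (J.ψ.obj i) (J.e.app i x) := fun i x => map_id_apply (Y := Y) _ x
  let wU := sqW i₁ J J i₁ σU heU
  have hU : IsIso (Functor.whiskerRight (βR wU (jt _) (jt _) (jt Y) (jt Y))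
      (rs bY (jt _) (jt Y))) := by
    rw [NatTrans.isIso_iff_isIso_app]
    intro H
    have : IsIso ((sheafToPresheaf _ AddCommGrpCat.{u}).map
        ((Functor.whiskerRight (βR wU (jt _) (jt _) (jt Y) (jt Y))
          (rs bY (jt _) (jt Y))).app H)) := by
      rw [NatTrans.isIso_iff_isIso_app]
      intro A
      have := post_initial i₁ J J i₁ σU heU
        (cart_of_surjective i₁ J J i₁ σU heU (bcMor_surjective _ _)) (bY.obj A.unop) (by
          intro n g
          obtain ⟨n⟩ := n
          refine ⟨op (SimplexCategory.mk n.len), Quiver.Hom.op (⟨⟨fun i => Fin.cases 0 id i,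
              fun i j h => ?_⟩, rfl⟩ : (⟨n.len + 1⟩ : Db) ⟶ n),
            Quiver.Hom.op (⟨⟨fun _ => 0, fun _ _ _ => le_rfl⟩, rfl⟩ : (⟨0⟩ : Db) ⟶ ⟨n.len + 1⟩),
            Quiver.Hom.unop_inj (Db.eq_of_bot _ _), fun n₁ h₁ g₁ _ => Or.inl
              ⟨(SimplexCategory.mkHom (Db.forget h₁.unop)).op, ?_,
                Quiver.Hom.unop_inj (Db.eq_of_bot _ _)⟩⟩
          · induction i using Fin.cases with
            | zero => exact Fin.zero_le _
            | succ i =>
              induction j using Fin.cases with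
              | zero => exact absurd h (by simp [Fin.le_def])
              | succ j => simpa using Fin.succ_le_succ_iff.1 h
          · apply Quiver.Hom.unop_inj
            refine Db.hom_ext _ _ fun x => ?_
            induction x using Fin.cases with
            | zero => exact h₁.unop.2.symm
            | succ x => rfl)
      exact isIso_βR_app_app wU _ _ _ _ H (bY.obj A.unop)
    exact isIso_of_reflects_iso _ (sheafToPresheaf _ AddCommGrpCat.{u})
  let rbY := rs bY (jt (ptF bot ⋙ toDb.op ⋙ Y)) (jt Y)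
  let rb := rs b.functor (jt (ptF bot ⋙ toDb.op ⋙ Y)) (jt (toDb.op ⋙ Y))
  let rQ := rs Q.functor (jt (toDb.op ⋙ Y)) (jt Y)
  let rJ := rs J.functor (jt (toAug ⋙ toDb.op ⋙ Y)) (jt Y)
  let RJ := Rs J.functor (jt (toAug ⋙ toDb.op ⋙ Y)) (jt Y)
  haveI : rJ.PreservesInjectiveObjects := hJ
  let q := pr a.functor b.functor (jt (ptF bot ⋙ toDb.op ⋙ Y)) (jt (toAug ⋙ toDb.op ⋙ Y))
    (jt (toDb.op ⋙ Y))
  -- `q` is the restriction to the bottom of `RJ`
  let e₁ : RJ ⋙ rbY ≅ q :=
    (Functor.associator RJ rQ rb).symm ≪≫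
      @asIso _ _ _ _ _ hA ≪≫
        Functor.isoWhiskerRight (Functor.isoWhiskerRight (rsIdIso (toAug ⋙ toDb.op ⋙ Y)) _) rb ≪≫
          Functor.isoWhiskerRight (Functor.leftUnitor _) rb
  -- and `q` of a restriction is the restriction to the bottom
  let e₂ : rJ ⋙ q ≅ rbY :=
    Functor.isoWhiskerLeft rJ e₁.symm ≪≫ (Functor.associator rJ RJ rbY).symm ≪≫
      (@asIso _ _ _ _ _ hU).symm ≪≫
        Functor.isoWhiskerRight (Functor.isoWhiskerRight (RsIdIso Y) _ ≪≫
          Functor.leftUnitor _ ≪≫ rsIdIso Y) rbY ≪≫ Functor.leftUnitor _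
  let adjY := adjL bY (jt (ptF bot ⋙ toDb.op ⋙ Y)) (jt Y)
  haveI : IsIso (adjR bY (jt (ptF bot ⋙ toDb.op ⋙ Y)) (jt Y)).counit := by
    rw [NatTrans.isIso_iff_isIso_app]
    intro H
    have : IsIso ((sheafToPresheaf _ AddCommGrpCat.{u}).map
        ((adjR bY (jt (ptF bot ⋙ toDb.op ⋙ Y)) (jt Y)).counit.app H)) := by
      rw [NatTrans.isIso_iff_isIso_app]
      intro c
      exact Functor.RightExtension.IsPointwiseRightKanExtensionAt.isIso_hom_app _
        (isPointwise bY _ (jt Y) H (bY.op.obj c))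
    exact isIso_of_reflects_iso _ (sheafToPresheaf _ AddCommGrpCat.{u})
  have ffR := (adjR bY (jt (ptF bot ⋙ toDb.op ⋙ Y)) (jt Y)).fullyFaithfulROfIsIsoCounit
  have ffL := (Adjunction.Triple.fullyFaithfulEquiv ⟨adjY, adjR bY _ (jt Y)⟩).symm ffR
  haveI := ffL.full
  haveI := ffL.faithful
  let adjq := adjS a.functor b.functor (jt (ptF bot ⋙ toDb.op ⋙ Y))
    (jt (toAug ⋙ toDb.op ⋙ Y)) (jt (toDb.op ⋙ Y))
  let ep : Ls bY (jt (ptF bot ⋙ toDb.op ⋙ Y)) (jt Y) ⋙ rJ ≅ pl a.functor b.functor
      (jt (ptF bot ⋙ toDb.op ⋙ Y)) (jt (toAug ⋙ toDb.op ⋙ Y)) (jt (toDb.op ⋙ Y)) :=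
    ((adjY.comp (adjR J.functor (jt (toAug ⋙ toDb.op ⋙ Y)) (jt Y))).ofNatIsoRight e₁).leftAdjointUniq
      adjq
  have : (rJ ⋙ q).Additive := inferInstance
  haveI : PreservesFiniteColimits rbY := rs_preservesFiniteColimits bY _ (jt Y)
  refine ⟨?_, fun G i hi => ?_⟩
  · have e' : pl a.functor b.functor (jt (ptF bot ⋙ toDb.op ⋙ Y)) (jt (toAug ⋙ toDb.op ⋙ Y))
        (jt (toDb.op ⋙ Y)) ⋙ q ≅ 𝟭 _ :=
      (Functor.isoWhiskerRight ep q).symm ≪≫ Functor.associator _ _ _ ≪≫
        Functor.isoWhiskerLeft _ e₂ ≪≫ (asIso adjY.unit).symm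
    have := (adjq.fullyFaithfulLOfCompIsoId e').full
    have := (adjq.fullyFaithfulLOfCompIsoId e').faithful
    infer_instance
  · refine IsZero.of_iso ?_ (((q.rightDerived i).mapIso (ep.app G)).symm ≪≫
      (DerFun.rightDerivedCompIso rJ q i
        ((Ls bY (jt (ptF bot ⋙ toDb.op ⋙ Y)) (jt Y)).obj G)).symm ≪≫
      (Groth.Agent.BigBC.rightDerivedCongr e₂ i).app _)
    obtain ⟨j, rfl⟩ := Nat.exists_eq_add_of_le hi
    rw [Nat.succ_eq_add_one, Nat.zero_add, Nat.add_comm]
    let I := injectiveResolution ((Ls bY (jt (ptF bot ⋙ toDb.op ⋙ Y)) (jt Y)).obj G)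
    refine IsZero.of_iso ?_ (I.isoRightDerivedObj rbY (j + 1))
    refine HomologicalComplex.ExactAt.isZero_homology ?_
    exact (I.cocomplex_exactAt_succ j).map rbY

end

include hs in
/-- A map with a section is of cohomological descent. -/
theorem desc_cech_of_section : Desc toAug bot (cech f) :=
  Desc.of_iso (sectIso f s hs) (desc_of_db (sect f s))

end Groth.Agent.FibDescLib
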