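import Mathlib.CategoryTheory.Sites.CoverLifting
import Mathlib.CategoryTheory.Sites.Pullback
import Mathlib.CategoryTheory.Adjunction.Mates
import Mathlib.CategoryTheory.Limits.Final
import Mathlib.CategoryTheory.Functor.KanExtension.Pointwise
import Mathlib.CategoryTheory.Sites.LeftExact
import Mathlib.Algebra.Category.Grp.Colimits
import Mathlib.Algebra.Category.Grp.Limits
import Mathlib.Algebra.Category.Grp.FilteredColimits

/-!
# Base change maps for squares of small sites

For a square of functors `P ⋙ i ≅ i' ⋙ Q` between small sites we define the two exchange maps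
between restriction and the right (resp. left) adjoints of restriction on abelian sheaves, prove
that the first is invertible at the objects where the induced functor on comma categories is
initial, and deduce invertibility of the second one from that of the transposed square.
-/

universe u

open CategoryTheory CategoryTheory.Limits Functor Opposite

namespace Groth.Agent.FibDescLib

section

variable {C C' D D' : Type u} [Category.{u} C] [Category.{u} C'] [Category.{u} D] [Category.{u} D']
  {i : C ⥤ D} {i' : C' ⥤ D'} {P : C' ⥤ C} {Q : D' ⥤ D} (w : P ⋙ i ≅ i' ⋙ Q)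

/-- The functor between comma categories induced by a square. -/
@[simps]
def post (d' : D') : StructuredArrow (op d') i'.op ⥤ StructuredArrow (op (Q.obj d')) i.op where
  obj X := StructuredArrow.mk (Y := op (P.obj X.right.unop))
    ((Q.map X.hom.unop).op ≫ (w.hom.app X.right.unop).op)
  map {X X'} φ := StructuredArrow.homMk (P.map φ.right.unop).op (by
    apply Quiver.Hom.unop_inj
    have h : φ.right.unop ≫ 𝟙 _ = φ.right.unop := Category.comp_id _
    have hn := w.hom.naturality φ.right.unop
    have hw : i'.map φ.right.unop ≫ X.hom.unop = X'.hom.unop :=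
      congrArg Quiver.Hom.unop (StructuredArrow.w φ)
    change i.map (P.map φ.right.unop) ≫ w.hom.app X.right.unop ≫ Q.map X.hom.unop =
      w.hom.app X'.right.unop ≫ Q.map X'.hom.unop
    rw [← hw, Q.map_comp]
    simp only [Functor.comp_map] at hn
    rw [← Category.assoc, hn, Category.assoc])

variable (J : GrothendieckTopology C) (J' : GrothendieckTopology C') (K : GrothendieckTopology D)
  (K' : GrothendieckTopology D')
  [i.IsContinuous J K] [i'.IsContinuous J' K'] [P.IsContinuous J' J] [Q.IsContinuous K' K]

/-- Restriction along functors of sites. -/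
noncomputable abbrev rs {C D : Type u} [Category.{u} C] [Category.{u} D] (T : C ⥤ D)
    (J : GrothendieckTopology C) (K : GrothendieckTopology D) [T.IsContinuous J K] :
    Sheaf K AddCommGrpCat.{u} ⥤ Sheaf J AddCommGrpCat.{u} :=
  T.sheafPushforwardContinuous AddCommGrpCat.{u} J K

/-- The right adjoint of restriction. -/
noncomputable abbrev Rs {C D : Type u} [Category.{u} C] [Category.{u} D] (T : C ⥤ D)
    (J : GrothendieckTopology C) (K : GrothendieckTopology D) [T.IsCocontinuous J K] :
    Sheaf J AddCommGrpCat.{u} ⥤ Sheaf K AddCommGrpCat.{u} :=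
  T.sheafPushforwardCocontinuous AddCommGrpCat.{u} J K

/-- The left adjoint of restriction. -/
noncomputable abbrev Ls {C D : Type u} [Category.{u} C] [Category.{u} D] (T : C ⥤ D)
    (J : GrothendieckTopology C) (K : GrothendieckTopology D) [T.IsContinuous J K] :
    Sheaf J AddCommGrpCat.{u} ⥤ Sheaf K AddCommGrpCat.{u} :=
  T.sheafPullback AddCommGrpCat.{u} J K

/-- `restriction ⊣ right Kan extension` -/
noncomputable abbrev adjR {C D : Type u} [Category.{u} C] [Category.{u} D] (T : C ⥤ D)
    (J : GrothendieckTopology C) (K : GrothendieckTopology D) [T.IsContinuous J K]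
    [T.IsCocontinuous J K] : rs T J K ⊣ Rs T J K :=
  T.sheafAdjunctionCocontinuous AddCommGrpCat.{u} J K

/-- `left Kan extension ⊣ restriction` -/
noncomputable abbrev adjL {C D : Type u} [Category.{u} C] [Category.{u} D] (T : C ⥤ D)
    (J : GrothendieckTopology C) (K : GrothendieckTopology D) [T.IsContinuous J K] :
    Ls T J K ⊣ rs T J K :=
  T.sheafAdjunctionContinuous AddCommGrpCat.{u} J K

/-- The two ways of restricting around a square agree. -/
noncomputable def sqIso : rs Q K' K ⋙ rs i' J' K' ≅ rs i J K ⋙ rs P J' J :=
  NatIso.ofComponents (fun H => (fullyFaithfulSheafToPresheaf J' AddCommGrpCat.{u}).preimageIso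
      (Functor.isoWhiskerRight (NatIso.op w) H.obj))
    (fun f => (sheafToPresheaf J' AddCommGrpCat.{u}).map_injective (NatTrans.ext (funext fun x =>
      (f.hom.naturality _).symm)))

lemma sqIso_hom_app_hom_app (H : Sheaf K AddCommGrpCat.{u}) (x : C') :
    ((sqIso w J J' K K').hom.app H).hom.app (op x) = H.obj.map (w.hom.app x).op := rfl

/-- The square, as a 2-cell. -/
noncomputable def sqCell : TwoSquare (rs Q K' K) (rs i J K) (rs i' J' K') (rs P J' J) :=
  TwoSquare.mk _ _ _ _ (sqIso w J J' K K').hom

/-- The base change map for right Kan extensions. -/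
noncomputable def βR [i.IsCocontinuous J K] [i'.IsCocontinuous J' K'] :
    Rs i J K ⋙ rs Q K' K ⟶ rs P J' J ⋙ Rs i' J' K' :=
  (mateEquiv (adjR i J K) (adjR i' J' K') (sqCell w J J' K K')).natTrans

lemma counit_hom {C D : Type u} [Category.{u} C] [Category.{u} D] (T : C ⥤ D)
    (J : GrothendieckTopology C) (K : GrothendieckTopology D) [T.IsContinuous J K]
    [T.IsCocontinuous J K] (H : Sheaf J AddCommGrpCat.{u}) :
    ((adjR T J K).counit.app H).hom = T.op.ranCounit.app H.obj :=
  (T.sheafAdjunctionCocontinuous_counit_app_hom AddCommGrpCat.{u} J K H).trans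
    (congr_app (T.op.ranAdjunction_counit AddCommGrpCat.{u}) H.obj)

/-- The chosen right Kan extension is pointwise. -/
noncomputable def isPointwise {C D : Type u} [Category.{u} C] [Category.{u} D] (T : C ⥤ D)
    (J : GrothendieckTopology C) (K : GrothendieckTopology D) [T.IsContinuous J K]
    [T.IsCocontinuous J K] (H : Sheaf J AddCommGrpCat.{u}) :
    (RightExtension.mk ((Rs T J K).obj H).obj
      ((adjR T J K).counit.app H).hom).IsPointwiseRightKanExtension := by
  rw [counit_hom]
  exact isPointwiseRightKanExtensionOfIsRightKanExtension (L := T.op) (T.op.ran.obj H.obj)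
    (T.op.ranCounit.app H.obj)

/-- The base change map is invertible at objects where the comparison of comma categories is
initial. -/
theorem isIso_βR_app_app [i.IsCocontinuous J K] [i'.IsCocontinuous J' K']
    (H : Sheaf J AddCommGrpCat.{u}) (d' : D') [(post w d').Initial] :
    IsIso (((βR w J J' K K').app H).hom.app (op d')) := by
  let EH := RightExtension.mk ((Rs i J K).obj H).obj ((adjR i J K).counit.app H).hom
  let E' := RightExtension.mk ((Rs i' J' K').obj ((rs P J' J).obj H)).obj
    ((adjR i' J' K').counit.app ((rs P J' J).obj H)).hom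
  let γ : i'.op ⋙ Q.op ⋙ ((Rs i J K).obj H).obj ⟶ P.op ⋙ H.obj :=
    ((sqIso w J J' K K').hom.app ((Rs i J K).obj H)).hom ≫
      whiskerLeft P.op ((adjR i J K).counit.app H).hom
  let E := RightExtension.mk (Q.op ⋙ ((Rs i J K).obj H).obj) γ
  have hh : whiskerLeft i'.op ((βR w J J' K K').app H).hom ≫ E'.hom = γ :=
    congrArg (fun f => f.hom) (mateEquiv_counit (adjR i J K) (adjR i' J' K') (sqCell w J J' K K') H)
  let φ : E ⟶ E' := CostructuredArrow.homMk ((βR w J J' K K').app H).hom hh
  have h₁ : IsLimit ((EH.coneAt (op (Q.obj d'))).whisker (post w d')) :=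
    (Functor.Initial.isLimitWhiskerEquiv (post w d') _).symm (isPointwise i J K H _)
  have h₂ : E.IsPointwiseRightKanExtensionAt (op d') := by
    refine IsLimit.ofIsoLimit h₁ (Cone.ext (Iso.refl _) fun X => ?_)
    change ((Rs i J K).obj H).obj.map ((Q.map X.hom.unop).op ≫ (w.hom.app X.right.unop).op) ≫
        ((adjR i J K).counit.app H).hom.app (op (P.obj X.right.unop)) =
      𝟙 _ ≫ ((Rs i J K).obj H).obj.map (Q.map X.hom.unop).op ≫ γ.app X.right
    rw [Category.id_comp, Functor.map_comp, Category.assoc]
    rfl
  have h₃ : E'.IsPointwiseRightKanExtensionAt (op d') := isPointwise i' J' K' _ _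
  exact ((Cone.forget _).mapIso (@asIso _ _ _ _ ((RightExtension.coneAtFunctor i'.op _ (op d')).map φ)
    (IsLimit.hom_isIso h₂ h₃ _))).isIso_hom

/-- The base change map is invertible when all comparisons of comma categories are initial. -/
theorem isIso_βR [i.IsCocontinuous J K] [i'.IsCocontinuous J' K']
    (h : ∀ d', (post w d').Initial) : IsIso (βR w J J' K K') := by
  rw [NatTrans.isIso_iff_isIso_app]
  intro H
  have : IsIso ((sheafToPresheaf K' AddCommGrpCat.{u}).map ((βR w J J' K K').app H)) := by
    rw [NatTrans.isIso_iff_isIso_app]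
    intro d'
    have := h d'.unop
    exact isIso_βR_app_app w J J' K K' H d'.unop
  exact isIso_of_reflects_iso _ (sheafToPresheaf K' AddCommGrpCat.{u})

/-- The base change map for left Kan extensions. -/
noncomputable def βL :
    rs P J' J ⋙ Ls i' J' K' ⟶ Ls i J K ⋙ rs Q K' K :=
  ((mateEquiv (adjL i J K) (adjL i' J' K')).symm
    (TwoSquare.mk (rs i J K) (rs Q K' K) (rs P J' J) (rs i' J' K')
      (sqIso w J J' K K').inv)).natTrans

lemma sqIso_inv_eq : (sqIso w J J' K K').inv = (sqIso w.symm K' J' K J).hom := by
  ext H x
  rfl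

/-- The left base change map is invertible if the right one of the transposed square is. -/
theorem isIso_βL [P.IsCocontinuous J' J] [Q.IsCocontinuous K' K]
    (h : IsIso (βR w.symm K' J' K J)) : IsIso (βL w J J' K K') := by
  let M : TwoSquare (rs P J' J) (Ls i J K) (Ls i' J' K') (rs Q K' K) :=
    TwoSquare.mk _ _ _ _ (βL w J J' K K')
  have e := iterated_mateEquiv_conjugateEquiv (adjL i J K) (adjL i' J' K') (adjR P J' J)
    (adjR Q K' K) M
  have e' : mateEquiv (adjL i J K) (adjL i' J' K') M = sqCell w.symm K' J' K J := by
    refine (Equiv.apply_symm_apply _ _).trans ?_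
    exact congrArg (TwoSquare.mk _ _ _ _) (sqIso_inv_eq w J J' K K')
  rw [e'] at e
  have : IsIso (conjugateEquiv ((adjL i J K).comp (adjR Q K' K))
      ((adjR P J' J).comp (adjL i' J' K')) M.natTrans) := e ▸ h
  exact conjugateEquiv_of_iso ((adjL i J K).comp (adjR Q K' K))
    ((adjR P J' J).comp (adjL i' J' K')) M.natTrans

end

end Groth.Agent.FibDescLib
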