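import Groth.Prelude.Def_FibDesc
import Groth.Agent.FibSite.Sheaves
import Groth.Agent.FibDescLib.InjPres

/-!
# Total sites of diagrams of spaces and their open maps
-/

universe u

open CategoryTheory CategoryTheory.Limits Opposite TopologicalSpace Pseudofunctor.CoGrothendieck

namespace Groth.Agent.FibDescLib

variable {S : Type} [Category.{0} S]

/-- The fibred category of opens of a diagram of spaces. -/
noncomputable abbrev tf (Y : S ⥤ TopCat.{u}) : Pseudofunctor (LocallyDiscrete Sᵒᵖ) Cat.{u, u} :=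
  (Y.op ⋙ FibDesc.opensCat).toPseudofunctor'

/-- The total category. -/
abbrev Tot (Y : S ⥤ TopCat.{u}) : Type u := ∫ᶜ (tf Y)

/-- Its fibre topologies. -/
noncomputable abbrev tops (Y : S ⥤ TopCat.{u}) : FibSite.Topologies (tf Y) :=
  fun i => Opens.grothendieckTopology (Y.obj i)

/-- The total topology. -/
noncomputable abbrev jt (Y : S ⥤ TopCat.{u}) : GrothendieckTopology (Tot Y) :=
  FibSite.totalTopology (tf Y) (tops Y)

variable {Y : S ⥤ TopCat.{u}}

lemma isPre (Y : S ⥤ TopCat.{u}) : FibSite.IsPreFibSite (tf Y) (tops Y) := fun R T f =>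
  inferInstanceAs ((Opens.map (Y.map f)).IsContinuous
    (Opens.grothendieckTopology (Y.obj T)) (Opens.grothendieckTopology (Y.obj R)))

/-- An object of the total category. -/
noncomputable abbrev pt (i : S) (U : Opens (Y.obj i)) : Tot Y := ⟨i, U⟩

/-- The open set of an object. -/
noncomputable abbrev opn (X : Tot Y) : Opens (Y.obj X.base) := X.fiber

/-- A morphism of the total category. -/
noncomputable def mkHom {A B : Tot Y} (f : A.base ⟶ B.base)
    (h : ∀ x ∈ opn A, Y.map f x ∈ opn B) : A ⟶ B :=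
  ⟨f, homOfLE (X := Opens (Y.obj A.base)) (x := opn A) (y := (Opens.map (Y.map f)).obj (opn B)) h⟩

lemma hom_mem {A B : Tot Y} (φ : A ⟶ B) : ∀ x ∈ opn A, Y.map φ.base x ∈ opn B :=
  leOfHom (X := Opens (Y.obj A.base)) (x := opn A) (y := (Opens.map (Y.map φ.base)).obj (opn B))
    φ.fiber

lemma hom_ext {A B : Tot Y} (φ ψ : A ⟶ B) (h : φ.base = ψ.base) : φ = ψ := by
  obtain ⟨f, x⟩ := φ
  obtain ⟨g, y⟩ := ψ
  cases h
  have : Subsingleton (opn A ⟶ (Opens.map (Y.map f)).obj (opn B)) := inferInstance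
  congr 1
  exact @Subsingleton.elim _ this _ _

@[simp] lemma mkHom_base {A B : Tot Y} (f : A.base ⟶ B.base)
    (h : ∀ x ∈ opn A, Y.map f x ∈ opn B) : (mkHom f h).base = f := rfl

lemma map_id_apply (i : S) (x : Y.obj i) : Y.map (𝟙 i) x = x := by
  rw [CategoryTheory.Functor.map_id]; rfl

lemma map_comp_apply {i j k : S} (f : i ⟶ j) (g : j ⟶ k) (x : Y.obj i) :
    Y.map (f ≫ g) x = Y.map g (Y.map f x) := by
  rw [CategoryTheory.Functor.map_comp]; rfl

/-- The morphism given by an inclusion in a fibre. -/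
noncomputable def incHom {i : S} {V U : Opens (Y.obj i)} (h : V ≤ U) : pt i V ⟶ pt i U :=
  mkHom (A := pt i V) (B := pt i U) (𝟙 i) fun y hy =>
    (map_id_apply (Y := Y) i y).symm ▸ h hy

@[simp] lemma incHom_base {i : S} {V U : Opens (Y.obj i)} (h : V ≤ U) :
    (incHom h).base = 𝟙 i := rfl

lemma mem_jt_iff {i : S} (U : Opens (Y.obj i)) (T : Sieve (pt i U)) :
    T ∈ jt Y (pt i U) ↔ ∀ x ∈ U, ∃ (V : Opens (Y.obj i)) (h : V ≤ U), x ∈ V ∧ T (incHom h) := by
  refine (Groth.Agent.FibSite.mem_totalTopology_iff_functorPullback (tops Y) (isPre Y) i U T).trans ?_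
  constructor
  · intro h x hx
    obtain ⟨V, g, hg, hxV⟩ := h x hx
    refine ⟨V, leOfHom g, hxV, ?_⟩
    have e : (ι (tf Y) i).map g = incHom (leOfHom g) :=
      hom_ext ((ι (tf Y) i).map g) (incHom (leOfHom g)) rfl
    exact e ▸ hg
  · intro h x hx
    obtain ⟨V, hV, hxV, hT⟩ := h x hx
    refine ⟨V, homOfLE hV, ?_, hxV⟩
    have e : (ι (tf Y) i).map (homOfLE (X := Opens (Y.obj i)) hV) = incHom hV :=
      hom_ext ((ι (tf Y) i).map (homOfLE (X := Opens (Y.obj i)) hV)) (incHom hV) rfl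
    change T ((ι (tf Y) i).map (homOfLE (X := Opens (Y.obj i)) hV))
    rw [e]
    exact hT

variable {S' : Type} [Category.{0} S']

/-- An open map of diagrams of spaces, cartesian on its image. -/
structure Mor (Y' : S' ⥤ TopCat.{u}) (Y : S ⥤ TopCat.{u}) where
  /-- on indices -/
  ψ : S' ⥤ S
  /-- on spaces -/
  e : Y' ⟶ ψ ⋙ Y
  isOpenEmbedding : ∀ i, Topology.IsOpenEmbedding (e.app i)
  cart : ∀ {i j : S'} (b : i ⟶ j) (y : (ψ ⋙ Y).obj i),
    (ψ ⋙ Y).map b y ∈ Set.range (e.app j) → y ∈ Set.range (e.app i)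

namespace Mor

variable {Y' : S' ⥤ TopCat.{u}} (T : Mor Y' Y)

/-- the image of an open -/
def img (i : S') (U : Opens (Y'.obj i)) : Opens (Y.obj (T.ψ.obj i)) :=
  ⟨T.e.app i '' (U : Set _), (T.isOpenEmbedding i).isOpenMap _ U.isOpen⟩

lemma nat_apply {i j : S'} (b : i ⟶ j) (x : Y'.obj i) :
    Y.map (T.ψ.map b) (T.e.app i x) = T.e.app j (Y'.map b x) :=
  (ConcreteCategory.congr_hom (T.e.naturality b) x).symm

/-- The functor on total categories. -/
noncomputable def functor : Tot Y' ⥤ Tot Y where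
  obj A := pt (T.ψ.obj A.base) (T.img A.base (opn A))
  map {A B} φ := mkHom (T.ψ.map φ.base) fun y hy => by
    obtain ⟨x, hx, rfl⟩ := hy
    exact ⟨Y'.map φ.base x, hom_mem φ x hx, (T.nat_apply φ.base x).symm⟩
  map_id A := hom_ext _ _ (T.ψ.map_id _)
  map_comp φ ψ := hom_ext _ _ (T.ψ.map_comp _ _)

@[simp] lemma functor_map_base {A B : Tot Y'} (φ : A ⟶ B) :
    (T.functor.map φ).base = T.ψ.map φ.base := rfl

instance isCocontinuous : T.functor.IsCocontinuous (jt Y') (jt Y) where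
  cover_lift {A R} hR := by
    obtain ⟨i, U⟩ := A
    refine (mem_jt_iff U _).2 fun x hx => ?_
    obtain ⟨V, hV, hxV, hRV⟩ := (mem_jt_iff (T.img i U) R).1 hR (T.e.app i x) ⟨x, hx, rfl⟩
    let W : Opens (Y'.obj i) := (Opens.map (T.e.app i)).obj V ⊓ U
    refine ⟨W, inf_le_right, ⟨hxV, hx⟩, ?_⟩
    change R (T.functor.map (incHom (inf_le_right : W ≤ U)))
    have hsub : T.img i W ≤ V := by
      rintro y ⟨z, hz, rfl⟩
      exact hz.1
    have key : T.functor.map (incHom (inf_le_right : W ≤ U)) = incHom hsub ≫ incHom hV :=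
      hom_ext _ _ ((T.ψ.map_id i).trans (Category.comp_id (𝟙 (T.ψ.obj i))).symm)
    rw [key]
    exact R.downward_closed hRV _

instance isContinuous : T.functor.IsContinuous (jt Y') (jt Y) := by
  rw [Groth.Agent.FibSite.isContinuous_iff (isPre Y')]
  intro i
  let f : Y'.obj i ⟶ Y.obj (T.ψ.obj i) := T.e.app i
  have hf : Topology.IsOpenEmbedding f := T.isOpenEmbedding i
  haveI : hf.isOpenMap.functor.IsContinuous (Opens.grothendieckTopology (Y'.obj i))
      (Opens.grothendieckTopology (Y.obj (T.ψ.obj i))) := hf.functor_isContinuous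
  haveI : (hf.isOpenMap.functor ⋙ ι (tf Y) (T.ψ.obj i)).IsContinuous (tops Y' i) (jt Y) :=
    @Functor.isContinuous_comp _ _ _ _ _ _ (hf.isOpenMap.functor) (ι (tf Y) (T.ψ.obj i))
      (Opens.grothendieckTopology (Y'.obj i)) (Opens.grothendieckTopology (Y.obj (T.ψ.obj i))) _
      _ (Groth.Agent.FibSite.ι_isContinuous (isPre Y) (T.ψ.obj i))
  have e : hf.isOpenMap.functor ⋙ ι (tf Y) (T.ψ.obj i) ≅ ι (tf Y') i ⋙ T.functor :=
    NatIso.ofComponents (fun U => Iso.refl _) (fun g => (Category.comp_id _).trans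
      ((hom_ext _ _ (T.ψ.map_id i).symm).trans (Category.id_comp _).symm))
  exact Functor.isContinuous_of_iso e _ _

/-- A multi-initial-object structure on the comma categories of the index functor. -/
structure MultiInit (ψ : S' ⥤ S) where
  /-- pieces -/
  κ : S → Type
  /-- initial object of a piece -/
  obj : ∀ {k}, κ k → S'
  /-- its structure map -/
  hom : ∀ {k} (a : κ k), k ⟶ ψ.obj (obj a)
  exists_fac : ∀ {k i} (b : k ⟶ ψ.obj i), ∃ (a : κ k) (g : obj a ⟶ i), hom a ≫ ψ.map g = b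
  eq_of_fac : ∀ {k i} {a a' : κ k} (g : obj a ⟶ i) (g' : obj a' ⟶ i),
    hom a ≫ ψ.map g = hom a' ≫ ψ.map g' → a = a'
  hom_ext : ∀ {k i} {a : κ k} (g g' : obj a ⟶ i), hom a ≫ ψ.map g = hom a ≫ ψ.map g' → g = g'

/-- The index functor of an identity. -/
def MultiInit.id : MultiInit (𝟭 S) where
  κ _ := PUnit
  obj {k} _ := k
  hom _ := 𝟙 _
  exists_fac b := ⟨⟨⟩, b, Category.id_comp _⟩
  eq_of_fac _ _ _ := rfl
  hom_ext g g' h := (Category.id_comp g).symm.trans (h.trans (Category.id_comp g'))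

variable (M : MultiInit T.ψ)

include M in
/-- Componentwise flatness. -/
noncomputable def compFlat : CompFlat T.functor where
  κ d := ULift.{u} (M.κ d.base)
  idx {d x} φ := ⟨(M.exists_fac φ.base).choose⟩
  idx_comp {d x y} φ g := by
    obtain ⟨h₁, e₁⟩ := (M.exists_fac φ.base).choose_spec
    obtain ⟨h₂, e₂⟩ := (M.exists_fac (φ ≫ T.functor.map g).base).choose_spec
    refine ULift.ext _ _ (M.eq_of_fac h₂ (h₁ ≫ g.base) ?_)
    rw [e₂, T.ψ.map_comp, ← Category.assoc, e₁]
    rfl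
  bound {d x y} φ χ hφ := by
    obtain ⟨g₁, e₁⟩ := (M.exists_fac φ.base).choose_spec
    obtain ⟨g₂, e₂⟩ := (M.exists_fac χ.base).choose_spec
    have hh : (M.exists_fac φ.base).choose = (M.exists_fac χ.base).choose := congrArg ULift.down hφ
    revert g₂ e₂
    rw [← hh]
    intro g₂ e₂
    let a := (M.exists_fac φ.base).choose
    let W : Opens (Y'.obj (M.obj a)) :=
      (Opens.map (Y'.map g₁)).obj (opn x) ⊓ (Opens.map (Y'.map g₂)).obj (opn y)
    have hW : ∀ v ∈ opn d, Y.map (M.hom a) v ∈ T.img (M.obj a) W := by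
      intro v hv
      obtain ⟨s, hs, hse⟩ := hom_mem φ v hv
      obtain ⟨t, ht, hte⟩ := hom_mem χ v hv
      replace hse : T.e.app x.base s = Y.map (T.ψ.map g₁) (Y.map (M.hom a) v) :=
        hse.trans (by rw [← TopCat.comp_app, ← Y.map_comp]; exact congrArg (fun f => Y.map f v) e₁.symm)
      replace hte : T.e.app y.base t = Y.map (T.ψ.map g₂) (Y.map (M.hom a) v) :=
        hte.trans (by rw [← TopCat.comp_app, ← Y.map_comp]; exact congrArg (fun f => Y.map f v) e₂.symm)
      obtain ⟨z, hz⟩ := T.cart g₁ _ ⟨s, hse⟩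
      refine ⟨z, ⟨?_, ?_⟩, hz⟩
      · rw [← hz, T.nat_apply] at hse
        exact (show Y'.map g₁ z ∈ opn x from (T.isOpenEmbedding x.base).injective hse ▸ hs)
      · rw [← hz, T.nat_apply] at hte
        exact (show Y'.map g₂ z ∈ opn y from (T.isOpenEmbedding y.base).injective hte ▸ ht)
    exact ⟨pt (M.obj a) W, mkHom (M.hom a) hW, mkHom g₁ (fun _ h => h.1), mkHom g₂ (fun _ h => h.2),
      hom_ext _ _ e₁, hom_ext _ _ e₂⟩
  equalize {d x y} φ g g' hgg := by
    obtain ⟨h₁, e₁⟩ := (M.exists_fac φ.base).choose_spec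
    let a := (M.exists_fac φ.base).choose
    have hW : ∀ v ∈ opn d, Y.map (M.hom a) v ∈ T.img (M.obj a) ((Opens.map (Y'.map h₁)).obj (opn x)) := by
      intro v hv
      obtain ⟨s, hs, hse⟩ := hom_mem φ v hv
      replace hse : T.e.app x.base s = Y.map (T.ψ.map h₁) (Y.map (M.hom a) v) :=
        hse.trans (by rw [← TopCat.comp_app, ← Y.map_comp]; exact congrArg (fun f => Y.map f v) e₁.symm)
      obtain ⟨z, hz⟩ := T.cart h₁ _ ⟨s, hse⟩
      refine ⟨z, ?_, hz⟩
      rw [← hz, T.nat_apply] at hse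
      exact (show Y'.map h₁ z ∈ opn x from (T.isOpenEmbedding x.base).injective hse ▸ hs)
    refine ⟨pt (M.obj a) _, mkHom (M.hom a) hW, mkHom h₁ (fun _ h => h), hom_ext _ _ e₁,
      hom_ext _ _ (M.hom_ext (h₁ ≫ g.base) (h₁ ≫ g'.base) ?_)⟩
    have hb : φ.base ≫ T.ψ.map g.base = φ.base ≫ T.ψ.map g'.base :=
      congrArg (fun f => f.base) hgg
    rw [T.ψ.map_comp, T.ψ.map_comp, ← Category.assoc, ← Category.assoc, e₁]
    exact hb

include M in
lemma preservesInjectiveObjects_rs :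
    (rs T.functor (jt Y') (jt Y)).PreservesInjectiveObjects :=
  (T.compFlat M).preservesInjectiveObjects_rs _ _

include M in
lemma preservesFiniteLimits_Ls : PreservesFiniteLimits (Ls T.functor (jt Y') (jt Y)) :=
  (T.compFlat M).preservesFiniteLimits_Ls _ _

end Mor

/-- A functor is initial if in each comma category every object is connected to a chosen one. -/
lemma initial_of_zigzag {C D : Type*} [Category C] [Category D] (F : C ⥤ D)
    (h : ∀ X : D, ∃ Y₀ : CostructuredArrow F X, ∀ Z, Zigzag Z Y₀) : F.Initial where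
  out X := by
    obtain ⟨Y₀, hY⟩ := h X
    have : Nonempty (CostructuredArrow F X) := ⟨Y₀⟩
    exact zigzag_isConnected fun a b => (hY a).trans (Zigzag.symm (hY b))

end Groth.Agent.FibDescLib
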